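import Cfsg.Agent.Lib.H87.Crit4
set_option autoImplicit false

open Cfsg Cfsg.FusionSystem

namespace H87.Crit
open H87.Base H87.Basic H87.Syl H87.Sat H87.Grow H87.ConstrEq H87.Bridge H87.Cut

variable {Ω : Type*} [Group Ω] {S : Subgroup Ω} {F : FusionSystem S} {P Q R R₂ M U X Y P₀ : Subgroup Ω}
  {f g h k θ σ α : Ω → Ω} {p : ℕ}

/-- `O_p(Aut_F(P))` -/
def core (F : FusionSystem S) (p : ℕ) (P : Subgroup Ω) : Subgroup (MulAut P) :=
  (pCore p (F.autGroup P)).map (F.autGroup P).subtype

theorem core_le : core F p P ≤ F.autGroup P := Subgroup.map_subtype_le _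

theorem core_normal : ∀ a ∈ F.autGroup P, ∀ k ∈ core F p P, a * k * a⁻¹ ∈ core F p P := by
  rintro a ha _ ⟨k, hk, rfl⟩
  exact ⟨⟨a, ha⟩ * k * ⟨a, ha⟩⁻¹, (H1.Cores.pCore_normal p).conj_mem k hk _, rfl⟩

theorem core_isPGroup : IsPGroup p (core F p P) := (H1.Cores.isPGroup_pCore p).map _

theorem le_core {N : Subgroup (MulAut P)} (h : N ≤ F.autGroup P) (hn : ∀ a ∈ F.autGroup P, ∀ k ∈ N, a * k * a⁻¹ ∈ N)
    (hp : IsPGroup p N) : N ≤ core F p P := by
  have hN : (N.subgroupOf (F.autGroup P)).Normal := ⟨fun n hn' a => hn a a.2 n hn'⟩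
  have h1 := H1.Cores.le_pCore hN (isPGroup_subgroupOf hp _)
  intro x hx
  exact ⟨⟨x, h hx⟩, h1 hx, rfl⟩

theorem inn_le_autGroup (hP : P ≤ S) : Inn P ≤ F.autGroup P := by
  rw [← H86.FusBasic.autInducedBy_self]
  exact (autInducedBy_map_mono hP).trans (autInducedBy_le_autGroup F hP)

theorem inn_le_core [Finite S] (hS : IsPGroup p S) (hP : P ≤ S) : Inn P ≤ core F p P := by
  refine le_core (inn_le_autGroup hP) ?_ ?_
  · intro a ha k hk
    rw [← H86.FusBasic.autInducedBy_self] at hk ⊢
    obtain ⟨g, hg, hg'⟩ := fn_autInduced hk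
    refine mem_autInduced_of_fn (g := fn a g) (fn_mem a hg) fun x hx => ?_
    have hai := fn_iso hP ha
    have hx' := fn_mem a⁻¹ hx
    rw [fn_mul _ _ hx, fn_mul _ _ hx', hg' _ hx', hai.isMap.map_conj hg hx', fn_apply_inv a hx]
  · rw [← H86.FusBasic.autInducedBy_self]
    exact isPGroup_autInducedBy (hS.to_le hP)

theorem core_transport (hg : IsIso F P Q g) {α : MulAut P} (hα : α ∈ core F p P) :
    (IsIso.congrAut hg) α ∈ core F p Q := by
  obtain ⟨k, hk, hk1, hk2⟩ := hg.symm
  -- the image of `core P` is a normal `p`-subgroup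
  have h1 : (core F p P).map (IsIso.congrAut hg).toMonoidHom ≤ core F p Q := by
    refine le_core ?_ ?_ (core_isPGroup.map _)
    · rintro _ ⟨β, hβ, rfl⟩
      exact IsIso.congrAut_mem hg (core_le hβ)
    · rintro a ha _ ⟨β, hβ, rfl⟩
      refine ⟨(IsIso.congrAut hk a) * β * (IsIso.congrAut hk a)⁻¹, core_normal _ (IsIso.congrAut_mem hk ha) _ hβ, ?_⟩
      have h2 : (IsIso.congrAut hg) (IsIso.congrAut hk a) = a := by
        refine fn_ext fun y hy => ?_
        obtain ⟨x, hx, rfl⟩ := hg.surj hy
        have h3 : fn (IsIso.congrAut hk a) x = k (fn a (g x)) := by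
          have := fn_congrAut hk a (hg.mem hx)
          rwa [hk1 x hx] at this
        rw [fn_congrAut hg _ hx, h3, hk2 _ (fn_mem a (hg.mem hx))]
      show (IsIso.congrAut hg) _ = _
      rw [map_mul, map_mul, map_inv, h2]
      rfl
  exact h1 ⟨α, hα, rfl⟩

/-- S5110. -/
theorem saturated_of_family [Fact p.Prime] [Finite S] (hS : IsPGroup p S) (ℋ : Set (Subgroup Ω))
    (hℋconj : ∀ P ∈ ℋ, ∀ Q, F.IsConj P Q → Q ∈ ℋ)
    (hsat : ∀ P ∈ ℋ, ∃ Q, F.IsConj P Q ∧ F.IsFullyAutomized p Q ∧ F.IsReceptive Q)
    (hgen : ∀ E : FusionSystem S, (∀ P ∈ ℋ, F.Hom P ⊆ E.Hom P) → F ≤ E)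
    (hstar : ∀ P : Subgroup Ω, F.IsCentric P → P ∉ ℋ → ∃ Q, F.IsConj P Q ∧
      ¬ (autInducedBy S Q ⊓ (pCore p ↥(F.autGroup Q)).map (F.autGroup Q).subtype ≤ Inn Q)) :
    F.IsSaturated p := by
  have key : ∀ (m : ℕ) (P : Subgroup Ω), P ≤ S → Nat.card S - Nat.card P = m → ∃ Q, F.IsConj P Q ∧ IsNice F p Q := by
    intro m
    induction m using Nat.strong_induction_on with
    | _ m ih =>
    intro P₁ hP₁S hm
    by_cases hP₁ : P₁ ∈ ℋ
    · obtain ⟨Q, h1, h2⟩ := hsat P₁ hP₁
      exact ⟨Q, h1, h2⟩
    obtain ⟨P, hcP, hfn⟩ := H86.FusSat.exists_fullyNormalized F hP₁S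
    have hPℋ : P ∉ ℋ := fun h => hP₁ (hℋconj P h _ (isConj_symm hcP))
    have hPS : P ≤ S := hfn.1
    have hcard : Nat.card P₁ = Nat.card P := conj_card hcP
    have hPne : P ≠ S := by
      rintro rfl
      have hcen : F.IsCentric P := ⟨le_rfl, fun Q hQ => by
        have h1 := conj_card hQ
        have h2 : Q = P := Subgroup.eq_of_le_of_card_ge (isConj_le hQ).2 h1.le
        rw [h2]; exact centralizerIn_le⟩
      obtain ⟨Q, hQ, hn⟩ := hstar P hcen hPℋ
      have h1 := conj_card hQ
      have h2 : Q = P := Subgroup.eq_of_le_of_card_ge (isConj_le hQ).2 h1.le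
      rw [h2, H86.FusBasic.autInducedBy_self] at hn
      exact hn inf_le_left
    have hlt : P < S := lt_of_le_of_ne hPS hPne
    have hG : ∀ R, R ≤ S → Nat.card P < Nat.card R → ∃ U, F.IsConj R U ∧ IsNice F p U := by
      intro R hR hc
      have h1 : Nat.card R ≤ Nat.card S := card_le_of_le hR le_rfl
      exact ih _ (by omega) R hR rfl
    -- all conjugates reach `P`
    have hreach : ∀ Q, F.IsConj P Q → Reach F Q P := by
      have h1 := gen_principle hℋconj hgen hPℋ hlt (fun Q f => Reach F Q P ↔ Reach F (img Q f) P)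
        (fun Q f g e h => by rw [← img_congr e]; exact h)
        (fun Q Q' f g hc hf hg h1 h2 => by
          have h3 : img Q (g ∘ f) = img Q' g := by
            rw [← H87.Frat.img_img hf.isMap (by rw [hf.eq_img]; exact hg), hf.eq_img]
          rw [h3, h1, hf.eq_img, h2])
        (fun Q Q' f g hc hf hg e1 e2 h => by
          rw [hg.eq_img, h, hf.eq_img])
        (fun Q R f hc hQR hf => by
          have hQS : Q ≤ S := hQR.le.trans hf.le
          have hQfin : Finite Q := finite_of_le hQS
          have hRfin : Finite R := finite_of_le hf.le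
          have hA : Q < R ⊓ normalizerIn S Q := by
            refine lt_of_lt_of_le (lt_normalizerIn (hS.to_le hf.le) hQR) ?_
            intro x hx
            exact ⟨hx.1, hf.le hx.1, hx.2⟩
          have hf' := hf.mono (inf_le_left : R ⊓ normalizerIn S Q ≤ R)
          have hfQ : IsIso F Q (img Q f) f := (hf.mono hQR.le).isIso
          constructor
          · exact fun hr => reach_of_edge hS hG hfn _ Q _ _ f rfl hc hA inf_le_right hf' hfQ hr
          · intro hr
            have hi := hf'.isIso
            obtain ⟨k, hk, k1, k2⟩ := hi.symm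
            have hki := iso_symm_restrict hk k1 hi hA.le hfQ
            refine reach_of_edge hS hG hfn _ _ Q _ k rfl (isConj_trans hc hfQ.isConj) ?_ ?_ hk.isMap hki hr
            · refine lt_of_le_of_ne (img_mono hA.le) fun e => ?_
              have e1 := hfQ.card_eq
              have e2 := hi.card_eq
              have e3 := card_lt_of_lt hA hf'.le
              rw [← e] at e2
              omega
            · intro y hy
              obtain ⟨x, hx, rfl⟩ := (mem_img hf').1 hy
              exact map_mem_norm hf' inf_le_right hA.le hfQ hx)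
      intro Q hQ
      obtain ⟨f, hf⟩ := isConj_iff.1 hQ
      have h2 := (h1 P f (isConj_refl F hPS) hf.isMap).1 (Reach.refl hPS)
      rwa [hf.eq_img] at h2
    have hinn : ∀ x (hx : x ∈ P), cj P (Subgroup.le_normalizer hx) ∈ core F p P := by
      intro x hx
      have h1 : cj P (Subgroup.le_normalizer hx) ∈ autInducedBy P P := cj_mem _ hx
      rw [H86.FusBasic.autInducedBy_self] at h1
      exact inn_le_core hS hPS h1
    have hPK : P ≤ nk S P (core F p P) := fun x hx => ⟨hPS hx, Subgroup.le_normalizer hx, hinn x hx⟩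
    -- `N_S^K(P) > P`
    have hPlt : P < nk S P (core F p P) := by
      obtain ⟨s, hs, hsP⟩ : ∃ s ∈ nk S P (core F p P), s ∉ P := by
        by_cases hcen : F.IsCentric P
        · obtain ⟨Q, hQ, hn⟩ := hstar P hcen hPℋ
          rw [SetLike.not_le_iff_exists] at hn
          obtain ⟨α, hα, hαi⟩ := hn
          obtain ⟨s, hs, hs'⟩ := fn_autInduced hα.1
          have hQS := (isConj_le hQ).2
          have hQfin : Finite Q := finite_of_le hQS
          have hsQ : s ∈ Subgroup.normalizer (Q : Set Ω) := by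
            rw [mem_normalizer_iff_of_finite]
            intro x hx
            rw [← hs' x hx]; exact fn_mem α hx
          obtain ⟨g, hg, hgi⟩ := hreach Q hQ
          have hsN : s ∈ normalizerIn S Q := ⟨hs, hsQ⟩
          have hgN := map_mem_normalizerIn hg hgi hsN
          refine ⟨g s, ⟨hgN.1, hgN.2, ?_⟩, fun h => ?_⟩
          · have h1 := core_transport hgi hα.2
            have h2 : (IsIso.congrAut hgi) α = cj P hgN.2 := by
              refine fn_ext fun y hy => ?_
              obtain ⟨x, hx, rfl⟩ := hgi.surj hy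
              rw [fn_congrAut hgi α hx, hs' x hx, fn_cj hgN.2 hy, hg.map_conj hsN (le_normalizerIn hQS hx)]
            rwa [h2] at h1
          · obtain ⟨x, hx, e⟩ := hgi.surj h
            have h2 := hg.inj (le_normalizerIn hQS hx) hsN e
            apply hαi
            rw [← H86.FusBasic.autInducedBy_self]
            exact mem_autInduced_of_fn (by rw [← h2]; exact hx) hs'
        · have h1 : ∃ Q, F.IsConj P Q ∧ ¬ centralizerIn S Q ≤ Q := by
            by_contra hcon
            push Not at hcon
            exact hcen ⟨hPS, hcon⟩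
          obtain ⟨Q, hQ, hn⟩ := h1
          rw [SetLike.not_le_iff_exists] at hn
          obtain ⟨s, hs, hsQ⟩ := hn
          have hQS := (isConj_le hQ).2
          obtain ⟨g, hg, hgi⟩ := hreach Q hQ
          have hsN : s ∈ normalizerIn S Q := centralizerIn_le_normalizerIn hs
          have hgN := map_mem_normalizerIn hg hgi hsN
          refine ⟨g s, ⟨hgN.1, hgN.2, ?_⟩, fun h => ?_⟩
          · have h2 : cj P hgN.2 = 1 := by
              refine fn_ext fun y hy => ?_
              obtain ⟨x, hx, rfl⟩ := hgi.surj hy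
              rw [fn_cj hgN.2 hy, fn_one hy, ← hg.map_conj hsN (le_normalizerIn hQS hx)]
              congr 1
              have := (mem_centralizerIn.1 hs).2 x hx
              rw [← this]; group
            rw [h2]; exact Subgroup.one_mem _
          · obtain ⟨x, hx, e⟩ := hgi.surj h
            have h2 := hg.inj (le_normalizerIn hQS hx) hsN e
            exact hsQ (by rw [← h2]; exact hx)
      exact lt_of_le_of_ne hPK fun e => hsP (by rw [e]; exact hs)
    have hnkS : nk S P (core F p P) ≤ S := nk_le.trans normalizerIn_le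
    -- every automorphism of `P` extends to `N_S^K(P)`
    have hek : ∀ α, IsIso F P P α → ∃ h, IsMap F (nk S P (core F p P)) h ∧ ∀ x ∈ P, h x = α x := by
      have hch : ∀ Q, ∃ g, F.IsConj P Q → (IsMap F (normalizerIn S Q) g ∧ IsIso F Q P g) := by
        intro Q
        by_cases hQ : F.IsConj P Q
        · obtain ⟨g, hg⟩ := hreach Q hQ
          exact ⟨g, fun _ => hg⟩
        · exact ⟨id, fun h => absurd h hQ⟩
      choose ψ hψ using hch
      let EK : (Ω → Ω) → Prop := fun a => IsIso F P P a ∧ ∃ h, IsMap F (nk S P (core F p P)) h ∧ ∀ x ∈ P, h x = a x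
      have hEKcongr : ∀ a b, EK a → (∀ x ∈ P, a x = b x) → EK b := by
        rintro a b ⟨h1, h, h2, h3⟩ e
        exact ⟨h1.congr e, h, h2, fun x hx => by rw [h3 x hx, e x hx]⟩
      have hself : ∀ a h, IsIso F P P a → IsMap F (nk S P (core F p P)) h → (∀ x ∈ P, h x = a x) →
          IsIso F (nk S P (core F p P)) (nk S P (core F p P)) h := by
        intro a h h1 h2 h3
        have hi : IsIso F P P h := h1.congr fun x hx => (h3 x hx).symm
        exact isIso_of_self h2 fun x hx => (nk_transport core_normal h2 nk_le hPK hi hx).1 hx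
      have hEKcomp : ∀ a b, EK a → EK b → EK (b ∘ a) := by
        rintro a b ⟨h1, h, h2, h3⟩ ⟨k1, k, k2, k3⟩
        have h4 := hself a h h1 h2 h3
        exact ⟨h1.comp k1, k ∘ h, h2.comp k2 fun x hx => h4.mem hx, fun x hx => by
          show k (h x) = b (a x)
          rw [h3 x hx, k3 _ (h1.mem hx)]⟩
      have hEKsymm : ∀ a b, EK a → IsIso F P P b → (∀ x ∈ P, a (b x) = x) → EK b := by
        rintro a b ⟨h1, h, h2, h3⟩ hb e
        obtain ⟨k, hk, k1, k2⟩ := (hself a h h1 h2 h3).symm
        refine ⟨hb, k, hk.isMap, fun x hx => ?_⟩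
        have h4 := k1 _ (hPK (hb.mem hx))
        rw [h3 _ (hb.mem hx), e x hx] at h4
        exact h4
      -- `W`
      have hW := gen_principle hℋconj hgen hPℋ hlt
        (fun Q f => ∃ a, EK a ∧ ∀ x ∈ Q, ψ (img Q f) (f x) = a (ψ Q x))
        (fun Q f g e h => by
          obtain ⟨a, ha, e'⟩ := h
          refine ⟨a, ha, fun x hx => ?_⟩
          rw [← img_congr e, ← e x hx]; exact e' x hx)
        (fun Q Q' f g hc hf hg h1 h2 => by
          obtain ⟨a, ha, ea⟩ := h1
          obtain ⟨b, hb, eb⟩ := h2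
          have h3 : img Q (g ∘ f) = img Q' g := by
            rw [← H87.Frat.img_img hf.isMap (by rw [hf.eq_img]; exact hg), hf.eq_img]
          refine ⟨b ∘ a, hEKcomp a b ha hb, fun x hx => ?_⟩
          rw [h3]
          show ψ (img Q' g) (g (f x)) = b (a (ψ Q x))
          have h4 := ea x hx
          rw [hf.eq_img] at h4
          rw [eb _ (hf.mem hx), h4])
        (fun Q Q' f g hc hf hg e1 e2 h => by
          obtain ⟨a, ha, ea⟩ := h
          obtain ⟨b, hb, b1, b2⟩ := ha.1.symm
          refine ⟨b, hEKsymm a b ha hb b2, fun y hy => ?_⟩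
          rw [hg.eq_img]
          have h4 := ea _ (hg.mem hy)
          rw [hf.eq_img, e2 y hy] at h4
          rw [h4, b1]
          exact (hψ Q hc).2.mem (hg.mem hy))
        (fun Q R f hc hQR hf => by
          have hQS : Q ≤ S := hQR.le.trans hf.le
          have hRfin : Finite R := finite_of_le hf.le
          have hA : Q < R ⊓ normalizerIn S Q := by
            refine lt_of_lt_of_le (lt_normalizerIn (hS.to_le hf.le) hQR) ?_
            intro x hx
            exact ⟨hx.1, hf.le hx.1, hx.2⟩
          have hf' := hf.mono (inf_le_left : R ⊓ normalizerIn S Q ≤ R)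
          have hfQ : IsIso F Q (img Q f) f := (hf.mono hQR.le).isIso
          have hψ1 := hψ Q hc
          have hψ2 := hψ (img Q f) (isConj_trans hc hfQ.isConj)
          -- the map `ψ₂ f ψ₁⁻¹` on `ψ₁(A)`
          have hAm := hψ1.1.mono (inf_le_right : R ⊓ normalizerIn S Q ≤ _)
          have hAi := hAm.isIso
          obtain ⟨k, hk, k1, k2⟩ := hAi.symm
          have hki := iso_symm_restrict hk k1 hAi hA.le hψ1.2
          have hfA : ∀ x ∈ R ⊓ normalizerIn S Q, f x ∈ normalizerIn S (img Q f) :=
            fun x hx => map_mem_norm hf' inf_le_right hA.le hfQ hx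
          have hcomp : IsMap F (img (R ⊓ normalizerIn S Q) (ψ Q)) (fun x => ψ (img Q f) (f (k x))) :=
            (hk.isMap.comp' hf' fun x hx => hk.mem hx).comp' hψ2.1 fun x hx => hfA _ (hk.mem hx)
          have hci : IsIso F P P (fun x => ψ (img Q f) (f (k x))) := (hki.comp hfQ).comp hψ2.2
          have hlt' : P < img (R ⊓ normalizerIn S Q) (ψ Q) := by
            refine lt_of_le_of_ne ?_ fun e => ?_
            · intro y hy
              obtain ⟨x, hx, rfl⟩ := hψ1.2.surj hy
              exact apply_mem_img (hA.le hx)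
            · have e1 := hψ1.2.card_eq
              have e2 := hAi.card_eq
              have e3 := card_lt_of_lt hA hf'.le
              rw [← e] at e2
              omega
          have hle' : img (R ⊓ normalizerIn S Q) (ψ Q) ≤ normalizerIn S P := by
            intro y hy
            obtain ⟨x, hx, rfl⟩ := (mem_img hAm).1 hy
            exact map_mem_normalizerIn hψ1.1 hψ1.2 hx.2
          obtain ⟨h, hh, e⟩ := ek_of_edge hS hG hreach core_le core_normal core_isPGroup hPK _ _ _ rfl hlt' hle' hcomp hci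
          refine ⟨_, ⟨hci, h, hh, e⟩, fun x hx => ?_⟩
          show _ = ψ (img Q f) (f (k (ψ Q x)))
          rw [k1 x (hA.le hx)])
      intro α hα
      obtain ⟨a, ha, ea⟩ := hW P α (isConj_refl F hPS) hα.isMap
      rw [hα.eq_img] at ea
      have hψP := hψ P (isConj_refl F hPS)
      have hEψ : EK (ψ P) := ⟨hψP.2, ψ P, hψP.1.mono nk_le, fun x _ => rfl⟩
      obtain ⟨b, hb, b1, b2⟩ := hψP.2.symm
      have hEb := hEKsymm _ b hEψ hb b2
      have h1 := hEKcomp _ _ (hEKcomp _ _ hEψ ha) hEb
      obtain ⟨h2, h, h3, h4⟩ := h1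
      refine ⟨h, h3, fun x hx => ?_⟩
      rw [h4 x hx]
      show b (a (ψ P x)) = α x
      rw [← ea x hx, b1 _ (hα.mem hx)]
    have hCnk : centralizerIn S P ≤ nk S P (core F p P) := by
      intro c hc
      have hcN : c ∈ normalizerIn S P := centralizerIn_le_normalizerIn hc
      refine ⟨hcN.1, hcN.2, ?_⟩
      have h2 : cj P hcN.2 = 1 := by
        refine fn_ext fun y hy => ?_
        rw [fn_cj hcN.2 hy, fn_one hy, ← (mem_centralizerIn.1 hc).2 y hy]; group
      rw [h2]; exact Subgroup.one_mem _
    have hfull : ∀ α, IsIso F P P α → ∃ h, IsMap F (nphi S P α) h ∧ ∀ x ∈ P, h x = α x := by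
      intro α hα
      obtain ⟨h, hh, e⟩ := hek α hα
      exact ext_full hS hG hreach hα _ _ h rfl hPlt hCnk nk_le hh e
    have hrec : F.IsReceptive P := by
      rw [isReceptive_iff]
      refine ⟨hPS, fun Q f hf => ?_⟩
      obtain ⟨g, hg, hgi⟩ := hreach Q (isConj_symm hf.isConj)
      obtain ⟨k, hk, k1, k2⟩ := hgi.symm
      have hα : IsIso F P P (f ∘ k) := hk.comp hf
      obtain ⟨h, hh, e⟩ := hfull _ hα
      have hQfin : Finite Q := finite_of_le hf.le
      have hPfin : Finite P := finite_of_le hPS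
      refine ⟨h ∘ g, (hg.mono nphi_le_normalizerIn).comp hh fun x hx => ?_, fun x hx => ?_⟩
      · obtain ⟨h1, h2, s, hs, hs'⟩ := mem_nphi.1 hx
        have hxN : x ∈ normalizerIn S Q := ⟨h1, h2⟩
        have hgN := map_mem_normalizerIn hg hgi hxN
        rw [mem_nphi]
        refine ⟨hgN.1, hgN.2, s, hs, fun y hy => ?_⟩
        obtain ⟨z, hz, rfl⟩ := hgi.surj hy
        have hzN := le_normalizerIn hf.le hz
        show f (k _) = s * f (k _) * s⁻¹
        rw [← hg.map_conj hxN hzN, k1 _ (conj_mem_of_mem_normalizer h2 hz), k1 z hz, hs' z hz]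
      · show h (g x) = f x
        rw [e _ (hgi.mem hx)]
        show f (k (g x)) = f x
        rw [k1 x hx]
    exact ⟨P, hcP, fa_of_receptive hS hG hfn hlt hrec, hrec⟩
  exact fun P hP => key _ P hP rfl

end H87.Crit
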