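import Cfsg.Agent.Lib.H87.PPow
import Cfsg.Agent.Lib.H87.CMap
import Cfsg.Agent.Lib.H87.Bridge
import Cfsg.Agent.Lib.H89.Normal
set_option autoImplicit false

open Cfsg Cfsg.FusionSystem

namespace H87.ConstrEq
open H87.Base H87.Basic H87.Syl H87.Sat H87.Grow H87.Inv H87.Frat H87.PPow H87.CMap H87.Bridge

variable {Ω : Type*} [Group Ω] {S T : Subgroup Ω} {F : FusionSystem S} {E E' : FusionSystem T}
  {P Q R : Subgroup Ω} {f g h a b : Ω → Ω} {p : ℕ}

/-- a self-map of a finite subgroup is an isomorphism -/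
theorem isIso_of_self [Finite S] (hf : IsMap F P f) (h : ∀ x ∈ P, f x ∈ P) : IsIso F P P f := by
  have hfin : Finite P := finite_of_le hf.le
  refine hf.isIso_of h fun y hy => ?_
  have hinj : Function.Injective (fun x : P => (⟨f x, h x x.2⟩ : P)) := by
    intro x z hxz
    exact Subtype.ext (hf.inj x.2 z.2 (congrArg Subtype.val hxz))
  obtain ⟨x, hx⟩ := (Finite.injective_iff_surjective.1 hinj) ⟨y, hy⟩
  exact ⟨x, x.2, congrArg Subtype.val hx⟩

/-- `g` normal `p`-by-`p'`: an element `α = γ β` with `β ∈ B`, `B` normal, `γ` of `p`-power order and `α` of order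
prime to `p` lies in `B`. -/
theorem mem_of_mul {X : Type*} [Group X] [Fact p.Prime] {A B : Subgroup X} (hB : B ≤ A)
    (hn : ∀ a ∈ A, ∀ b ∈ B, a * b * a⁻¹ ∈ B) {α β γ : X} (hα : α ∈ A) (hβ : β ∈ B) (e : α = γ * β)
    (hα' : (orderOf α).Coprime p) {k : ℕ} (hγ : γ ^ p ^ k = 1) : α ∈ B := by
  have hγA : γ ∈ A := by
    have : γ = α * β⁻¹ := by rw [e]; group
    rw [this]
    exact Subgroup.mul_mem _ hα (Subgroup.inv_mem _ (hB hβ))
  have hBn : (B.subgroupOf A).Normal := ⟨fun b hb a => hn a a.2 b hb⟩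
  let π := QuotientGroup.mk' (B.subgroupOf A)
  have h1 : π ⟨α, hα⟩ = π ⟨γ, hγA⟩ := by
    have : (⟨α, hα⟩ : A) = ⟨γ, hγA⟩ * ⟨β, hB hβ⟩ := Subtype.ext e
    rw [this, map_mul]
    have h2 : π ⟨β, hB hβ⟩ = 1 := (QuotientGroup.eq_one_iff _).2 hβ
    rw [h2, mul_one]
  have h2 : (π ⟨α, hα⟩) ^ p ^ k = 1 := by
    rw [h1, ← map_pow]
    have : (⟨γ, hγA⟩ : A) ^ p ^ k = 1 := Subtype.ext hγ
    rw [this, map_one]
  have h3 : (π ⟨α, hα⟩) ^ orderOf α = 1 := by
    rw [← map_pow]
    have : (⟨α, hα⟩ : A) ^ orderOf α = 1 := Subtype.ext (pow_orderOf_eq_one α)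
    rw [this, map_one]
  have h4 : orderOf (π ⟨α, hα⟩) = 1 := by
    refine Nat.eq_one_of_dvd_coprimes (Nat.Coprime.pow_right k hα') (orderOf_dvd_of_pow_eq_one h3)
      (orderOf_dvd_of_pow_eq_one h2)
  rw [orderOf_eq_one_iff] at h4
  exact (QuotientGroup.eq_one_iff (N := B.subgroupOf A) (⟨α, hα⟩ : A)).1 h4

/-- Two saturated systems over `T`, with a common normal centric subgroup `R`: if `Aut_E(R) ≤ Aut_{E'}(R)` and
`E'` is strongly invariant in a system containing both, then `E ≤ E'`. -/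
theorem le_of_aut_normal [Fact p.Prime] [Finite S] (hS : IsPGroup p S) (hTS : T ≤ S) (hEs : E.IsSaturated p)
    (hE's : E'.IsSaturated p) (hE : E.IsSubsystemOf F) (hE' : E'.IsSubsystemOf F) (hI : SInv F E')
    (hR : E.IsNormal R) (hR' : E'.IsNormal R) (hRc : centralizerIn T R ≤ R)
    (h : ∀ f, IsMap E R f → IsMap E' R f) : E ≤ E' := by
  have hTfin : Finite T := finite_of_le hTS
  have hTp : IsPGroup p T := hS.to_le hTS
  have hRT : R ≤ T := hR.1
  have hsc := H89.Normal.stronglyClosed_of_isNormal hR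
  have hsc' := H89.Normal.stronglyClosed_of_isNormal hR'
  have hRfin : Finite R := finite_of_le hRT
  -- the main case
  have main : ∀ P : Subgroup Ω, P ≤ T → R ≤ P → ∀ α ∈ E.autGroup P, Nat.Coprime (orderOf α) p →
      α ∈ E'.autGroup P := by
    intro P hPT hRP α hα hc
    have hPS : P ≤ S := hPT.trans hTS
    have hPfin : Finite P := finite_of_le hPT
    obtain ⟨f, hfdef⟩ : ∃ f, f = extFun (P.subtype.comp α.toMonoidHom) := ⟨_, rfl⟩
    have hf : IsIso E P P f := by rw [hfdef]; exact isIso_of_mem_autGroup hPT hα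
    have hfα : ∀ x (hx : x ∈ P), f x = ((α ⟨x, hx⟩ : P) : Ω) := by
      intro x hx
      rw [hfdef, extFun_apply _ hx]; rfl
    have hfF : IsMap F P f := isMap_of_sub hE hf.isMap
    have hfR : IsIso E R R f := StronglyClosed.isMap_iso hsc hf.isMap hRP
    have hfR' : IsIso E' R R f := isIso_of_self (h f hfR.isMap) fun x hx => hfR.mem hx
    have hn := nice_of_fn hTp hE's (CMap.fullyNormalized_of_stronglyClosed hsc')
    obtain ⟨g, hg, hgf⟩ := (isReceptive_iff.1 hn.2).2 R f hfR'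
    have hle : P ≤ nphi T R f := by
      intro x hx
      rw [mem_nphi]
      refine ⟨hPT hx, ?_, f x, hf.le' (hf.mem hx), fun y hy => ?_⟩
      · exact H89.Normal.le_normalizer_of_isNormal hR (hPT hx)
      · exact hf.isMap.map_conj hx (hRP hy)
    have hgP := hg.mono hle
    have hgF : IsMap F P g := isMap_of_sub hE' hgP
    have hconjR : ∀ x ∈ P, ∀ y ∈ R, x * y * x⁻¹ ∈ R := fun x hx y hy =>
      StronglyClosed.conj_mem hsc (hPT hx) hy
    have hdiff : ∀ x ∈ P, (f x)⁻¹ * g x ∈ R ∧ ∀ y ∈ R, y * ((f x)⁻¹ * g x) = ((f x)⁻¹ * g x) * y := by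
      intro x hx
      have hcomm : ∀ y ∈ R, y * ((f x)⁻¹ * g x) = ((f x)⁻¹ * g x) * y := by
        intro y hy
        obtain ⟨y', hy', rfl⟩ := hfR.surj hy
        have h1 := hgf _ (hconjR x hx y' hy')
        rw [hf.isMap.map_conj hx (hRP hy'), hgP.map_conj hx (hRP hy'), hgf y' hy'] at h1
        have h2 : g x * f y' = f x * f y' * (f x)⁻¹ * g x := by
          rw [← h1]; group
        calc f y' * ((f x)⁻¹ * g x) = (f x)⁻¹ * (f x * f y' * (f x)⁻¹ * g x) := by group
          _ = (f x)⁻¹ * g x * f y' := by rw [← h2]; group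
      refine ⟨hRc ?_, hcomm⟩
      rw [mem_centralizerIn]
      exact ⟨Subgroup.mul_mem _ (Subgroup.inv_mem _ (hf.isMap.mem hx)) (hgP.mem hx), hcomm⟩
    have hgmem : ∀ x ∈ P, g x ∈ P := by
      intro x hx
      have h1 := Subgroup.mul_mem _ (hf.mem hx) (hRP (hdiff x hx).1)
      have h2 : f x * ((f x)⁻¹ * g x) = g x := by group
      rwa [h2] at h1
    have hgi : IsIso E' P P g := isIso_of_self hgP hgmem
    obtain ⟨β, hβdef⟩ : ∃ β, β = hgi.aut := ⟨_, rfl⟩
    have hβ : β ∈ E'.autGroup P := by rw [hβdef]; exact hgi.aut_mem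
    have hβg : ∀ x (hx : x ∈ P), ((β ⟨x, hx⟩ : P) : Ω) = g x := by
      intro x hx
      rw [hβdef, IsIso.aut_apply]
    -- γ = α * β⁻¹
    obtain ⟨γ, hγdef⟩ : ∃ γ, γ = α * β⁻¹ := ⟨_, rfl⟩
    have hγβ : ∀ x : P, γ (β x) = α x := by
      intro x
      rw [hγdef, MulAut.mul_apply, MulAut.inv_apply_self]
    -- γ moves x by an element of Z(R), and fixes R
    have hγ1 : ∀ x : P, ((x : Ω)⁻¹ * (γ x : P) ∈ R) ∧ ∀ y ∈ R, y * ((x : Ω)⁻¹ * (γ x : P)) = ((x : Ω)⁻¹ * (γ x : P)) * y := by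
      intro x
      obtain ⟨y, rfl⟩ := β.surjective x
      rw [hγβ]
      have h1 := hdiff y y.2
      have e1 : ((β y : P) : Ω) = g y := hβg y y.2
      have e2 : ((α y : P) : Ω) = f y := (hfα y y.2).symm
      rw [e1, e2]
      have e3 : (g y)⁻¹ * f y = ((f y)⁻¹ * g y)⁻¹ := by group
      rw [e3]
      refine ⟨Subgroup.inv_mem _ h1.1, fun z hz => ?_⟩
      have h2 := h1.2 z hz
      have h3 : Commute z ((f y)⁻¹ * g y) := h2
      exact h3.inv_right
    have hγR : ∀ x : P, (x : Ω) ∈ R → γ x = x := by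
      intro x hx
      obtain ⟨y, rfl⟩ := β.surjective x
      rw [hγβ]
      have hy : (y : Ω) ∈ R := by
        obtain ⟨y', hy', e⟩ := hfR.surj hx
        have : (β ⟨y', hRP hy'⟩ : P) = β y := by
          apply Subtype.ext
          rw [hβg, hgf y' hy', e]
        have h2 := β.injective this
        rw [← h2]; exact hy'
      apply Subtype.ext
      rw [← hfα y y.2, hβg y y.2, hgf _ hy]
    have hγpow : ∀ (n : ℕ) (x : P), (((γ ^ n) x : P) : Ω) = x * ((x : Ω)⁻¹ * (γ x : P)) ^ n := by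
      intro n x
      obtain ⟨z, hz⟩ : ∃ z : P, (z : Ω) = (x : Ω)⁻¹ * (γ x : P) := ⟨x⁻¹ * γ x, rfl⟩
      have hzR : (z : Ω) ∈ R := by rw [hz]; exact (hγ1 x).1
      have hγx : γ x = x * z := by
        apply Subtype.ext
        push_cast
        rw [hz]; group
      have : (γ ^ n) x = x * z ^ n := by
        induction n with
        | zero => simp
        | succ n ih =>
          rw [pow_succ', MulAut.mul_apply, ih, map_mul, map_pow, hγR z hzR, hγx, pow_succ', mul_assoc]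
      rw [this]
      push_cast
      rw [hz]
    obtain ⟨k, hk⟩ := IsPGroup.iff_card.1 (hTp.to_le hRT)
    have hγk : γ ^ p ^ k = 1 := by
      ext x
      rw [hγpow]
      have h1 : ((x : Ω)⁻¹ * (γ x : P)) ^ p ^ k = 1 := by
        rw [← hk]
        exact congrArg Subtype.val (pow_card_eq_one' (G := R) (x := ⟨_, (hγ1 x).1⟩))
      rw [h1]
      simp
    refine mem_of_mul (A := F.autGroup P) (autGroup_mono hE' P) (hI.aut_normal hTS hE' hPT) (autGroup_mono hE P hα)
      hβ (γ := γ) ?_ hc hγk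
    rw [hγdef]; group
  refine H88.Focal.le_of_coprime_aut hTp hEs E' fun P hPT α hα hc => ?_
  have hPfin : Finite P := finite_of_le hPT
  have hf := isIso_of_mem_autGroup hPT hα
  obtain ⟨g, hg, hgf, hgR⟩ := (isNormal_iff.1 hR).2 P _ hf.isMap
  have hgi : IsIso E (P ⊔ R) (P ⊔ R) g := by
    refine isIso_of_self hg fun x hx => ?_
    refine mem_of_sup hg (fun x hx => ?_) (fun x hx => ?_) x hx
    · rw [hgf x hx]; exact (le_sup_left : P ≤ _) (hf.mem hx)
    · exact (le_sup_right : R ≤ _) (hgR x hx)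
  have hfin : Finite ↥(P ⊔ R) := finite_of_le hg.le
  obtain ⟨k, hk, hk2⟩ := exists_coprime_power (p := p) (le_sup_left : P ≤ P ⊔ R) (α := hgi.aut)
    (β := α) (fun x hx => by rw [IsIso.aut_apply, hgf x hx, extFun_apply _ hx]; rfl) hc
  have h1 := main (P ⊔ R) hg.le le_sup_right (hgi.aut ^ k) (Subgroup.pow_mem _ hgi.aut_mem k) hk
  have h2 := (isIso_of_mem_autGroup hg.le h1).isMap.mono (le_sup_left : P ≤ P ⊔ R)
  refine mem_autGroup_of_isMap hPT h2 fun x => ?_
  rw [extFun_apply _ ((le_sup_left : P ≤ P ⊔ R) x.2)]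
  exact hk2 x x.2

end H87.ConstrEq
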