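import Cfsg.Agent.Lib.H87.NE5
import Cfsg.Agent.Lib.H87.ConstrEq
import Cfsg.Agent.Lib.H90.Transfer
set_option autoImplicit false

open Cfsg Cfsg.FusionSystem

namespace H87.CE
open H87.Base H87.Basic H87.Syl H87.Sat H87.Grow H87.Inv H87.Frat H87.Cut H87.PPow H87.Crit H87.PPr H87.CMap H87.NE
open H87.ConstrEq
open scoped commutatorElement

variable {Ω : Type*} [Group Ω] {S T : Subgroup Ω} {F : FusionSystem S} {E D : FusionSystem T}
  {P Q R M N U X A Z W : Subgroup Ω} {f g h a b : Ω → Ω} {p : ℕ}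

/-- coprime action: elements fixed modulo `Z` are fixed elements times elements of `Z`. -/
theorem exists_fixed_mod [Fact p.Prime] {κ : MulAut M} (hn : (orderOf κ).Coprime p) {x : Ω} (hx : x ∈ M)
    (hxp : ∃ e : ℕ, x ^ p ^ e = 1) (hZM : Z ≤ M) (hZ : ∀ z ∈ Z, fn κ z ∈ Z) (hxZ : x⁻¹ * fn κ x ∈ Z)
    (hc : ∀ z ∈ Z, x * z = z * x) : ∃ y ∈ M, ∃ z ∈ Z, x = y * z ∧ fn κ y = y := by
  have h1 : ∀ i : ℕ, ∃ w ∈ Z, fn (κ ^ i) x = x * w := by
    intro i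
    induction i with
    | zero => exact ⟨1, Z.one_mem, by rw [pow_zero, fn_one hx, mul_one]⟩
    | succ i ih =>
      obtain ⟨w, hw, e⟩ := ih
      refine ⟨x⁻¹ * fn κ x * fn κ w, Z.mul_mem hxZ (hZ w hw), ?_⟩
      rw [fn_pow_succ κ i hx, e, fn_map_mul κ hx (hZM hw)]
      group
  have h2 : ∀ i : ℕ, ∃ y ∈ M, (∃ z ∈ Z, y = x ^ i * z) ∧ fn κ y = x⁻¹ * y * fn (κ ^ i) x := by
    intro i
    induction i with
    | zero =>
      refine ⟨1, M.one_mem, ⟨1, Z.one_mem, by simp⟩, ?_⟩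
      rw [pow_zero, fn_one hx]
      have h3 := fn_map_mul κ M.one_mem M.one_mem
      rw [mul_one] at h3
      have h4 : fn κ (1 : Ω) = 1 := by
        have h5 := congrArg (fun t => t * (fn κ (1 : Ω))⁻¹) h3
        simpa using h5.symm
      rw [h4]; group
    | succ i ih =>
      obtain ⟨y, hy, ⟨z, hz, e⟩, e'⟩ := ih
      obtain ⟨w, hw, ew⟩ := h1 i
      refine ⟨y * fn (κ ^ i) x, M.mul_mem hy (fn_mem _ hx), ⟨z * w, Z.mul_mem hz hw, ?_⟩, ?_⟩
      · rw [e, ew, pow_succ]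
        have := hc z hz
        calc x ^ i * z * (x * w) = x ^ i * (z * x) * w := by group
          _ = x ^ i * (x * z) * w := by rw [this]
          _ = _ := by group
      · rw [fn_map_mul κ hy (fn_mem _ hx), e', ← fn_pow_succ κ i hx]
        group
  obtain ⟨e, he⟩ := hxp
  set n := orderOf κ with hndef
  obtain ⟨y, hy, ⟨z, hz, ey⟩, e'⟩ := h2 n
  have hfix : fn κ y = y := by
    rw [e', pow_orderOf_eq_one, fn_one hx, ey]
    have := hc z hz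
    calc x⁻¹ * (x ^ n * z) * x = x⁻¹ * x ^ n * (z * x) := by group
      _ = x⁻¹ * x ^ n * (x * z) := by rw [this]
      _ = _ := by group
  have hcop : Nat.Coprime n (orderOf x) := by
    have h3 : orderOf x ∣ p ^ e := orderOf_dvd_of_pow_eq_one he
    exact Nat.Coprime.coprime_dvd_right h3 (Nat.Coprime.pow_right e hn)
  obtain ⟨m, hm⟩ := exists_pow_eq_self_of_coprime hcop
  refine ⟨y ^ m, M.pow_mem hy m, (z ^ m)⁻¹, Z.inv_mem (Z.pow_mem hz m), ?_, ?_⟩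
  · have hcm : Commute (x ^ n) z := (show Commute x z from hc z hz).pow_left n
    rw [ey, hcm.mul_pow, hm]
    group
  · rw [fn_map_pow κ hy m, hfix]

/-- the fixed points of an automorphism, as a subgroup of the ambient group -/
noncomputable def fx (κ : MulAut M) : Subgroup Ω where
  carrier := {x | x ∈ M ∧ fn κ x = x}
  mul_mem' := by
    rintro x y ⟨hx, ex⟩ ⟨hy, ey⟩
    exact ⟨M.mul_mem hx hy, by rw [fn_map_mul κ hx hy, ex, ey]⟩
  one_mem' := by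
    refine ⟨M.one_mem, ?_⟩
    have h3 := fn_map_mul κ M.one_mem M.one_mem
    rw [mul_one] at h3
    have h5 := congrArg (fun t => t * (fn κ (1 : Ω))⁻¹) h3
    simpa using h5.symm
  inv_mem' := by
    rintro x ⟨hx, ex⟩
    refine ⟨M.inv_mem hx, ?_⟩
    have h3 := fn_map_mul κ M.one_mem M.one_mem
    rw [mul_one] at h3
    have h4 : fn κ (1 : Ω) = 1 := by
      have h5 := congrArg (fun t => t * (fn κ (1 : Ω))⁻¹) h3
      simpa using h5.symm
    have h6 := fn_map_mul κ hx (M.inv_mem hx)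
    rw [mul_inv_cancel, h4, ex] at h6
    exact (inv_eq_of_mul_eq_one_right h6.symm).symm

theorem mem_fx {κ : MulAut M} {x : Ω} : x ∈ fx κ ↔ x ∈ M ∧ fn κ x = x := Iff.rfl

theorem comm_le_fx [Fact p.Prime] {κ : MulAut M} (hn : (orderOf κ).Coprime p) (hAM : A ≤ M)
    (hxp : ∀ x ∈ A, ∃ e : ℕ, x ^ p ^ e = 1) (hZA : Z ≤ A) (hZ : ∀ z ∈ Z, fn κ z ∈ Z) (hxZ : ∀ x ∈ A, x⁻¹ * fn κ x ∈ Z)
    (hc : ∀ x ∈ A, ∀ z ∈ Z, x * z = z * x) : ⁅A, A⁆ ≤ fx κ := by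
  rw [Subgroup.commutator_le]
  intro x hx y hy
  obtain ⟨x', hx', z, hz, rfl, e1⟩ := exists_fixed_mod hn (hAM hx) (hxp x hx) (hZA.trans hAM) hZ (hxZ x hx) (hc x hx)
  obtain ⟨y', hy', z', hz', rfl, e2⟩ := exists_fixed_mod hn (hAM hy) (hxp y hy) (hZA.trans hAM) hZ (hxZ y hy) (hc y hy)
  have hx'A : x' ∈ A := by
    have := A.mul_mem hx (A.inv_mem (hZA hz)); simpa using this
  have hy'A : y' ∈ A := by
    have := A.mul_mem hy (A.inv_mem (hZA hz')); simpa using this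
  have h1 : x' ∈ fx κ := ⟨hx', e1⟩
  have h2 : y' ∈ fx κ := ⟨hy', e2⟩
  have e : ⁅x' * z, y' * z'⁆ = ⁅x', y'⁆ := by
    have c1 := hc y' hy'A z hz
    have c2 : z' * z⁻¹ = z⁻¹ * z' := by
      have := hc z' (hZA hz') z⁻¹ (Z.inv_mem hz); exact this
    have c3 : x'⁻¹ * z' = z' * x'⁻¹ := hc _ (A.inv_mem hx'A) z' hz'
    simp only [commutatorElement_def, mul_inv_rev]
    calc x' * z * (y' * z') * (z⁻¹ * x'⁻¹) * (z'⁻¹ * y'⁻¹)
        = x' * (z * y') * (z' * z⁻¹) * x'⁻¹ * z'⁻¹ * y'⁻¹ := by group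
      _ = x' * (y' * z) * (z⁻¹ * z') * x'⁻¹ * z'⁻¹ * y'⁻¹ := by rw [← c1, c2]
      _ = x' * y' * (z' * x'⁻¹) * z'⁻¹ * y'⁻¹ := by group
      _ = x' * y' * (x'⁻¹ * z') * z'⁻¹ * y'⁻¹ := by rw [c3]
      _ = x' * y' * x'⁻¹ * y'⁻¹ := by group
  rw [e]
  exact (fx κ).mul_mem ((fx κ).mul_mem ((fx κ).mul_mem h1 h2) ((fx κ).inv_mem h1)) ((fx κ).inv_mem h2)

end H87.CE
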