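import Cfsg.Agent.Lib.H87.CE1
set_option autoImplicit false

open Cfsg Cfsg.FusionSystem

namespace H87.CE
open H87.Base H87.Basic H87.Syl H87.Sat H87.Grow H87.Inv H87.Frat H87.Cut H87.PPow H87.Crit H87.PPr H87.CMap H87.NE
open H87.ConstrEq
open scoped commutatorElement

variable {Ω : Type*} [Group Ω] {S T : Subgroup Ω} {F : FusionSystem S} {E D : FusionSystem T}
  {P Q R M N U X A Z W : Subgroup Ω} {f g h a b κ : Ω → Ω} {p : ℕ}

theorem pow_p_of [Fact p.Prime] [Finite S] (hS : IsPGroup p S) {x : Ω} (hx : x ∈ S) : ∃ e : ℕ, x ^ p ^ e = 1 := by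
  obtain ⟨e, he⟩ := hS ⟨x, hx⟩
  exact ⟨e, by simpa using congrArg Subtype.val he⟩

/-- `Z(Q)` is central in `C_F(Q)`. -/
theorem center_centralizer (hQ : Q ≤ S) {C : FusionSystem (centralizerIn S Q)} (hC : F.IsCentralizerSystem Q C) :
    C.IsCentral (Q ⊓ centralizerIn S Q) := by
  rw [isCentral_iff]
  refine ⟨inf_le_right, fun P f hf => ?_⟩
  rw [isMap_centralizer_iff hC] at hf
  obtain ⟨h1, h2, g, hg, e1, e2⟩ := hf
  have hle : P ⊔ (Q ⊓ centralizerIn S Q) ≤ P ⊔ Q := sup_le_sup_left inf_le_left P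
  refine ⟨g, ?_, e1, fun x hx => e2 x hx.1⟩
  rw [isMap_centralizer_iff hC]
  refine ⟨sup_le h1 inf_le_right, ?_, g, hg.mono (sup_le hle le_sup_right), fun _ _ => rfl, e2⟩
  refine mem_of_sup (hg.mono hle) (fun x hx => ?_) fun x hx => ?_
  · rw [e1 x hx]; exact h2 x hx
  · rw [e2 x hx.1]; exact hx.2

/-- the key consequence of the transfer: a coprime automorphism of `Q C_S(Q)` acting trivially modulo `Q`
fixes every element fixed by some map agreeing with it on `Q`. -/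
theorem fixes_fc [Fact p.Prime] [Finite S] (hS : IsPGroup p S) (hF : F.IsSaturated p)
    (hQ : F.IsFullyCentralized Q) {γ : MulAut ↥(Q ⊔ centralizerIn S Q)}
    (hγ : γ ∈ F.autGroup (Q ⊔ centralizerIn S Q)) (ho : (orderOf γ).Coprime p)
    (hγQ : ∀ x ∈ Q, fn γ x ∈ Q) (hγc : ∀ c ∈ centralizerIn S Q, c⁻¹ * fn γ c ∈ Q)
    {κ : Ω → Ω} {U : Subgroup Ω} (hQU : Q ≤ U) (hκ : IsMap F U κ) (e : ∀ y ∈ Q, κ y = fn γ y) {x : Ω}
    (hxU : x ∈ U) (hx : x ∈ centralizerIn S Q) (hκx : κ x = x) : fn γ x = x := by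
  have hQS : Q ≤ S := hQ.1
  have hle : Q ⊔ centralizerIn S Q ≤ S := sup_le hQS centralizerIn_le
  have hγi := fn_iso hle hγ
  have hfinQ : Finite Q := finite_of_le hQS
  have hγQi : IsIso F Q Q (fn γ) := isIso_of_self (hγi.isMap.mono le_sup_left) hγQ
  have hγC : ∀ c ∈ centralizerIn S Q, fn γ c ∈ centralizerIn S Q := fun c hc =>
    map_centralizer hγi.isMap le_sup_left hγQi ((le_sup_right : centralizerIn S Q ≤ _) hc) hc
  obtain ⟨C, hC⟩ := exists_centralizerSystem F hQS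
  have hCsat := H89.KSat3.centralizer_saturated hS hF hQ hC
  have hxM : x ∈ Q ⊔ centralizerIn S Q := (le_sup_right : centralizerIn S Q ≤ _) hx
  -- the map `κ γ⁻¹`
  set U₁ := Q ⊔ Subgroup.zpowers x with hU₁
  have hU₁U : U₁ ≤ U := sup_le hQU (Subgroup.zpowers_le.2 hxU)
  have hU₁M : U₁ ≤ Q ⊔ centralizerIn S Q := sup_le le_sup_left (Subgroup.zpowers_le.2 hxM)
  have hγ1 : IsIso F U₁ (img U₁ (fn γ)) (fn γ) := hγi.restrict hU₁M
  obtain ⟨δ, hδ, hδ1, hδ2⟩ := hγ1.symm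
  have hμ : IsMap F (img U₁ (fn γ)) (fun y => κ (δ y)) :=
    hδ.isMap.comp' (hκ.mono hU₁U) fun y hy => hδ.mem hy
  have hxU₁ : x ∈ U₁ := (le_sup_right : Subgroup.zpowers x ≤ U₁) (Subgroup.mem_zpowers x)
  have hμx : κ (δ (fn γ x)) = x := by rw [hδ1 x hxU₁, hκx]
  have hμQ : ∀ y ∈ Q, κ (δ y) = y := by
    intro y hy
    obtain ⟨z, hz, rfl⟩ := hγQi.surj hy
    rw [hδ1 z ((le_sup_left : Q ≤ U₁) hz), e z hz]
  have hQimg : Q ≤ img U₁ (fn γ) := by
    intro y hy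
    obtain ⟨z, hz, rfl⟩ := hγQi.surj hy
    exact apply_mem_img ((le_sup_left : Q ≤ U₁) hz)
  have hCmap : CMap F Q (Subgroup.zpowers (fn γ x)) (fun y => κ (δ y)) := by
    have hs : Subgroup.zpowers (fn γ x) ⊔ Q ≤ img U₁ (fn γ) :=
      sup_le (Subgroup.zpowers_le.2 (apply_mem_img hxU₁)) hQimg
    refine ⟨Subgroup.zpowers_le.2 (hγC x hx), ?_, fun y => κ (δ y), hμ.mono hs, fun _ _ => rfl, hμQ⟩
    intro y hy
    refine map_centralizer (P := Q) (hμ.mono hs) le_sup_right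
      (isIso_of_self (hμ.mono hQimg) fun z hz => by rw [hμQ z hz]; exact hz)
      ((le_sup_left : Subgroup.zpowers (fn γ x) ≤ _) hy) ?_
    exact (Subgroup.zpowers_le.2 (hγC x hx)) hy
  have hCm := (isMap_centralizer_iff hC).2 hCmap
  obtain ⟨φ, hφ, eφ⟩ := hCm
  have hfoc := H88.Focal.mem_foc hφ ⟨fn γ x, Subgroup.mem_zpowers _⟩
  have e1 : φ ⟨fn γ x, Subgroup.mem_zpowers _⟩ = x := by rw [eφ]; exact hμx
  rw [e1] at hfoc
  change (fn γ x)⁻¹ * x ∈ C.focalSubgroup at hfoc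
  have hwQ : x⁻¹ * fn γ x ∈ Q := hγc x hx
  have hwC : x⁻¹ * fn γ x ∈ centralizerIn S Q := Subgroup.mul_mem _ (Subgroup.inv_mem _ hx) (hγC x hx)
  have hw' : (fn γ x)⁻¹ * x = (x⁻¹ * fn γ x)⁻¹ := by group
  rw [hw'] at hfoc
  have hcen : (x⁻¹ * fn γ x)⁻¹ ∈ C.center :=
    H87.Basic.IsCentral.le_center (center_centralizer hQS hC) (Subgroup.inv_mem _ ⟨hwQ, hwC⟩)
  have hCp : IsPGroup p (centralizerIn S Q) := hS.to_le centralizerIn_le
  have hCfin : Finite (centralizerIn S Q) := finite_of_le centralizerIn_le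
  have hcomm := H90.Transfer.foc_inf_center_le hCp hCsat ⟨hfoc, hcen⟩
  have hfx : ⁅centralizerIn S Q, centralizerIn S Q⁆ ≤ fx γ := by
    refine comm_le_fx (Z := Q ⊓ centralizerIn S Q) ho le_sup_right (fun y hy => pow_p_of hS (centralizerIn_le hy))
      inf_le_right (fun z hz => ⟨hγQ z hz.1, hγC z hz.2⟩) (fun y hy => ⟨hγc y hy, ?_⟩) ?_
    · exact Subgroup.mul_mem _ (Subgroup.inv_mem _ hy) (hγC y hy)
    · intro y hy z hz
      exact ((mem_centralizerIn.1 hy).2 z hz.1).symm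
  have hwf : fn γ (x⁻¹ * fn γ x) = x⁻¹ * fn γ x := by
    have := (hfx hcomm)
    exact (mem_fx.1 (by simpa using (fx γ).inv_mem this)).2
  have h5 := fn_pow_formula hxM hwf (orderOf γ)
  rw [pow_orderOf_eq_one, fn_one hxM] at h5
  have h6 : (x⁻¹ * fn γ x) ^ orderOf γ = 1 := by
    have := congrArg (fun t => x⁻¹ * t) h5
    simpa using this.symm
  obtain ⟨k, hk⟩ := pow_p_of hS (centralizerIn_le hwC)
  have h7 := mem_of_pow_mem (P := (⊥ : Subgroup Ω)) hk ho (Subgroup.mem_bot.2 h6)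
  have h8 := Subgroup.mem_bot.1 h7
  exact (inv_mul_eq_one.1 h8).symm

/-- the property of the lifts: they fix whatever can be fixed -/
structure IsLift (F : FusionSystem S) (p : ℕ) (P : Subgroup Ω) (α : MulAut P) (γ : MulAut ↥(P ⊔ centralizerIn S P)) :
    Prop where
  mem : γ ∈ F.autGroup (P ⊔ centralizerIn S P)
  cop : (orderOf γ).Coprime p
  eq : ∀ x ∈ P, fn γ x = fn α x
  ne : ∀ c ∈ centralizerIn S P, c⁻¹ * fn γ c ∈ P
  fix : ∀ (U : Subgroup Ω) (κ : Ω → Ω) (x : Ω), P ≤ U → IsMap F U κ → (∀ y ∈ P, κ y = fn α y) → x ∈ U →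
    x ∈ centralizerIn S P → κ x = x → fn γ x = x

/-- from a function with the right properties to a lift of order prime to `p` -/
theorem lift_of_fun [hp : Fact p.Prime] [Finite S] (hPS : P ≤ S) {α : MulAut P}
    (ho : (orderOf α).Coprime p) (hg : IsMap F (P ⊔ centralizerIn S P) g) (eg : ∀ x ∈ P, g x = fn α x)
    (hn : ∀ c ∈ centralizerIn S P, c⁻¹ * g c ∈ P) : ∃ γ : MulAut ↥(P ⊔ centralizerIn S P),
      γ ∈ F.autGroup (P ⊔ centralizerIn S P) ∧ (orderOf γ).Coprime p ∧ (∀ x ∈ P, fn γ x = fn α x) ∧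
      (∀ c ∈ centralizerIn S P, c⁻¹ * fn γ c ∈ P) ∧ ∀ x ∈ centralizerIn S P, g x = x → fn γ x = x := by
  have hle : P ⊔ centralizerIn S P ≤ S := sup_le hPS centralizerIn_le
  have hself : ∀ x ∈ P ⊔ centralizerIn S P, g x ∈ P ⊔ centralizerIn S P := by
    refine mem_of_sup hg (fun x hx => ?_) fun x hx => ?_
    · rw [eg x hx]; exact (le_sup_left : P ≤ _) (fn_mem α hx)
    · have := (le_sup_left : P ≤ P ⊔ centralizerIn S P) (hn x hx)
      have h2 := Subgroup.mul_mem _ ((le_sup_right : centralizerIn S P ≤ P ⊔ _) hx) this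
      simpa using h2
  have hi : IsIso F _ _ g := isIso_of_self hg hself
  have hfin : Finite ↥(P ⊔ centralizerIn S P) := finite_of_le hle
  obtain ⟨k, hk1, hk2⟩ := exists_coprime_power (Q := P) (P := P ⊔ centralizerIn S P) le_sup_left (α := hi.aut) (β := α)
    (fun x hx => by
      have h1 := fn_aut hi ((le_sup_left : P ≤ P ⊔ centralizerIn S P) hx)
      rw [fn_apply _ ((le_sup_left : P ≤ P ⊔ centralizerIn S P) hx)] at h1
      rw [h1, eg x hx, fn_apply _ hx]) ho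
  have hind : ∀ m : ℕ, ∀ c ∈ centralizerIn S P, c⁻¹ * fn (hi.aut ^ m) c ∈ P := by
    intro m c hc
    have hcM := (le_sup_right : centralizerIn S P ≤ P ⊔ _) hc
    induction m with
    | zero => rw [pow_zero, fn_one hcM, inv_mul_cancel]; exact P.one_mem
    | succ m ih =>
      rw [fn_pow_succ _ m hcM]
      have h1 : fn (hi.aut ^ m) c = c * (c⁻¹ * fn (hi.aut ^ m) c) := by group
      rw [h1, fn_map_mul _ hcM ((le_sup_left : P ≤ P ⊔ _) ih), ← mul_assoc]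
      refine P.mul_mem ?_ ?_
      · rw [fn_aut hi hcM]; exact hn c hc
      · rw [fn_aut hi ((le_sup_left : P ≤ P ⊔ _) ih), eg _ ih]; exact fn_mem _ ih
  refine ⟨hi.aut ^ k, Subgroup.pow_mem _ hi.aut_mem k, hk1, ?_, hind k, ?_⟩
  · intro x hx
    have h1 := hk2 x hx
    rw [fn_apply _ hx, fn_apply _ ((le_sup_left : P ≤ P ⊔ _) hx)]
    exact h1.symm
  · intro x h5 h7
    have hxM := (le_sup_right : centralizerIn S P ≤ P ⊔ _) h5
    have h8 : fn hi.aut x = x := by rw [fn_aut hi hxM, h7]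
    have : ∀ m : ℕ, fn (hi.aut ^ m) x = x := by
      intro m
      induction m with
      | zero => rw [pow_zero, fn_one hxM]
      | succ m ih => rw [fn_pow_succ _ m hxM, ih, h8]
    exact this k

/-- existence of lifts at all `E`-centric subgroups -/
theorem exists_lift [hp : Fact p.Prime] [Finite S] (hS : IsPGroup p S) (hE : E.IsNormalIn F p) (hP : TC F T P)
    {α : MulAut P} (hα : α ∈ E.autGroup P) (ho : (orderOf α).Coprime p) : ∃ γ, IsLift F p P α γ := by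
  have hEw := hE.1
  have hT := hEw.2.2.2.1
  have hTS : T ≤ S := hT.1
  have hEF := hEw.2.2.1
  have hF := hEw.2.1
  have hI := sinv_of_invariant hEw.2.2
  have hPS := hP.1.trans hTS
  obtain ⟨Q, hPQ, hQ⟩ := exists_nice hF hPS
  obtain ⟨χ, hχN, hχ⟩ := hQ.exists_map_normalizer hS hPQ
  have hQc : TC F T Q := hP.conj hT hχ
  have hQT := hQc.1
  have hQS := hQT.trans hTS
  have hQfc : F.IsFullyCentralized Q := H86.FusSat.fullyCentralized_of_receptive F hQ.2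
  have hαi : IsIso E P P (fn α) := fn_iso hP.1 hα
  obtain ⟨g₁, hg₁, hg₁'⟩ := hI P P _ χ le_rfl hP.1 hαi.isMap (fun _ hx => hαi.mem hx) hχ.isMap
  rw [hχ.eq_img] at hg₁
  set α' := IsIso.congrAut hχ α with hα'
  have hα'E : α' ∈ E.autGroup Q := by
    refine mem_autGroup_of_isMap hQT hg₁ fun y => ?_
    obtain ⟨x, hx, e⟩ := hχ.surj y.2
    rw [← fn_coe, ← e, fn_congrAut hχ α hx]
    exact (hg₁' x hx).symm
  have ho' : (orderOf α').Coprime p := by
    rw [hα', MulEquiv.orderOf_eq (IsIso.congrAut hχ) α]; exact ho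
  obtain ⟨g₂, hg₂, e₂, n₂⟩ := ne_all hS hE Q hQc α' hα'E
  obtain ⟨γ, hγ, hγo, hγe, hγn, -⟩ := lift_of_fun hQS ho' hg₂ e₂ n₂
  have hγfix : ∀ (U : Subgroup Ω) (κ : Ω → Ω) (x : Ω), Q ≤ U → IsMap F U κ → (∀ y ∈ Q, κ y = fn α' y) → x ∈ U →
      x ∈ centralizerIn S Q → κ x = x → fn γ x = x := by
    intro U κ x h1 h2 h3 h4 h5 h6
    exact fixes_fc hS hF hQfc hγ hγo (fun y hy => by rw [hγe y hy]; exact fn_mem _ hy) hγn h1 h2
      (fun y hy => by rw [h3 y hy, hγe y hy]) h4 h5 h6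
  -- transport to `P`
  have hMN : P ⊔ centralizerIn S P ≤ normalizerIn S P := sup_le (le_normalizerIn hPS) centralizerIn_le_normalizerIn
  have hχM : IsMap F (P ⊔ centralizerIn S P) χ := hχN.mono hMN
  have hχi := hχM.isIso
  obtain ⟨ψ, hψ, hψ1, hψ2⟩ := hχi.symm
  have hQimg : Q ≤ img (P ⊔ centralizerIn S P) χ := by
    intro y hy
    obtain ⟨x, hx, rfl⟩ := hχ.surj hy
    exact apply_mem_img ((le_sup_left : P ≤ _) hx)
  have hχC : ∀ c ∈ centralizerIn S P, χ c ∈ centralizerIn S Q := fun c hc =>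
    map_centralizer hχM le_sup_left hχ ((le_sup_right : centralizerIn S P ≤ _) hc) hc
  have hχMQ : ∀ x ∈ P ⊔ centralizerIn S P, χ x ∈ Q ⊔ centralizerIn S Q := by
    refine mem_of_sup hχM (fun x hx => (le_sup_left : Q ≤ _) (hχ.mem hx)) fun x hx =>
      (le_sup_right : centralizerIn S Q ≤ _) (hχC x hx)
  have hγi := fn_iso (sup_le hQS centralizerIn_le) hγ
  have hγχ : IsMap F (P ⊔ centralizerIn S P) (fun x => fn γ (χ x)) := hχM.comp' hγi.isMap hχMQ
  have hcval : ∀ c ∈ centralizerIn S P, fn γ (χ c) = χ c * ((χ c)⁻¹ * fn γ (χ c)) := fun c _ => by group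
  have hγself : ∀ x ∈ P ⊔ centralizerIn S P, fn γ (χ x) ∈ img (P ⊔ centralizerIn S P) χ := by
    refine mem_of_sup hγχ (fun x hx => ?_) fun x hx => ?_
    · show fn γ (χ x) ∈ _
      rw [hγe _ (hχ.mem hx)]; exact hQimg (fn_mem _ (hχ.mem hx))
    · show fn γ (χ x) ∈ _
      rw [hcval x hx]
      exact Subgroup.mul_mem _ (apply_mem_img ((le_sup_right : centralizerIn S P ≤ _) hx)) (hQimg (hγn _ (hχC x hx)))
  have hgM : IsMap F (P ⊔ centralizerIn S P) (fun x => ψ (fn γ (χ x))) := hγχ.comp' hψ.isMap hγself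
  have hψQ : ∀ y ∈ Q, ψ y ∈ P := by
    intro y hy
    obtain ⟨x, hx, rfl⟩ := hχ.surj hy
    rw [hψ1 x ((le_sup_left : P ≤ _) hx)]; exact hx
  have heg : ∀ x ∈ P, ψ (fn γ (χ x)) = fn α x := by
    intro x hx
    rw [hγe _ (hχ.mem hx), fn_congrAut hχ α hx, hψ1 _ ((le_sup_left : P ≤ _) (fn_mem α hx))]
  have hng : ∀ c ∈ centralizerIn S P, c⁻¹ * ψ (fn γ (χ c)) ∈ P := by
    intro c hc
    have hcM := (le_sup_right : centralizerIn S P ≤ P ⊔ _) hc
    rw [hcval c hc, hψ.isMap.map_mul (apply_mem_img hcM) (hQimg (hγn _ (hχC c hc))), hψ1 c hcM, ← mul_assoc,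
      inv_mul_cancel, one_mul]
    exact hψQ _ (hγn _ (hχC c hc))
  obtain ⟨δ, hδ, hδo, hδe, hδn, hδf⟩ := lift_of_fun hPS ho hgM heg hng
  refine ⟨δ, hδ, hδo, hδe, hδn, ?_⟩
  intro U κ x h1 h2 h3 h4 h5 h6
  refine hδf x h5 ?_
  have hxM := (le_sup_right : centralizerIn S P ≤ P ⊔ _) h5
  have hxz : x ∈ P ⊔ Subgroup.zpowers x := (le_sup_right : Subgroup.zpowers x ≤ _) (Subgroup.mem_zpowers x)
  have hVM : P ⊔ Subgroup.zpowers x ≤ P ⊔ centralizerIn S P := sup_le_sup_left (Subgroup.zpowers_le.2 h5) P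
  have hVU : P ⊔ Subgroup.zpowers x ≤ U := sup_le h1 (Subgroup.zpowers_le.2 h4)
  have hκV : ∀ y ∈ P ⊔ Subgroup.zpowers x, κ y ∈ P ⊔ Subgroup.zpowers x := by
    refine mem_of_sup (h2.mono hVU) (fun y hy => ?_) fun y hy => ?_
    · rw [h3 y hy]; exact (le_sup_left : P ≤ _) (fn_mem α hy)
    · obtain ⟨n, rfl⟩ := Subgroup.mem_zpowers_iff.1 hy
      have : κ (x ^ n) = x ^ n := by
        obtain ⟨φ, hφ, eφ⟩ := h2
        have e1 := eφ ⟨x, h4⟩
        have e2 := eφ (⟨x, h4⟩ ^ n)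
        rw [map_zpow] at e2
        rw [e1, h6] at e2
        exact e2.symm
      rw [this]
      exact (le_sup_right : Subgroup.zpowers x ≤ _) hy
  have hψV : IsMap F (img (P ⊔ Subgroup.zpowers x) χ) ψ := hψ.isMap.mono (img_mono hVM)
  have hψVm : ∀ y ∈ img (P ⊔ Subgroup.zpowers x) χ, ψ y ∈ P ⊔ Subgroup.zpowers x := by
    intro y hy
    obtain ⟨z, hz, rfl⟩ := (mem_img (hχM.mono hVM)).1 hy
    rw [hψ1 z (hVM hz)]; exact hz
  have hκ' : IsMap F (img (P ⊔ Subgroup.zpowers x) χ) (fun y => χ (κ (ψ y))) :=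
    (hψV.comp' (h2.mono hVU) hψVm).comp' (hχM.mono hVM) fun y hy => hκV _ (hψVm y hy)
  have hfix := hγfix _ _ (χ x) ?_ hκ' ?_ (apply_mem_img hxz) (hχC x h5) ?_
  · show ψ (fn γ (χ x)) = x
    rw [hfix, hψ1 x hxM]
  · intro y hy
    obtain ⟨z, hz, rfl⟩ := hχ.surj hy
    exact apply_mem_img ((le_sup_left : P ≤ _) hz)
  · intro y hy
    obtain ⟨z, hz, rfl⟩ := hχ.surj hy
    show χ (κ (ψ (χ z))) = _
    rw [hψ1 z ((le_sup_left : P ≤ _) hz), h3 z hz, fn_congrAut hχ α hz]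
  · show χ (κ (ψ (χ x))) = χ x
    rw [hψ1 x hxM, h6]

/-- uniqueness of lifts -/
theorem lift_unique [hp : Fact p.Prime] [Finite S] (hS : IsPGroup p S) {α : MulAut P}
    {γ : MulAut ↥(P ⊔ centralizerIn S P)} (h : IsLift F p P α γ) {U : Subgroup Ω} (hPU : P ≤ U) (hUS : U ≤ S)
    {δ : MulAut U} (hδ : δ ∈ F.autGroup U) (hδo : (orderOf δ).Coprime p) (hδP : ∀ x ∈ P, fn δ x = fn α x) {x : Ω}
    (hxU : x ∈ U) (hxC : x ∈ centralizerIn S P) (hx : x⁻¹ * fn δ x ∈ P) : fn γ x = fn δ x := by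
  have hδi := fn_iso hUS hδ
  have hPi : IsIso F P P (fn δ) := isIso_of_self (hδi.isMap.mono hPU) fun y hy => by rw [hδP y hy]; exact fn_mem _ hy
  have hxS := centralizerIn_le hxC
  have hδx : fn δ x ∈ centralizerIn S P := map_centralizer hδi.isMap hPU hPi hxU hxC
  obtain ⟨y, hy, z, hz, rfl, hfix⟩ := exists_fixed_mod (Z := P ⊓ centralizerIn S P) hδo hxU (pow_p_of hS hxS)
    (inf_le_left.trans hPU) (fun z hz => ⟨hPi.mem hz.1, map_centralizer hδi.isMap hPU hPi (hPU hz.1) hz.2⟩)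
    ⟨hx, Subgroup.mul_mem _ (Subgroup.inv_mem _ hxC) hδx⟩ fun z hz => ((mem_centralizerIn.1 hxC).2 z hz.1).symm
  have hyC : y ∈ centralizerIn S P := by
    have := Subgroup.mul_mem _ hxC (Subgroup.inv_mem _ hz.2)
    simpa using this
  have h1 := h.fix U (fn δ) y hPU hδi.isMap hδP hy hyC hfix
  have hzM : z ∈ P ⊔ centralizerIn S P := (le_sup_left : P ≤ _) hz.1
  rw [fn_map_mul γ ((le_sup_right : centralizerIn S P ≤ _) hyC) hzM, fn_map_mul δ hy (hPU hz.1), h1, hfix,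
    h.eq z hz.1, hδP z hz.1]

end H87.CE
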