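import Cfsg.Agent.Lib.H87.CE2
set_option autoImplicit false

open Cfsg Cfsg.FusionSystem

namespace H87.CE
open H87.Base H87.Basic H87.Syl H87.Sat H87.Grow H87.Inv H87.Frat H87.Cut H87.PPow H87.Crit H87.PPr H87.CMap H87.NE
open H87.ConstrEq

variable {Ω : Type*} [Group Ω] {S T : Subgroup Ω} {F : FusionSystem S} {E D : FusionSystem T}
  {P Q R M N U V X A Z W : Subgroup Ω} {f g h a b κ : Ω → Ω} {p : ℕ}

/-- `C_S(E)` -/
noncomputable def CS (F : FusionSystem S) (E : FusionSystem T) (p : ℕ) : Subgroup Ω where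
  carrier := {x | x ∈ centralizerIn S T ∧ ∀ (P : Subgroup Ω) (α : MulAut P) (γ : MulAut ↥(P ⊔ centralizerIn S P)),
    TC F T P → α ∈ E.autGroup P → (orderOf α).Coprime p → IsLift F p P α γ → x ∈ fx γ}
  mul_mem' := by
    rintro x y ⟨hx, hx'⟩ ⟨hy, hy'⟩
    exact ⟨Subgroup.mul_mem _ hx hy, fun P α γ h1 h2 h3 h4 =>
      Subgroup.mul_mem _ (hx' P α γ h1 h2 h3 h4) (hy' P α γ h1 h2 h3 h4)⟩
  one_mem' := ⟨Subgroup.one_mem _, fun P α γ _ _ _ _ => Subgroup.one_mem _⟩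
  inv_mem' := by
    rintro x ⟨hx, hx'⟩
    exact ⟨Subgroup.inv_mem _ hx, fun P α γ h1 h2 h3 h4 => Subgroup.inv_mem _ (hx' P α γ h1 h2 h3 h4)⟩

theorem mem_CS {x : Ω} : x ∈ CS F E p ↔ x ∈ centralizerIn S T ∧ ∀ (P : Subgroup Ω) (α : MulAut P)
    (γ : MulAut ↥(P ⊔ centralizerIn S P)), TC F T P → α ∈ E.autGroup P → (orderOf α).Coprime p →
      IsLift F p P α γ → x ∈ fx γ := Iff.rfl

theorem CS_le : CS F E p ≤ centralizerIn S T := fun _ hx => hx.1

theorem mem_CS_iff [hp : Fact p.Prime] [Finite S] (hS : IsPGroup p S) (hE : E.IsNormalIn F p) {x : Ω} :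
    x ∈ CS F E p ↔ x ∈ centralizerIn S T ∧ ∀ (P : Subgroup Ω) (α : MulAut P), TC F T P → α ∈ E.autGroup P →
      (orderOf α).Coprime p → ∃ (U : Subgroup Ω) (κ : Ω → Ω), P ≤ U ∧ IsMap F U κ ∧ (∀ y ∈ P, κ y = fn α y) ∧
        x ∈ U ∧ κ x = x := by
  constructor
  · rintro ⟨h1, h2⟩
    refine ⟨h1, fun P α hP hα ho => ?_⟩
    obtain ⟨γ, hγ⟩ := exists_lift hS hE hP hα ho
    have h3 := h2 P α γ hP hα ho hγ
    have hPS := hP.1.trans hE.1.2.2.2.1.1
    exact ⟨_, fn γ, le_sup_left, (fn_iso (sup_le hPS centralizerIn_le) hγ.mem).isMap, hγ.eq, h3.1, h3.2⟩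
  · rintro ⟨h1, h2⟩
    refine ⟨h1, fun P α γ hP hα ho hγ => ?_⟩
    obtain ⟨U, κ, h3, h4, h5, h6, h7⟩ := h2 P α hP hα ho
    have h8 := centralizerIn_anti hP.1 h1
    exact ⟨(le_sup_right : centralizerIn S P ≤ _) h8, hγ.fix U κ x h3 h4 h5 h6 h8 h7⟩

/-- anything centralized by `E` lies in `C_S(E)`. -/
theorem le_CS [hp : Fact p.Prime] [Finite S] (hS : IsPGroup p S) (hE : E.IsNormalIn F p) {Y : Subgroup Ω}
    (hY : Y ≤ centralizerIn S T) (h : ∀ P, E.Hom P ⊆ F.centralizerHom Y P) : Y ≤ CS F E p := by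
  intro x hx
  rw [mem_CS_iff hS hE]
  refine ⟨hY hx, fun P α hP hα ho => ?_⟩
  obtain ⟨φ, hφ, e⟩ := (fn_iso hP.1 hα).isMap
  obtain ⟨h1, h2, g, hg, e1, e2⟩ := (mem_centralizerHom_iff e).1 (h P hφ)
  exact ⟨P ⊔ Y, g, le_sup_left, hg, e1, (le_sup_right : Y ≤ _) hx, e2 x hx⟩

/-- `f` extends to `P W` fixing `W` -/
def XW (F : FusionSystem S) (W P : Subgroup Ω) (f : Ω → Ω) : Prop :=
  ∃ g, IsMap F (P ⊔ W) g ∧ (∀ x ∈ P, g x = f x) ∧ ∀ x ∈ W, g x = x

theorem XW.congr (h : XW F W P f) (e : ∀ x ∈ P, f x = g x) : XW F W P g := by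
  obtain ⟨k, h1, h2, h3⟩ := h
  exact ⟨k, h1, fun x hx => (h2 x hx).trans (e x hx), h3⟩

theorem XW.mono (h : XW F W P f) (hQ : Q ≤ P) : XW F W Q f := by
  obtain ⟨k, h1, h2, h3⟩ := h
  exact ⟨k, h1.mono (sup_le_sup_right hQ W), fun x hx => h2 x (hQ hx), h3⟩

theorem XW.comp (hf : ∀ x ∈ P, f x ∈ Q) (h1 : XW F W P f) (h2 : XW F W Q g) : XW F W P (g ∘ f) := by
  obtain ⟨k, h3, h4, h5⟩ := h1
  obtain ⟨l, h6, h7, h8⟩ := h2
  have hk : ∀ x ∈ P ⊔ W, k x ∈ Q ⊔ W := by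
    refine mem_of_sup h3 (fun x hx => ?_) fun x hx => ?_
    · rw [h4 x hx]; exact (le_sup_left : Q ≤ _) (hf x hx)
    · rw [h5 x hx]; exact (le_sup_right : W ≤ _) hx
  exact ⟨fun x => l (k x), h3.comp' h6 hk, fun x hx => by
    show l (k x) = g (f x)
    rw [h4 x hx, h7 _ (hf x hx)], fun x hx => by
    show l (k x) = x
    rw [h5 x hx, h8 x hx]⟩

theorem XW.symm (hf : IsIso F P Q f) (hg : ∀ x ∈ P, g (f x) = x) (h1 : XW F W P f) : XW F W Q g := by
  obtain ⟨k, h3, h4, h5⟩ := h1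
  obtain ⟨l, hl, hl1, hl2⟩ := h3.isIso.symm
  have hQ : Q ⊔ W ≤ img (P ⊔ W) k := by
    refine sup_le (fun y hy => ?_) fun y hy => ?_
    · obtain ⟨x, hx, rfl⟩ := hf.surj hy
      rw [← h4 x hx]; exact apply_mem_img ((le_sup_left : P ≤ _) hx)
    · rw [← h5 y hy]; exact apply_mem_img ((le_sup_right : W ≤ _) hy)
  refine ⟨l, hl.isMap.mono hQ, fun y hy => ?_, fun y hy => ?_⟩
  · obtain ⟨x, hx, rfl⟩ := hf.surj hy
    rw [← h4 x hx, hl1 x ((le_sup_left : P ≤ _) hx), h4 x hx, hg x hx]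
  · have := hl1 y ((le_sup_right : W ≤ P ⊔ W) hy)
    rwa [h5 y hy] at this

/-- the group of automorphisms of `Q` in `E` extending with `W` fixed -/
noncomputable def xwGrp [Finite S] (F : FusionSystem S) (W Q : Subgroup Ω) (hQ : Q ≤ S) (hW : W ≤ S) :
    Subgroup (MulAut Q) where
  carrier := {α | α ∈ F.autGroup Q ∧ XW F W Q (fn α)}
  mul_mem' := by
    rintro α β ⟨h1, h2⟩ ⟨h3, h4⟩
    exact ⟨Subgroup.mul_mem _ h1 h3, (XW.comp (fun x hx => fn_mem _ hx) h4 h2).congr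
      fun x hx => (fn_mul α β hx).symm⟩
  one_mem' := ⟨Subgroup.one_mem _, ⟨fun x => x, isMap_id F (sup_le hQ hW), fun x hx => (fn_one hx).symm,
    fun _ _ => rfl⟩⟩
  inv_mem' := by
    rintro α ⟨h1, h2⟩
    have h1' := Subgroup.inv_mem _ h1
    exact ⟨h1', XW.symm (fn_iso hQ h1) (fun x hx => fn_inv_apply α hx) h2⟩

theorem xw_aut [hp : Fact p.Prime] [Finite S] (hS : IsPGroup p S) (hE : E.IsNormalIn F p) (hQ : TC F T Q)
    (hQn : E.IsFullyAutomized p Q) {α : MulAut Q} (hα : α ∈ E.autGroup Q) : XW F (CS F E p) Q (fn α) := by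
  have hT := hE.1.2.2.2.1
  have hTS := hT.1
  have hQS := hQ.1.trans hTS
  have hEF := hE.1.2.2.1
  have hTfin : Finite T := finite_of_le hTS
  have hWS : CS F E p ≤ S := CS_le.trans centralizerIn_le
  have hle : E.autGroup Q ≤ xwGrp F (CS F E p) Q hQS hWS := by
    refine H88.Focal.autGroup_eq_of_fullyAutomized hQn ?_ ?_
    · intro v hv
      have hvE := autInducedBy_le_autGroup E hQ.1 hv
      obtain ⟨t, ht, e⟩ := fn_autInduced hv
      refine ⟨autGroup_mono hEF Q hvE, fun x => t * x * t⁻¹, isMap_conj F (sup_le hQS hWS) (hTS ht),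
        fun x hx => (e x hx).symm, fun x hx => ?_⟩
      have := (mem_centralizerIn.1 (CS_le hx)).2 t ht
      show t * x * t⁻¹ = x
      rw [this]; group
    · intro α hα ho
      obtain ⟨γ, hγ⟩ := exists_lift hS hE hQ hα ho
      have hC : CS F E p ≤ centralizerIn S Q := CS_le.trans (centralizerIn_anti hQ.1)
      refine ⟨autGroup_mono hEF Q hα, fn γ, ?_, hγ.eq, fun x hx => (hx.2 Q α γ hQ hα ho hγ).2⟩
      exact (fn_iso (sup_le hQS centralizerIn_le) hγ.mem).isMap.mono (sup_le_sup_left hC Q)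
  exact (hle hα).2

theorem xw_all [hp : Fact p.Prime] [Finite S] (hS : IsPGroup p S) (hE : E.IsNormalIn F p) :
    ∀ P f, P ≤ T → IsMap E P f → XW F (CS F E p) P f := by
  have hT := hE.1.2.2.2.1
  have hTS := hT.1
  have hEF := hE.1.2.2.1
  have hEsat := hE.1.1
  have hTfin : Finite T := finite_of_le hTS
  have hTp : IsPGroup p T := hS.to_le hTS
  refine alp hTp hEsat stronglyClosed_top _ ?_ ?_ ?_ ?_ ?_ ?_
  · intro P f g _ _ e h
    exact h.congr e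
  · intro P Q f _ _ h1 h
    exact h.mono h1
  · intro P Q f g _ hf hg h1 h2
    exact XW.comp (fun x hx => hf.mem hx) h1 h2
  · intro P Q f g _ hf _ e _ h
    exact XW.symm (isIso_of_sub hEF hf) e h
  · intro f hf
    have h1 : TC F T T := tc_of_centric hE.1.2.2 (by
      rw [isCentric_iff]
      exact ⟨le_rfl, fun Q g hg => by
        have h2 := StronglyClosed.isMap_iso stronglyClosed_top hg.isMap le_rfl
        have h3 : Q = T := hg.eq_img.symm.trans h2.eq_img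
        rw [h3]; exact centralizerIn_le⟩)
    have h2 : E.IsFullyAutomized p T := (H87.Bridge.nice_of_fn hTp hEsat (fn_of_stronglyClosed stronglyClosed_top)).1
    exact (xw_aut hS hE h1 h2 hf.aut_mem).congr fun x hx => fn_aut hf hx
  · intro Q hQT hQ hnice ih f hf
    by_cases hc : E.IsCentric Q
    · exact (xw_aut hS hE (tc_of_centric hE.1.2.2 hc) hnice.1 hf.aut_mem).congr fun x hx => fn_aut hf hx
    · obtain ⟨c, hc1, hc2⟩ := exists_centralizer hTp hnice hc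
      obtain ⟨g, hg, e⟩ := receptive_ext_centralizer hnice.2 hf
      have hlt : Q < Q ⊔ centralizerIn T Q := by
        refine lt_of_le_of_ne le_sup_left fun e' => hc2 ?_
        rw [e']; exact (le_sup_right : centralizerIn T Q ≤ _) hc1
      have hle : Q ⊔ centralizerIn T Q ≤ T := sup_le hQT centralizerIn_le
      exact ((ih _ g hle (card_lt' hle hlt) hg).mono le_sup_left).congr e

/-- `E ≤ C_F(C_S(E))`. -/
theorem sub_CS [hp : Fact p.Prime] [Finite S] (hS : IsPGroup p S) (hE : E.IsNormalIn F p) :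
    ∀ P, E.Hom P ⊆ F.centralizerHom (CS F E p) P := by
  intro P φ hφ
  have h1 := isMap_of_mem hφ
  have hTW : T ≤ centralizerIn S (CS F E p) := fun t ht =>
    mem_centralizerIn.2 ⟨hE.1.2.2.2.1.1 ht, fun y hy => ((mem_centralizerIn.1 (CS_le hy)).2 t ht).symm⟩
  rw [mem_centralizerHom_iff (f := extFun φ) fun x => (extFun_coe φ x).symm]
  exact ⟨h1.le.trans hTW, fun x hx => hTW (h1.mem hx), xw_all hS hE P _ h1.le h1⟩

/-- conjugating a self-map -/
theorem conj_self (hf : IsMap F V f) (hκ : IsMap F V κ) (hs : ∀ v ∈ V, κ v ∈ V) :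
    ∃ κ', IsMap F (img V f) κ' ∧ ∀ v ∈ V, κ' (f v) = f (κ v) := by
  obtain ⟨l, hl, hl1, hl2⟩ := hf.isIso.symm
  exact ⟨fun x => f (κ (l x)), (hl.isMap.comp' hκ fun x hx => hl.mem hx).comp' hf fun x hx => hs _ (hl.mem hx),
    fun v hv => by show f (κ (l (f v))) = _; rw [hl1 v hv]⟩

theorem congrAut_mem (hI : SInv F E) (hP : P ≤ T) (hQT : Q ≤ T) (hχ : IsIso F P Q g) {α : MulAut P}
    (hα : α ∈ E.autGroup P) : IsIso.congrAut hχ α ∈ E.autGroup Q := by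
  have hαi : IsIso E P P (fn α) := fn_iso hP hα
  obtain ⟨g₁, hg₁, hg₁'⟩ := hI P P _ g le_rfl hP hαi.isMap (fun _ hx => hαi.mem hx) hχ.isMap
  rw [hχ.eq_img] at hg₁
  refine mem_autGroup_of_isMap hQT hg₁ fun y => ?_
  obtain ⟨x, hx, e⟩ := hχ.surj y.2
  rw [← fn_coe, ← e, fn_congrAut hχ α hx]
  exact (hg₁' x hx).symm

/-- maps defined on `T` preserve `C_S(E)`. -/
theorem CS_map [hp : Fact p.Prime] [Finite S] (hS : IsPGroup p S) (hE : E.IsNormalIn F p) (hf : IsMap F U f)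
    (hTU : T ≤ U) {x : Ω} (hxU : x ∈ U) (hx : x ∈ CS F E p) : f x ∈ CS F E p := by
  have hT := hE.1.2.2.2.1
  have hTS := hT.1
  have hI := sinv_of_invariant hE.1.2.2
  have hTi := StronglyClosed.isMap_iso hT hf hTU
  rw [mem_CS_iff hS hE]
  refine ⟨map_centralizer hf hTU hTi hxU (CS_le hx), fun P α hP hα ho => ?_⟩
  obtain ⟨l, hl, hl1, hl2⟩ := hTi.symm
  have hlP := hl.restrict hP.1
  have hP₁ : TC F T (img P l) := hP.conj hT hlP
  have hα₁ := congrAut_mem hI hP.1 hP₁.1 hlP hα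
  have ho₁ : (orderOf (IsIso.congrAut hlP α)).Coprime p := by
    rw [MulEquiv.orderOf_eq (IsIso.congrAut hlP) α]; exact ho
  obtain ⟨-, h2⟩ := (mem_CS_iff hS hE).1 hx
  obtain ⟨U₁, κ, h3, h4, h5, h6, h7⟩ := h2 _ _ hP₁ hα₁ ho₁
  have hV : img P l ⊔ Subgroup.zpowers x ≤ U₁ := sup_le h3 (Subgroup.zpowers_le.2 h6)
  have hVU : img P l ⊔ Subgroup.zpowers x ≤ U := sup_le (hP₁.1.trans hTU) (Subgroup.zpowers_le.2 hxU)
  have hs : ∀ v ∈ img P l ⊔ Subgroup.zpowers x, κ v ∈ img P l ⊔ Subgroup.zpowers x := by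
    refine mem_of_sup (h4.mono hV) (fun y hy => ?_) fun y hy => ?_
    · rw [h5 y hy]; exact (le_sup_left : img P l ≤ _) (fn_mem _ hy)
    · obtain ⟨n, rfl⟩ := Subgroup.mem_zpowers_iff.1 hy
      have : κ (x ^ n) = x ^ n := by
        obtain ⟨φ, hφ, eφ⟩ := h4
        have e1 := eφ ⟨x, h6⟩
        have e2 := eφ (⟨x, h6⟩ ^ n)
        rw [map_zpow] at e2
        rw [e1, h7] at e2
        exact e2.symm
      rw [this]
      exact (le_sup_right : Subgroup.zpowers x ≤ _) hy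
  obtain ⟨κ', hκ', e'⟩ := conj_self (hf.mono hVU) (h4.mono hV) hs
  have hxV : x ∈ img P l ⊔ Subgroup.zpowers x := (le_sup_right : Subgroup.zpowers x ≤ _) (Subgroup.mem_zpowers x)
  refine ⟨_, κ', ?_, hκ', ?_, apply_mem_img hxV, by rw [e' x hxV, h7]⟩
  · intro y hy
    rw [← hl2 y (hP.1 hy)]
    exact apply_mem_img ((le_sup_left : img P l ≤ _) (apply_mem_img hy))
  · intro y hy
    have h8 : l y ∈ img P l := apply_mem_img hy
    have h9 := e' (l y) ((le_sup_left : img P l ≤ _) h8)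
    rw [hl2 y (hP.1 hy)] at h9
    rw [h9, h5 _ h8, fn_congrAut hlP α hy, hl2 _ (hP.1 (fn_mem α hy))]

end H87.CE
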