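import Cfsg.Agent.Lib.H87.CE3
set_option autoImplicit false

open Cfsg Cfsg.FusionSystem

namespace H87.CE
open H87.Base H87.Basic H87.Syl H87.Sat H87.Grow H87.Inv H87.Frat H87.Cut H87.PPow H87.Crit H87.PPr H87.CMap H87.NE
open H87.ConstrEq

variable {Ω : Type*} [Group Ω] {S T : Subgroup Ω} {F : FusionSystem S} {E D : FusionSystem T}
  {P Q R M N U V X A Z W : Subgroup Ω} {f g h a b κ : Ω → Ω} {p : ℕ}

/-- Sylow plus coprime elements generate. -/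
theorem gen_syl {Y : Type*} [Group Y] [Fact p.Prime] {V A G : Subgroup Y} [Finite A] (h : SylIn p V A) (hV : V ≤ G)
    (hc : ∀ a ∈ A, (orderOf a).Coprime p → a ∈ G) : A ≤ G := by
  intro α hα
  have h1 := H2.Residual.sylow_sup_residual h.toSylow
  have h3 : (⟨α, hα⟩ : A) ∈ (⊤ : Subgroup A) := Subgroup.mem_top _
  rw [← h1] at h3
  have h4 : (h.toSylow : Subgroup A) ⊔ pResidual p A ≤ G.subgroupOf A := by
    apply sup_le
    · rw [SylIn.coe_toSylow]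
      intro x hx
      exact hV hx
    · rw [pResidual, Subgroup.closure_le]
      intro x hx
      refine hc x x.2 ?_
      rw [Subgroup.orderOf_coe]
      exact hx
  exact h4 h3

/-- the goal of the induction: `f` maps `R ∩ W` into `W` and its restriction to `R ∩ W` extends to `T (R ∩ W)` -/
def Ok (F : FusionSystem S) (T W R : Subgroup Ω) (f : Ω → Ω) : Prop :=
  (∀ x ∈ R ⊓ W, f x ∈ W) ∧ ∃ g, IsMap F (T ⊔ (R ⊓ W)) g ∧ ∀ x ∈ R ⊓ W, g x = f x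

theorem Ok.mono (h : Ok F T W R f) (hQ : Q ≤ R) (e : ∀ x ∈ Q, f x = g x) : Ok F T W Q g := by
  obtain ⟨h1, k, h2, h3⟩ := h
  have hle : Q ⊓ W ≤ R ⊓ W := inf_le_inf_right W hQ
  exact ⟨fun x hx => e x hx.1 ▸ h1 x (hle hx), k, h2.mono (sup_le_sup_left hle T),
    fun x hx => (h3 x (hle hx)).trans (e x hx.1)⟩

theorem Ok.comp (hT : F.StronglyClosed T) (hf : ∀ x ∈ R, f x ∈ Q) (h1 : Ok F T W R f) (h2 : Ok F T W Q g) :
    Ok F T W R (g ∘ f) := by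
  obtain ⟨h3, k, h4, h5⟩ := h1
  obtain ⟨h6, l, h7, h8⟩ := h2
  have hm : ∀ x ∈ R ⊓ W, f x ∈ Q ⊓ W := fun x hx => ⟨hf x hx.1, h3 x hx⟩
  have hk : ∀ x ∈ T ⊔ (R ⊓ W), k x ∈ T ⊔ (Q ⊓ W) := by
    refine mem_of_sup h4 (fun x hx => ?_) fun x hx => ?_
    · exact (le_sup_left : T ≤ _) (mem_of_stronglyClosed hT h4 ((le_sup_left : T ≤ _) hx) hx)
    · rw [h5 x hx]; exact (le_sup_right : Q ⊓ W ≤ _) (hm x hx)
  exact ⟨fun x hx => h6 _ (hm x hx), fun x => l (k x), h4.comp' h7 hk, fun x hx => by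
    show l (k x) = g (f x)
    rw [h5 x hx, h8 _ (hm x hx)]⟩

/-- an `F`-nice product of a subgroup of `T` and one of `C_S(T)` which contains the centralizer in `T` of its
intersection with `T` has an `E`-centric intersection with `T`. -/
theorem tc_of_nice [hp : Fact p.Prime] [Finite S] (hS : IsPGroup p S) (hF : F.IsSaturated p) (hT : F.StronglyClosed T)
    (hR : IsNice F p R) (hc : ∀ c ∈ T, (∀ x ∈ R ⊓ T, x * c = c * x) → c ∈ R) : TC F T (R ⊓ T) := by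
  have hTS := hT.1
  have hRS : R ≤ S := hR.1.1
  refine ⟨inf_le_right, fun Q f hf => ?_⟩
  by_contra hnot
  obtain ⟨c, hcQ, hcn⟩ := Set.not_subset.1 hnot
  have hPS : R ⊓ T ≤ S := inf_le_left.trans hRS
  -- a nice conjugate `Q₂` of `Q`
  obtain ⟨Q₂, hQ₂, hnice⟩ := exists_nice hF hf.le'
  obtain ⟨ψ, hψ, hψi⟩ := hnice.exists_map_normalizer hS hQ₂
  have hcN : c ∈ normalizerIn S Q :=
    centralizerIn_le_normalizerIn (mem_centralizerIn.2 ⟨hTS (mem_centralizerIn.1 hcQ).1, (mem_centralizerIn.1 hcQ).2⟩)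
  have hc₂T : ψ c ∈ T := mem_of_stronglyClosed hT hψ hcN (mem_centralizerIn.1 hcQ).1
  have hQN : Q ≤ normalizerIn S Q := le_normalizerIn hf.le'
  have hc₂C : ∀ y ∈ Q₂, y * ψ c = ψ c * y := by
    intro y hy
    obtain ⟨x, hx, rfl⟩ := hψi.surj hy
    rw [← hψ.map_mul (hQN hx) hcN, (mem_centralizerIn.1 hcQ).2 x hx, hψ.map_mul hcN (hQN hx)]
  have hc₂n : ψ c ∉ Q₂ := by
    intro hmem
    obtain ⟨x, hx, e⟩ := hψi.surj hmem
    exact hcn (hψ.inj (hQN hx) hcN e ▸ hx)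
  -- map `R` to `R₂`
  have hconj : F.IsConj (R ⊓ T) Q₂ := isConj_trans hf.isConj hQ₂
  obtain ⟨χ, hχ, hχi⟩ := hnice.exists_map_normalizer hS hconj
  have hfinP : Finite ↥(R ⊓ T : Subgroup Ω) := finite_of_le hPS
  have hRN : R ≤ normalizerIn S (R ⊓ T) := fun r hr => mem_normalizerIn_iff.2
    ⟨hRS hr, fun y hy => ⟨R.mul_mem (R.mul_mem hr hy.1) (R.inv_mem hr), StronglyClosed.conj_mem hT (hRS hr) hy.2⟩⟩
  have hχR := hχ.mono hRN
  have hQ₂T : Q₂ ≤ T := conj_le_of_stronglyClosed hT hconj inf_le_right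
  have hQ₂R : Q₂ ≤ img R χ := by
    intro y hy
    obtain ⟨x, hx, rfl⟩ := hχi.surj hy
    exact apply_mem_img hx.1
  have hR₂S : img R χ ≤ S := hχR.img_le
  obtain ⟨l, hl, hl1, hl2⟩ := hχR.isIso.symm
  have hR₂T : ∀ y ∈ img R χ, y ∈ T → y ∈ Q₂ := by
    intro y hy hyT
    have h1 : l y ∈ T := mem_of_stronglyClosed hT hl.isMap hy hyT
    have h2 := hχi.mem (show l y ∈ R ⊓ T from ⟨hl.mem hy, h1⟩)
    rwa [hl2 y hy] at h2
  -- `R₂` normalizes `C_T(Q₂)`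
  have hnorm : ∀ r ∈ img R χ, ∀ t ∈ centralizerIn T Q₂, r * t * r⁻¹ ∈ centralizerIn T Q₂ := by
    intro r hr t ht
    rw [mem_centralizerIn] at ht ⊢
    refine ⟨StronglyClosed.conj_mem hT (hR₂S hr) ht.1, fun y hy => ?_⟩
    have h1 : r⁻¹ * y * r ∈ Q₂ := by
      have h2 := StronglyClosed.conj_mem' hT (hR₂S hr) (hQ₂T hy)
      exact hR₂T _ (Subgroup.mul_mem _ (Subgroup.mul_mem _ (Subgroup.inv_mem _ hr) (hQ₂R hy)) hr) h2
    have h3 := ht.2 _ h1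
    calc y * (r * t * r⁻¹) = r * ((r⁻¹ * y * r) * t) * r⁻¹ := by group
      _ = r * (t * (r⁻¹ * y * r)) * r⁻¹ := by rw [h3]
      _ = _ := by group
  have hCnot : ¬ centralizerIn T Q₂ ≤ img R χ := by
    intro h1
    exact hc₂n (hR₂T _ (h1 (mem_centralizerIn.2 ⟨hc₂T, hc₂C⟩)) hc₂T)
  -- an element `t` of `C_T(Q₂)` normalizing `R₂` outside `R₂`
  have hlt : img R χ < img R χ ⊔ centralizerIn T Q₂ := by
    refine lt_of_le_of_ne le_sup_left fun e => hCnot ?_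
    rw [e]; exact le_sup_right
  have hsS : img R χ ⊔ centralizerIn T Q₂ ≤ S := sup_le hR₂S (centralizerIn_le.trans hTS)
  have hfin2 : Finite ↥(img R χ ⊔ centralizerIn T Q₂) := finite_of_le hsS
  have h2 := lt_normalizerIn (hS.to_le hsS) hlt
  obtain ⟨y, hy, hyn⟩ := SetLike.exists_of_lt h2
  obtain ⟨r, hr, t, ht, rfl⟩ := (mem_sup_of_conj hnorm).1 hy.1
  have htn : t ∉ img R χ := fun h3 => hyn (Subgroup.mul_mem _ hr h3)
  have htN : t ∈ Subgroup.normalizer (img R χ : Set Ω) := by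
    have h3 : r ∈ Subgroup.normalizer (img R χ : Set Ω) := Subgroup.le_normalizer hr
    have h4 := Subgroup.mul_mem _ (Subgroup.inv_mem _ h3) hy.2
    rwa [inv_mul_cancel_left] at h4
  have htT : t ∈ T := (mem_centralizerIn.1 ht).1
  obtain ⟨χ', hχ', hχi'⟩ := hR.exists_map_normalizer hS (isConj_symm hχR.isIso.isConj)
  have htN' : t ∈ normalizerIn S (img R χ) := ⟨hTS htT, htN⟩
  have hRN' : img R χ ≤ normalizerIn S (img R χ) := le_normalizerIn hR₂S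
  have h5 : χ' t ∈ R := by
    refine hc _ (mem_of_stronglyClosed hT hχ' htN' htT) fun x hx => ?_
    obtain ⟨z, hz, e⟩ := hχi'.surj hx.1
    have hzT : z ∈ T := by
      obtain ⟨l', hl', hl1', -⟩ := hχi'.symm
      have := mem_of_stronglyClosed hT hl'.isMap hx.1 hx.2
      rwa [← e, hl1' z hz] at this
    have hzQ := hR₂T z hz hzT
    rw [← e, ← hχ'.map_mul (hRN' hz) htN', (mem_centralizerIn.1 ht).2 z hzQ, hχ'.map_mul htN' (hRN' hz)]
  obtain ⟨z, hz, e⟩ := hχi'.surj h5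
  exact htn (hχ'.inj (hRN' hz) htN' e ▸ hz)

/-- the automorphisms of `R` in `E` on `R ∩ T` and trivial modulo `T` -/
noncomputable def Bg [Finite S] (F : FusionSystem S) (E : FusionSystem T) (R : Subgroup Ω) (hR : R ≤ S)
    (hEF : E.IsSubsystemOf F) : Subgroup (MulAut R) where
  carrier := {b | b ∈ F.autGroup R ∧ IsMap E (R ⊓ T) (fn b) ∧ ∀ x ∈ R, x⁻¹ * fn b x ∈ T}
  mul_mem' := by
    rintro b c ⟨h1, h2, h3⟩ ⟨h4, h5, h6⟩
    have hc : ∀ x ∈ R ⊓ T, fn c x ∈ R ⊓ T := fun x hx => ⟨fn_mem _ hx.1, h5.mem hx⟩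
    refine ⟨Subgroup.mul_mem _ h1 h4, (h5.comp' h2 hc).congr fun x hx => (fn_mul b c hx.1).symm, fun x hx => ?_⟩
    rw [fn_mul b c hx]
    have := T.mul_mem (h6 x hx) (h3 _ (fn_mem c hx))
    simpa [mul_assoc] using this
  one_mem' := ⟨Subgroup.one_mem _, by
    by_cases hle : R ⊓ T ≤ T
    · exact (isMap_id E hle).congr fun x hx => (fn_one hx.1).symm
    · exact absurd inf_le_right hle, fun x hx => by rw [fn_one hx, inv_mul_cancel]; exact T.one_mem⟩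
  inv_mem' := by
    rintro b ⟨h1, h2, h3⟩
    have h1' := Subgroup.inv_mem _ h1
    have hTfin : R ⊓ T ≤ S := inf_le_left.trans hR
    have hfin : Finite ↥(R ⊓ T : Subgroup Ω) := finite_of_le hTfin
    have hb : ∀ x ∈ R ⊓ T, fn b x ∈ R ⊓ T := fun x hx => ⟨fn_mem _ hx.1, h2.mem hx⟩
    have hbi : IsIso F (R ⊓ T) (R ⊓ T) (fn b) := isIso_of_self (isMap_of_sub hEF h2) hb
    have hbE : IsIso E (R ⊓ T) (R ⊓ T) (fn b) := isIso_iff.2 ⟨h2, hbi.eq_img⟩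
    obtain ⟨l, hl, hl1, hl2⟩ := hbE.symm
    refine ⟨h1', hl.isMap.congr fun y hy => ?_, fun x hx => ?_⟩
    · obtain ⟨x, hx, rfl⟩ := hbE.surj hy
      rw [hl1 x hx, fn_inv_apply b hx.1]
    · have h4 := h3 _ (fn_mem b⁻¹ hx)
      rw [fn_apply_inv b hx] at h4
      have := T.inv_mem h4
      simpa using this

theorem mem_Bg [Finite S] {hR : R ≤ S} {hEF : E.IsSubsystemOf F} {b : MulAut R} : b ∈ Bg F E R hR hEF ↔
    b ∈ F.autGroup R ∧ IsMap E (R ⊓ T) (fn b) ∧ ∀ x ∈ R, x⁻¹ * fn b x ∈ T := Iff.rfl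

theorem Bg_normal [Finite S] (hR : R ≤ S) (hEF : E.IsSubsystemOf F) (hT : F.StronglyClosed T) (hI : SInv F E) :
    ∀ a ∈ F.autGroup R, ∀ k ∈ Bg F E R hR hEF, a * k * a⁻¹ ∈ Bg F E R hR hEF := by
  rintro a ha k ⟨h1, h2, h3⟩
  have ha' := Subgroup.inv_mem _ ha
  have hai := fn_iso hR ha
  have hai' := fn_iso hR ha'
  have haT : ∀ x ∈ R ⊓ T, fn a x ∈ R ⊓ T := fun x hx =>
    ⟨fn_mem _ hx.1, mem_of_stronglyClosed hT hai.isMap hx.1 hx.2⟩
  have haP : IsIso F (R ⊓ T) (R ⊓ T) (fn a) := isIso_of_self (hai.isMap.mono inf_le_left) haT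
  obtain ⟨g, hg, e⟩ := hI (R ⊓ T) (R ⊓ T) (fn k) (fn a) le_rfl inf_le_right h2
    (fun x hx => ⟨fn_mem _ hx.1, h2.mem hx⟩) haP.isMap
  rw [haP.eq_img] at hg
  refine ⟨Subgroup.mul_mem _ (Subgroup.mul_mem _ ha h1) ha', hg.congr fun y hy => ?_, fun x hx => ?_⟩
  · obtain ⟨x, hx, rfl⟩ := haP.surj hy
    rw [e x hx, fn_mul _ _ (fn_mem a hx.1), fn_inv_apply a hx.1, fn_mul _ _ hx.1]
  · rw [fn_mul _ _ hx, fn_mul _ _ (fn_mem a⁻¹ hx)]
    have h4 := h3 _ (fn_mem a⁻¹ hx)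
    have h5 : (fn a⁻¹ x)⁻¹ * fn k (fn a⁻¹ x) ∈ R :=
      R.mul_mem (R.inv_mem (fn_mem _ hx)) (fn_mem _ (fn_mem _ hx))
    have h6 := mem_of_stronglyClosed hT hai.isMap h5 h4
    rw [hai.isMap.map_mul (R.inv_mem (fn_mem _ hx)) (fn_mem _ (fn_mem _ hx)), hai.isMap.map_inv (fn_mem _ hx),
      fn_apply_inv a hx] at h6
    exact h6

end H87.CE
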