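import Cfsg.Agent.Lib.H87.CE4
set_option autoImplicit false

open Cfsg Cfsg.FusionSystem

namespace H87.CE
open H87.Base H87.Basic H87.Syl H87.Sat H87.Grow H87.Inv H87.Frat H87.Cut H87.PPow H87.Crit H87.PPr H87.CMap H87.NE
open H87.ConstrEq

variable {Ω : Type*} [Group Ω] {S T : Subgroup Ω} {F : FusionSystem S} {E D : FusionSystem T}
  {P Q R M N U V X A Z W : Subgroup Ω} {f g h a b κ : Ω → Ω} {p : ℕ}

theorem Bg_fix [hp : Fact p.Prime] [Finite S] (hS : IsPGroup p S) (hE : E.IsNormalIn F p) {hR : R ≤ S}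
    {hEF : E.IsSubsystemOf F} (hP : TC F T (R ⊓ T)) {k : MulAut R} (hk : k ∈ Bg F E R hR hEF)
    (ho : (orderOf k).Coprime p) {x : Ω} (hx : x ∈ R) (hxW : x ∈ CS F E p) : fn k x = x := by
  have hT := hE.1.2.2.2.1
  obtain ⟨h1, h2, h3⟩ := hk
  have hfin : Finite ↥(R ⊓ T : Subgroup Ω) := finite_of_le (inf_le_left.trans hR)
  have hb : ∀ x ∈ R ⊓ T, fn k x ∈ R ⊓ T := fun x hx => ⟨fn_mem _ hx.1, h2.mem hx⟩
  have hbi : IsIso F (R ⊓ T) (R ⊓ T) (fn k) := isIso_of_self (isMap_of_sub hEF h2) hb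
  have hbE : IsIso E (R ⊓ T) (R ⊓ T) (fn k) := isIso_iff.2 ⟨h2, hbi.eq_img⟩
  have hα := hbE.aut_mem
  have hval : ∀ x ∈ R ⊓ T, fn k x = fn hbE.aut x := fun x hx => (fn_aut hbE hx).symm
  have hoα : (orderOf hbE.aut).Coprime p := by
    refine Nat.Coprime.coprime_dvd_left (orderOf_restrict_dvd (P := R) (Q := R ⊓ T) inf_le_left fun y hy => ?_) ho
    have := hval y hy
    rw [fn_apply _ hy.1, fn_apply _ hy] at this
    exact this.symm
  obtain ⟨γ, hγ⟩ := exists_lift hS hE hP hα hoα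
  have hxC : x ∈ centralizerIn S (R ⊓ T) := centralizerIn_anti inf_le_right (CS_le hxW)
  have h4 := lift_unique hS hγ inf_le_left hR h1 ho hval hx hxC
    ⟨R.mul_mem (R.inv_mem hx) (fn_mem _ hx), h3 x hx⟩
  rw [← h4]
  exact (hxW.2 _ _ _ hP hα hoα hγ).2

/-- automorphisms of `R` acting on `R ∩ W` as conjugation by elements of `S`. -/
noncomputable def Gc (S W R : Subgroup Ω) [Finite S] (hR : R ≤ S) (hW : ∀ s ∈ S, ∀ w ∈ W, s * w * s⁻¹ ∈ W) :
    Subgroup (MulAut R) where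
  carrier := {b | ∃ s ∈ S, ∀ x ∈ R ⊓ W, fn b x = s * x * s⁻¹}
  mul_mem' := by
    rintro b c ⟨s, hs, e⟩ ⟨t, ht, e'⟩
    refine ⟨s * t, S.mul_mem hs ht, fun x hx => ?_⟩
    have h1 : fn c x ∈ R ⊓ W := ⟨fn_mem _ hx.1, by rw [e' x hx]; exact hW t ht x hx.2⟩
    rw [fn_mul _ _ hx.1, e _ h1, e' x hx]; group
  one_mem' := ⟨1, S.one_mem, fun x hx => by rw [fn_one hx.1]; group⟩
  inv_mem' := by
    rintro b ⟨s, hs, e⟩
    refine ⟨s⁻¹, S.inv_mem hs, fun x hx => ?_⟩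
    have hfin : Finite ↥(R ⊓ W : Subgroup Ω) := finite_of_le (inf_le_left.trans hR)
    have h1 : ∀ y ∈ R ⊓ W, fn b y ∈ R ⊓ W := fun y hy => ⟨fn_mem _ hy.1, by rw [e y hy]; exact hW s hs y hy.2⟩
    have hinj : Function.Injective (fun y : ↥(R ⊓ W : Subgroup Ω) => (⟨fn b y, h1 y y.2⟩ : ↥(R ⊓ W : Subgroup Ω))) := by
      intro y z hyz
      have h2 : fn b y = fn b z := congrArg Subtype.val hyz
      have h3 := congrArg (fn b⁻¹) h2
      rw [fn_inv_apply b y.2.1, fn_inv_apply b z.2.1] at h3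
      exact Subtype.ext h3
    obtain ⟨⟨y, hy⟩, hyx⟩ := Finite.injective_iff_surjective.1 hinj ⟨x, hx⟩
    have h2 : fn b y = x := congrArg Subtype.val hyx
    have h3 : fn b⁻¹ x = y := by rw [← h2, fn_inv_apply b hy.1]
    rw [h3, ← h2, e y hy]; group

theorem CS_conj [hp : Fact p.Prime] [Finite S] (hS : IsPGroup p S) (hE : E.IsNormalIn F p) {s w : Ω} (hs : s ∈ S)
    (hw : w ∈ CS F E p) : s * w * s⁻¹ ∈ CS F E p :=
  CS_map hS hE (isMap_conj F le_rfl hs) hE.1.2.2.2.1.1 (centralizerIn_le (CS_le hw)) hw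

theorem step_nice [hp : Fact p.Prime] [Finite S] (hS : IsPGroup p S) (hE : E.IsNormalIn F p) (hR : IsNice F p R)
    (hRle : R ≤ (R ⊓ T) ⊔ (R ⊓ CS F E p)) (hlt : ¬ T ≤ R)
    (ih : ∀ (R' : Subgroup Ω) (k : Ω → Ω), IsMap F R' k → R' ≤ (R' ⊓ T) ⊔ (R' ⊓ CS F E p) →
      Nat.card ↥(R ⊓ T : Subgroup Ω) < Nat.card ↥(R' ⊓ T : Subgroup Ω) → Ok F T (CS F E p) R' k)
    {δ : Ω → Ω} (hδ : IsIso F R R δ) : Ok F T (CS F E p) R δ := by
  have hT := hE.1.2.2.2.1
  have hTS := hT.1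
  have hF := hE.1.2.1
  have hEF := hE.1.2.2.1
  have hI := sinv_of_invariant hE.1.2.2
  have hRS : R ≤ S := hR.1.1
  have hWS : CS F E p ≤ S := CS_le.trans centralizerIn_le
  -- adding elements of `T`
  have grow : ∀ (C : Subgroup Ω) (k : Ω → Ω), C ≤ T → ¬ C ≤ R → IsMap F (R ⊔ C) k → Ok F T (CS F E p) (R ⊔ C) k := by
    intro C k hC hn hk
    refine ih _ k hk ?_ ?_
    · refine sup_le (hRle.trans (sup_le_sup ?_ ?_)) ?_
      · exact inf_le_inf_right T le_sup_left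
      · exact inf_le_inf_right _ le_sup_left
      · exact (le_inf le_sup_right hC).trans le_sup_left
    · refine card_lt' (S := S) (inf_le_left.trans hk.le) (lt_of_le_of_ne (inf_le_inf_right T le_sup_left) fun e => hn ?_)
      have h1 : C ≤ (R ⊔ C) ⊓ T := le_inf le_sup_right hC
      rw [← e] at h1
      exact h1.trans inf_le_left
  by_cases hc : ∀ c ∈ T, (∀ x ∈ R ⊓ T, x * c = c * x) → c ∈ R
  · have hP := tc_of_nice hS hF hT hR hc
    have hWn : ∀ s ∈ S, ∀ w ∈ CS F E p, s * w * s⁻¹ ∈ CS F E p := fun s hs w hw => CS_conj hS hE hs hw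
    have hfinR : Finite R := finite_of_le hRS
    have hfinA : Finite (MulAut R) := finite_mulAut
    have hBn := Bg_normal hRS hEF hT hI
    have hBF : Bg F E R hRS hEF ≤ F.autGroup R := fun b hb => hb.1
    have hsyl := (isFullyAutomized_iff.1 hR.1).2.inf_normal hBF hBn
    have hBG : Bg F E R hRS hEF ≤ Gc S (CS F E p) R hRS hWn := by
      refine gen_syl hsyl (fun v hv => ?_) fun v hv ho => ?_
      · obtain ⟨s, hs, e⟩ := fn_autInduced hv.1
        exact ⟨s, hs, fun x hx => e x hx.1⟩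
      · exact ⟨1, S.one_mem, fun x hx => by rw [Bg_fix hS hE hP hv ho hx.1 hx.2]; group⟩
    obtain ⟨k, hk, hD⟩ := hR.frattini hBF hBn hδ.aut_mem
    obtain ⟨g, hg, e⟩ := hD (normalizerIn T R) (inf_le_left.trans hTS) (by
      intro d hd
      refine ⟨cj R hd.2, ⟨autInducedBy_le_autGroup F hRS (cj_mem hd.2 (hTS hd.1)), ?_, fun x hx => ?_⟩, fun x => rfl⟩
      · exact (isMap_conj E inf_le_right hd.1).congr fun x hx => (fn_cj hd.2 hx.1).symm
      · rw [fn_cj hd.2 hx]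
        have := T.mul_mem (StronglyClosed.conj_mem' hT (hRS hx) hd.1) (T.inv_mem hd.1)
        simpa [mul_assoc] using this)
    have hnot : ¬ normalizerIn T R ≤ R := by
      intro h1
      have h2 := StronglyClosed.lt_sup_normalizerIn hS hT hRS hlt
      rw [sup_eq_left.2 h1] at h2
      exact lt_irrefl _ h2
    have hkβ : ∀ x (hx : x ∈ R), (((k * hδ.aut) ⟨x, hx⟩ : R) : Ω) = fn k (δ x) := by
      intro x hx
      rw [← fn_apply _ hx, fn_mul _ _ hx, fn_aut hδ hx]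
    have hok' : Ok F T (CS F E p) R (fun x => fn k (δ x)) :=
      (grow _ g inf_le_left hnot hg).mono le_sup_left fun x hx => by rw [e x hx, hkβ x hx]
    -- apply `k⁻¹`
    obtain ⟨s, hs, es⟩ := hBG (Subgroup.inv_mem _ hk)
    obtain ⟨h1, l, hl, hl'⟩ := hok'
    have h2 : ∀ x ∈ R ⊓ CS F E p, δ x = s * fn k (δ x) * s⁻¹ := by
      intro x hx
      have h3 : fn k (δ x) ∈ R ⊓ CS F E p := ⟨fn_mem _ (hδ.mem hx.1), h1 x hx⟩
      rw [← es _ h3, fn_inv_apply k (hδ.mem hx.1)]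
    refine ⟨fun x hx => ?_, fun x => s * l x * s⁻¹, ?_, fun x hx => ?_⟩
    · rw [h2 x hx]; exact hWn s hs _ (h1 x hx)
    · exact hl.comp' (isMap_conj F le_rfl hs) fun x hx => hl.mem hx
    · show s * l x * s⁻¹ = δ x
      rw [hl' x hx, ← h2 x hx]
  · push Not at hc
    obtain ⟨c, hcT, hcC, hcR⟩ := hc
    obtain ⟨g, hg, e⟩ := receptive_ext_centralizer hR.2 hδ
    have hcS : c ∈ centralizerIn S R := by
      refine mem_centralizerIn.2 ⟨hTS hcT, fun y hy => ?_⟩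
      have hcomm : R ≤ Subgroup.centralizer ({c} : Set Ω) := by
        refine hRle.trans (sup_le (fun x hx => ?_) fun x hx => ?_)
        · rw [Subgroup.mem_centralizer_iff]
          rintro _ rfl
          exact (hcC x hx).symm
        · rw [Subgroup.mem_centralizer_iff]
          rintro _ rfl
          exact (mem_centralizerIn.1 (CS_le hx.2)).2 _ hcT
      exact (Subgroup.mem_centralizer_iff.1 (hcomm hy) c rfl).symm
    have hle : R ⊔ Subgroup.zpowers c ≤ R ⊔ centralizerIn S R := sup_le_sup_left (Subgroup.zpowers_le.2 hcS) R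
    exact (grow (Subgroup.zpowers c) g (Subgroup.zpowers_le.2 hcT)
      (fun h1 => hcR (h1 (Subgroup.mem_zpowers c))) (hg.mono hle)).mono le_sup_left e

/-- main theorem: maps on `R = (R ∩ T)(R ∩ C_S(E))`. -/
theorem ok_all [hp : Fact p.Prime] [Finite S] (hS : IsPGroup p S) (hE : E.IsNormalIn F p) :
    ∀ (R : Subgroup Ω) (f : Ω → Ω), IsMap F R f → R ≤ (R ⊓ T) ⊔ (R ⊓ CS F E p) → Ok F T (CS F E p) R f := by
  have hT := hE.1.2.2.2.1
  have hTS := hT.1
  have hF := hE.1.2.1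
  have hTfin : Finite T := finite_of_le hTS
  intro R f hf hRle
  obtain ⟨n, hn⟩ : ∃ n, Nat.card T - Nat.card ↥(R ⊓ T : Subgroup Ω) = n := ⟨_, rfl⟩
  induction n using Nat.strong_induction_on generalizing R f with
  | _ n ih =>
  have hcardle : ∀ R' : Subgroup Ω, Nat.card ↥(R' ⊓ T : Subgroup Ω) ≤ Nat.card T := fun R' =>
    Nat.card_le_card_of_injective _ (Subgroup.inclusion_injective inf_le_right)
  have ih' : ∀ (R' : Subgroup Ω) (k : Ω → Ω), IsMap F R' k → R' ≤ (R' ⊓ T) ⊔ (R' ⊓ CS F E p) →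
      Nat.card ↥(R ⊓ T : Subgroup Ω) < Nat.card ↥(R' ⊓ T : Subgroup Ω) → Ok F T (CS F E p) R' k := by
    intro R' k h1 h2 h3
    have := hcardle R'
    exact ih (Nat.card T - Nat.card ↥(R' ⊓ T : Subgroup Ω)) (by omega) R' k h1 h2 rfl
  by_cases hTR : T ≤ R
  · refine ⟨fun x hx => CS_map hS hE hf hTR hx.1 hx.2, f, hf.mono (sup_le hTR inf_le_left), fun _ _ => rfl⟩
  have hRS := hf.le
  -- `T`-parts of isomorphic subgroups
  have htp : ∀ {A B : Subgroup Ω} {k : Ω → Ω}, IsIso F A B k → IsIso F (A ⊓ T) (B ⊓ T) k := by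
    intro A B k hk
    refine (hk.isMap.mono inf_le_left).isIso_of (fun x hx => ⟨hk.mem hx.1, mem_of_stronglyClosed hT hk.isMap hx.1 hx.2⟩)
      fun y hy => ?_
    obtain ⟨l, hl, hl1, hl2⟩ := hk.symm
    exact ⟨l y, ⟨hl.mem hy.1, mem_of_stronglyClosed hT hl.isMap hy.1 hy.2⟩, hl2 y hy.1⟩
  have hgrow : ∀ A : Subgroup Ω, A ≤ S → ¬ T ≤ A → Nat.card ↥(A ⊓ T : Subgroup Ω) <
      Nat.card ↥(((A ⊔ normalizerIn T A) ⊓ T : Subgroup Ω)) := by
    intro A hA hTA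
    have h2 := StronglyClosed.lt_sup_normalizerIn hS hT hA hTA
    refine card_lt' (S := T) inf_le_right (lt_of_le_of_ne (inf_le_inf_right T le_sup_left) fun e => ?_)
    have h3 : normalizerIn T A ≤ A := by
      have : normalizerIn T A ≤ (A ⊔ normalizerIn T A) ⊓ T := le_inf le_sup_right inf_le_left
      rw [← e] at this
      exact this.trans inf_le_left
    rw [sup_eq_left.2 h3] at h2
    exact lt_irrefl _ h2
  obtain ⟨R₁, hR₁, hnice⟩ := exists_nice hF hRS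
  have hfi := hf.isIso
  obtain ⟨χ, hχ, hχi⟩ := hnice.exists_map_normalizer hS hR₁
  obtain ⟨ψ, hψ, hψi⟩ := hnice.exists_map_normalizer hS (isConj_trans (isConj_symm hfi.isConj) hR₁)
  -- first map
  have hNle : R ⊔ normalizerIn T R ≤ normalizerIn S R :=
    sup_le (le_normalizerIn hRS) (fun x hx => ⟨hTS hx.1, hx.2⟩)
  have hok1 : Ok F T (CS F E p) R χ := by
    refine (ih' (R ⊔ normalizerIn T R) χ (hχ.mono hNle) ?_ (hgrow R hRS hTR)).mono le_sup_left fun _ _ => rfl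
    refine sup_le (hRle.trans (sup_le_sup (inf_le_inf_right T le_sup_left) (inf_le_inf_right _ le_sup_left))) ?_
    exact (le_inf le_sup_right inf_le_left).trans le_sup_left
  have hR₁le : R₁ ≤ (R₁ ⊓ T) ⊔ (R₁ ⊓ CS F E p) := by
    have hmm : ∀ x ∈ (R ⊓ T) ⊔ (R ⊓ CS F E p), χ x ∈ (R₁ ⊓ T) ⊔ (R₁ ⊓ CS F E p) := by
      refine mem_of_sup (hχi.isMap.mono (sup_le inf_le_left inf_le_left)) (fun x hx => ?_) fun x hx => ?_
      · exact (le_sup_left : R₁ ⊓ T ≤ _) ⟨hχi.mem hx.1, mem_of_stronglyClosed hT hχi.isMap hx.1 hx.2⟩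
      · exact (le_sup_right : R₁ ⊓ CS F E p ≤ _) ⟨hχi.mem hx.1, hok1.1 x hx⟩
    intro y hy
    obtain ⟨x, hx, rfl⟩ := hχi.surj hy
    exact hmm x (hRle hx)
  have hc1 : Nat.card ↥(R ⊓ T : Subgroup Ω) = Nat.card ↥(R₁ ⊓ T : Subgroup Ω) := (htp hχi).card_eq
  have hTR₁ : ¬ T ≤ R₁ := by
    intro h1
    have h2 : R₁ ⊓ T = T := inf_eq_right.2 h1
    rw [h2] at hc1
    have h3 : (R ⊓ T : Subgroup Ω) = T := Subgroup.eq_of_le_of_card_ge inf_le_right hc1.ge
    exact hTR (inf_eq_right.1 h3)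
  -- middle automorphism
  obtain ⟨χ', hχ', hχ'1, hχ'2⟩ := hχi.symm
  have hδ : IsIso F R₁ R₁ (ψ ∘ (f ∘ χ')) := (hχ'.comp hfi).comp hψi
  have hok2 : Ok F T (CS F E p) R₁ (ψ ∘ (f ∘ χ')) := by
    refine step_nice hS hE hnice hR₁le hTR₁ ?_ hδ
    intro R' k h1 h2 h3
    exact ih' R' k h1 h2 (hc1 ▸ h3)
  -- last map
  have hR₂S : img R f ≤ S := hf.img_le
  have hTR₂ : ¬ T ≤ img R f := by
    intro h1
    have h2 : img R f ⊓ T = T := inf_eq_right.2 h1
    have h4 := (htp hfi).card_eq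
    rw [h2] at h4
    have h3 : (R ⊓ T : Subgroup Ω) = T := Subgroup.eq_of_le_of_card_ge inf_le_right h4.ge
    exact hTR (inf_eq_right.1 h3)
  have hN₂le : img R f ⊔ normalizerIn T (img R f) ≤ normalizerIn S (img R f) :=
    sup_le (le_normalizerIn hR₂S) (fun x hx => ⟨hTS hx.1, hx.2⟩)
  have hψN := (hψ.mono hN₂le).isIso
  obtain ⟨ψ', hψ', hψ'1, hψ'2⟩ := hψN.symm
  have hR₁V : R₁ ≤ img (img R f ⊔ normalizerIn T (img R f)) ψ := by
    rw [← hψi.eq_img]; exact img_mono le_sup_left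
  have hok3 : Ok F T (CS F E p) R₁ ψ' := by
    -- the subgroup `ψ(N_T(f R)) R₁`
    have hc4 : Nat.card ↥(R ⊓ T : Subgroup Ω) <
        Nat.card ↥(img (img R f ⊔ normalizerIn T (img R f)) ψ ⊓ T : Subgroup Ω) := by
      rw [(htp hfi).card_eq, ← (htp hψN).card_eq]
      exact hgrow _ hR₂S hTR₂
    refine (ih' _ ψ' hψ'.isMap ?_ hc4).mono hR₁V fun _ _ => rfl
    intro y hy
    obtain ⟨x, hx, rfl⟩ := hψN.surj hy
    have hmm : ∀ x ∈ img R f ⊔ normalizerIn T (img R f), ψ x ∈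
        (img (img R f ⊔ normalizerIn T (img R f)) ψ ⊓ T) ⊔
          (img (img R f ⊔ normalizerIn T (img R f)) ψ ⊓ CS F E p) := by
      refine mem_of_sup hψN.isMap (fun x hx => ?_) fun x hx => ?_
      · have h1 := hR₁le (hψi.mem hx)
        exact (sup_le_sup (inf_le_inf_right T hR₁V) (inf_le_inf_right _ hR₁V)) h1
      · have hx' := (le_sup_right : normalizerIn T (img R f) ≤ img R f ⊔ _) hx
        exact (le_sup_left : img (img R f ⊔ normalizerIn T (img R f)) ψ ⊓ T ≤ _)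
          ⟨hψN.mem hx', mem_of_stronglyClosed hT hψN.isMap hx' hx.1⟩
    exact hmm x hx
  -- compose
  have h12 := Ok.comp hT (fun x hx => hχi.mem hx) hok1 hok2
  have h123 := Ok.comp hT (fun x hx => hδ.mem (hχi.mem hx)) h12 hok3
  refine h123.mono le_rfl fun x hx => ?_
  show ψ' (ψ (f (χ' (χ x)))) = f x
  rw [hχ'1 x hx, hψ'1 _ ((le_sup_left : img R f ≤ _) (apply_mem_img hx))]

/-- every map on a subgroup of `C_S(E)` has values there and extends to `T`. -/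
theorem CS_ext [hp : Fact p.Prime] [Finite S] (hS : IsPGroup p S) (hE : E.IsNormalIn F p) (hX : X ≤ CS F E p)
    (hf : IsMap F X f) : (∀ x ∈ X, f x ∈ CS F E p) ∧ ∃ g, IsMap F (T ⊔ X) g ∧ ∀ x ∈ X, g x = f x := by
  have e : X ⊓ CS F E p = X := inf_eq_left.2 hX
  obtain ⟨h1, g, h2, h3⟩ := ok_all hS hE X f hf (by rw [e]; exact le_sup_right)
  rw [e] at h1 h2 h3
  exact ⟨h1, g, h2, h3⟩

theorem CS_stronglyClosed [hp : Fact p.Prime] [Finite S] (hS : IsPGroup p S) (hE : E.IsNormalIn F p) :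
    F.StronglyClosed (CS F E p) := by
  rw [stronglyClosed_iff]
  exact ⟨CS_le.trans centralizerIn_le, fun P f hP hf => (CS_ext hS hE hP hf).1⟩

end H87.CE
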