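import Cfsg.Agent.Lib.H87.CE5
set_option autoImplicit false

open Cfsg Cfsg.FusionSystem

namespace H87.CE
open H87.Base H87.Basic H87.Syl H87.Sat H87.Grow H87.Inv H87.Frat H87.Cut H87.PPow H87.Crit H87.PPr H87.CMap H87.NE
open H87.ConstrEq

variable {Ω : Type*} [Group Ω] {S T : Subgroup Ω} {F : FusionSystem S} {E D : FusionSystem T}
  {P Q R M N U V X A Z W : Subgroup Ω} {f g h a b κ : Ω → Ω} {p : ℕ}

theorem zpow_fix (hf : IsMap F U f) {x : Ω} (hx : x ∈ U) (e : f x = x) (n : ℤ) : f (x ^ n) = x ^ n := by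
  obtain ⟨φ, hφ, eφ⟩ := hf
  have e1 := eφ ⟨x, hx⟩
  have e2 := eφ (⟨x, hx⟩ ^ n)
  rw [map_zpow] at e2
  rw [e1, e] at e2
  exact e2.symm

/-- the focal subgroup of `C_F(T)` lies in `C_S(E)`: elementwise. -/
theorem foc_mem [hp : Fact p.Prime] [Finite S] (hS : IsPGroup p S) (hE : E.IsNormalIn F p) (hg : IsMap F U g)
    (hTU : T ≤ U) (hgT : ∀ t ∈ T, g t = t) {x : Ω} (hx : x ∈ U) (hxC : x ∈ centralizerIn S T) :
    x⁻¹ * g x ∈ CS F E p := by
  have hT := hE.1.2.2.2.1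
  have hTS := hT.1
  have hgi : IsIso F T T g := (isIso_id F hTS).congr fun t ht => (hgT t ht).symm
  have hgC : g x ∈ centralizerIn S T := map_centralizer hg hTU hgi hx hxC
  refine ⟨Subgroup.mul_mem _ (Subgroup.inv_mem _ hxC) hgC, fun P α γ hP hα ho hγ => ?_⟩
  have hPS := hP.1.trans hTS
  have hPU := hP.1.trans hTU
  have hC := centralizerIn_anti (S := S) hP.1
  have hγi := fn_iso (sup_le hPS centralizerIn_le) hγ.mem
  have hV : P ⊔ Subgroup.zpowers x ≤ P ⊔ centralizerIn S P := sup_le_sup_left (Subgroup.zpowers_le.2 (hC hxC)) P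
  have hVU : P ⊔ Subgroup.zpowers x ≤ U := sup_le hPU (Subgroup.zpowers_le.2 hx)
  have hxV : x ∈ P ⊔ Subgroup.zpowers x := (le_sup_right : Subgroup.zpowers x ≤ _) (Subgroup.mem_zpowers x)
  have hPV : P ≤ P ⊔ Subgroup.zpowers x := le_sup_left
  have hxM : x ∈ P ⊔ centralizerIn S P := hV hxV
  have hw := hγ.ne x (hC hxC)
  have hγP : ∀ y ∈ P, fn γ y ∈ P := fun y hy => by rw [hγ.eq y hy]; exact fn_mem _ hy
  have hzp : ∀ n : ℤ, ∃ w ∈ P, fn γ (x ^ n) = x ^ n * w := by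
    -- `x ↦ x⁻¹ γ(x)` is a homomorphism on `⟨x⟩`
    intro n
    refine ⟨_, hγ.ne (x ^ n) (Subgroup.zpow_mem _ (hC hxC) n), by group⟩
  have hself : ∀ v ∈ P ⊔ Subgroup.zpowers x, fn γ v ∈ P ⊔ Subgroup.zpowers x := by
    refine mem_of_sup (hγi.isMap.mono hV) (fun y hy => hPV (hγP y hy)) fun y hy => ?_
    obtain ⟨n, rfl⟩ := Subgroup.mem_zpowers_iff.1 hy
    obtain ⟨w, hw', e⟩ := hzp n
    rw [e]
    exact Subgroup.mul_mem _ (Subgroup.zpow_mem _ hxV n) (hPV hw')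
  obtain ⟨κ, hκ, e⟩ := conj_self (hg.mono hVU) (hγi.isMap.mono hV) hself
  have hκself : ∀ v ∈ img (P ⊔ Subgroup.zpowers x) g, κ v ∈ img (P ⊔ Subgroup.zpowers x) g := by
    intro v hv
    obtain ⟨u, hu, rfl⟩ := (mem_img (hg.mono hVU)).1 hv
    rw [e u hu]; exact apply_mem_img (hself u hu)
  have hκi : IsIso F _ _ κ := isIso_of_self hκ hκself
  have hpow : ∀ m : ℕ, ∀ v ∈ P ⊔ Subgroup.zpowers x, fn (hκi.aut ^ m) (g v) = g (fn (γ ^ m) v) ∧
      fn (γ ^ m) v ∈ P ⊔ Subgroup.zpowers x := by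
    intro m v hv
    induction m with
    | zero => rw [pow_zero, pow_zero, fn_one (apply_mem_img hv), fn_one (hV hv)]; exact ⟨rfl, hv⟩
    | succ m ih =>
      rw [fn_pow_succ _ m (apply_mem_img hv), ih.1, fn_pow_succ _ m (hV hv)]
      refine ⟨?_, hself _ ih.2⟩
      rw [fn_aut hκi (apply_mem_img ih.2), e _ ih.2]
  have hoκ : (orderOf hκi.aut).Coprime p := by
    refine Nat.Coprime.coprime_dvd_left (orderOf_dvd_of_pow_eq_one (n := orderOf γ) ?_) hγ.cop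
    refine fn_ext fun y hy => ?_
    obtain ⟨v, hv, rfl⟩ := (mem_img (hg.mono hVU)).1 hy
    rw [(hpow _ v hv).1, pow_orderOf_eq_one, fn_one (hV hv), fn_one hy]
  have hPimg : P ≤ img (P ⊔ Subgroup.zpowers x) g := fun y hy => by
    rw [← hgT y (hP.1 hy)]; exact apply_mem_img (hPV hy)
  have hgx : g x ∈ img (P ⊔ Subgroup.zpowers x) g := apply_mem_img hxV
  have hval : ∀ y ∈ P, fn hκi.aut y = fn α y := by
    intro y hy
    have h1 := e y (hPV hy)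
    rw [hgT y (hP.1 hy), hγ.eq y hy, hgT _ (hP.1 (fn_mem α hy))] at h1
    rw [fn_aut hκi (hPimg hy), h1]
  have hwx : fn γ x = x * (x⁻¹ * fn γ x) := by group
  have hκx : κ (g x) = g x * (x⁻¹ * fn γ x) := by
    have hwU : x⁻¹ * fn γ x ∈ U := hPU hw
    rw [e x hxV, hwx, hg.map_mul hx hwU, hgT _ (hP.1 hw)]
    group
  have huniq := lift_unique hS hγ hPimg hκi.le hκi.aut_mem hoκ hval hgx (hC hgC) (by
    rw [fn_aut hκi hgx, hκx, inv_mul_cancel_left]; exact hw)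
  rw [fn_aut hκi hgx, hκx] at huniq
  have hgxM : g x ∈ P ⊔ centralizerIn S P := (le_sup_right : centralizerIn S P ≤ _) (hC hgC)
  have hxi : x⁻¹ ∈ P ⊔ centralizerIn S P := Subgroup.inv_mem _ hxM
  refine ⟨Subgroup.mul_mem _ hxi hgxM, ?_⟩
  rw [fn_map_mul γ hxi hgxM, huniq, hγi.isMap.map_inv hxM]
  have hc : (x⁻¹ * g x) * (x⁻¹ * fn γ x) = (x⁻¹ * fn γ x) * (x⁻¹ * g x) := by
    have h1 := (mem_centralizerIn.1 (Subgroup.mul_mem _ (Subgroup.inv_mem _ (hC hxC)) (hC hgC) :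
      x⁻¹ * g x ∈ centralizerIn S P)).2 _ hw
    exact h1.symm
  calc (fn γ x)⁻¹ * (g x * (x⁻¹ * fn γ x)) = (fn γ x)⁻¹ * x * ((x⁻¹ * g x) * (x⁻¹ * fn γ x)) := by group
    _ = (fn γ x)⁻¹ * x * ((x⁻¹ * fn γ x) * (x⁻¹ * g x)) := by rw [hc]
    _ = _ := by group

/-- the focal subgroup of `C_F(T)` lies in `C_S(E)` -/
theorem foc_le_CS [hp : Fact p.Prime] [Finite S] (hS : IsPGroup p S) (hE : E.IsNormalIn F p)
    {C : FusionSystem (centralizerIn S T)} (hC : F.IsCentralizerSystem T C) : C.focalSubgroup ≤ CS F E p := by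
  refine (Subgroup.closure_le _).2 ?_
  rintro _ ⟨P, φ, x, hφ, rfl⟩
  obtain ⟨h1, h2, g, hg, e1, e2⟩ := (isMap_centralizer_iff hC).1 (isMap_of_mem hφ)
  have h3 := foc_mem hS hE hg le_sup_right e2 ((le_sup_left : P ≤ _) x.2) (h1 x.2)
  rw [e1 x x.2, extFun_coe] at h3
  exact h3

end H87.CE
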