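import Cfsg.Agent.Lib.H87.TrIdx
import Cfsg.Agent.Lib.H1.Frat
set_option autoImplicit false

open Cfsg Cfsg.FusionSystem

/-! Subsystems of `p`-power index: existence. -/

namespace H87.TrIdx2

open H88.TransferDatum H90.Transfer H87.TrIdx
open H87.Base H87.Basic H87.Syl H87.Sat H87.Grow H87.Inv H87.Frat H87.Trans H87.Cut H87.Bridge H87.PPow

universe u
variable {Ω : Type u} [Group Ω] {S T : Subgroup Ω} {F : FusionSystem S} {P Q R : Subgroup Ω} {f g h : Ω → Ω} {p : ℕ}

theorem extFun_aut (β : MulAut Q) (x : Q) : extFun (Q.subtype.comp β.toMonoidHom) (x : Ω) = ((β x : Q) : Ω) :=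
  extFun_coe _ x

theorem exists_theta [Fact p.Prime] (hTS : T ≤ S) (hTn : (T.subgroupOf S).Normal)
    (hidx : (T.subgroupOf S).index = p) :
    ∃ θ : S →* Multiplicative (ZMod p), Function.Surjective θ ∧ ∀ s : S, θ s = 1 ↔ (s : Ω) ∈ T := by
  have h1 : Nat.card (S ⧸ T.subgroupOf S) = p := by rw [← Subgroup.index_eq_card]; exact hidx
  have h2 : Nat.card (Multiplicative (ZMod p)) = p := by
    rw [Nat.card_congr Multiplicative.toAdd, Nat.card_zmod]
  let e : (S ⧸ T.subgroupOf S) ≃* Multiplicative (ZMod p) := mulEquivOfPrimeCardEq h1 h2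
  refine ⟨e.toMonoidHom.comp (QuotientGroup.mk' _), e.surjective.comp (QuotientGroup.mk'_surjective _), fun s => ?_⟩
  show e (QuotientGroup.mk' _ s) = 1 ↔ _
  rw [MulEquiv.map_eq_one_iff, QuotientGroup.mk'_apply, QuotientGroup.eq_one_iff, Subgroup.mem_subgroupOf]

section
variable [Fact p.Prime] [Finite S] {Γ : Type*} [CommGroup Γ] {I : Type u} [MulAction S I] [Fintype I]
  {D : Datum F p I} {θ : S →* Γ} {γ : Γ}

/-- For fully normalized `Q`, traces of the identity are traces of elements of the centralizer. -/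
theorem tr_id_fn (hS : IsPGroup p S) (hF : F.IsSaturated p) (hcard : Nat.card Γ = p) (hθ : ThInv F θ)
    (hQ : F.IsFullyNormalized Q) (h : Tr D θ Q (fun x => x) γ) :
    ∃ c, ∃ hc : c ∈ S, (∀ x ∈ Q, c * x = x * c) ∧ θ ⟨c, hc⟩ ^ Fintype.card I = γ := by
  have hΓ : ∀ γ : Γ, γ ^ p = 1 := fun γ => by rw [← hcard]; exact pow_card_eq_one'
  have hfin : Finite Γ := Nat.finite_of_card_ne_zero (by rw [hcard]; exact (Fact.out : p.Prime).ne_zero)
  by_cases hc : ∀ c (hc : c ∈ S), (∀ x ∈ Q, c * x = x * c) → θ ⟨c, hc⟩ = 1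
  · refine ⟨1, S.one_mem, fun x _ => by simp, ?_⟩
    have h1 : γ = 1 := by
      refine tr_id hS hΓ hθ hQ.1 (fun ψ hψ c hcS hcψ => ?_) h
      -- transport into `C_S(Q)`
      obtain ⟨χ, hχ, hχi, hχN⟩ := exists_map_of_fn hS hF hQ (isConj_symm hψ.isIso.isConj)
      have hfinψ : Finite (img Q ψ) := finite_of_le hψ.img_le
      have hcN : c ∈ normalizerIn S (img Q ψ) := by
        rw [mem_normalizerIn_iff]
        refine ⟨hcS, fun y hy => ?_⟩
        obtain ⟨x, hx, rfl⟩ := (mem_img hψ).1 hy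
        rw [hcψ x hx, mul_inv_cancel_right]
        exact hy
      have h2 := hθ _ _ hχ c hcN hcS (hχ.mem hcN)
      rw [← h2]
      refine hc _ _ fun y hy => ?_
      obtain ⟨z, hz, rfl⟩ := hχi.surj hy
      have hzN : z ∈ normalizerIn S (img Q ψ) := le_normalizerIn hψ.img_le hz
      obtain ⟨x, hx, rfl⟩ := (mem_img hψ).1 hz
      rw [← hχ.map_mul hcN hzN, hcψ x hx, hχ.map_mul hzN hcN]
    rw [h1]
    have : (⟨1, S.one_mem⟩ : S) = 1 := rfl
    rw [this, map_one, one_pow]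
  · push Not at hc
    obtain ⟨c, hcS, hcQ, hne⟩ := hc
    -- `θ(c)^n` generates `Γ`
    have hn : Nat.Coprime (Fintype.card I) p := by
      rw [← Nat.card_eq_fintype_card]
      exact ((Fact.out : p.Prime).coprime_iff_not_dvd.2 D.coprime).symm
    have h1 : orderOf (θ ⟨c, hcS⟩) = p := orderOf_eq_prime (hΓ _) hne
    have h2 : orderOf (θ ⟨c, hcS⟩ ^ Fintype.card I) = p := by
      rw [Nat.Coprime.orderOf_pow, h1]
      rw [h1]; exact hn.symm
    have h3 : γ ∈ Subgroup.zpowers (θ ⟨c, hcS⟩ ^ Fintype.card I) := by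
      have h4 : Subgroup.zpowers (θ ⟨c, hcS⟩ ^ Fintype.card I) = ⊤ := by
        apply Subgroup.eq_top_of_card_eq
        rw [Nat.card_zpowers, h2, hcard]
      rw [h4]; exact Subgroup.mem_top _
    obtain ⟨k, hk⟩ := h3
    refine ⟨c ^ k, S.zpow_mem hcS k, fun x hx => ?_, ?_⟩
    · have h5 : Commute c x := hcQ x hx
      exact (h5.zpow_left k).eq
    · have h6 : (⟨c ^ k, S.zpow_mem hcS k⟩ : S) = (⟨c, hcS⟩ : S) ^ k := rfl
      rw [h6, map_zpow, ← hk]
      show (θ ⟨c, hcS⟩ ^ k) ^ Fintype.card I = (θ ⟨c, hcS⟩ ^ Fintype.card I) ^ k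
      rw [← zpow_natCast, ← zpow_natCast, ← zpow_mul, ← zpow_mul, mul_comm]

theorem exists_theta_pow (hcard : Nat.card Γ = p) (hsurj : Function.Surjective θ) (D : Datum F p I) (γ : Γ) :
    ∃ s : S, θ s ^ Fintype.card I = γ := by
  have hΓ : ∀ γ : Γ, γ ^ p = 1 := fun γ => by rw [← hcard]; exact pow_card_eq_one'
  have hn : Nat.Coprime (Fintype.card I) p := by
    rw [← Nat.card_eq_fintype_card]
    exact ((Fact.out : p.Prime).coprime_iff_not_dvd.2 D.coprime).symm
  obtain ⟨m, hm⟩ := exists_pow_eq_self_of_coprime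
    (Nat.Coprime.coprime_dvd_right (orderOf_dvd_of_pow_eq_one (hΓ γ)) hn)
  obtain ⟨s, hs⟩ := hsurj (γ ^ m)
  refine ⟨s, ?_⟩
  rw [hs, ← pow_mul, mul_comm, pow_mul]
  exact hm

end

theorem thInv_of [Fact p.Prime] [Finite S] (hS : IsPGroup p S) (hF : F.IsSaturated p) {Γ : Type*} [CommGroup Γ]
    {θ : S →* Γ} (hTn : S ≤ Subgroup.normalizer (T : Set Ω)) (hT : F.hyperfocalSubgroup p ≤ T)
    (hker : ∀ s : S, θ s = 1 ↔ (s : Ω) ∈ T) : ThInv F θ := by
  rintro P f ⟨φ, hφ, e⟩ x hx hxS hfx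
  obtain ⟨s, hs, h⟩ := H88.Focal.exists_conj_mod hS hF hTn hT hφ
  have h1 := h ⟨x, hx⟩
  rw [e] at h1
  have h2 : θ (⟨f x, hfx⟩ * (⟨s, hs⟩ * ⟨x, hxS⟩ * ⟨s, hs⟩⁻¹)⁻¹) = 1 := (hker _).2 h1
  rw [map_mul, map_inv, mul_inv_eq_one, map_mul, map_mul, map_inv, mul_comm (θ ⟨s, hs⟩), mul_inv_cancel_right] at h2
  exact h2

theorem isMap_sys_isIso {E : FusionSystem T} {C : Subgroup Ω → (Ω → Ω) → Prop}
    (hE : ∀ P f, IsMap E P f ↔ IsMap F P f ∧ P ≤ T ∧ (∀ x ∈ P, f x ∈ T) ∧ C P f) (hf : IsIso F P Q f)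
    (hP : P ≤ T) (hQ : Q ≤ T) (hC : C P f) : IsIso E P Q f :=
  ((hE P f).2 ⟨hf.isMap, hP, fun _ hx => hQ (hf.mem hx), hC⟩).isIso_of (fun _ hx => hf.mem hx) fun _ hy => hf.surj hy

/-- The step: index `p`. -/
theorem exists_index_p [Fact p.Prime] [Finite S] (hS : IsPGroup p S) (hF : F.IsSaturated p) (hTS : T ≤ S)
    (hTn : (T.subgroupOf S).Normal) (hidx : (T.subgroupOf S).index = p) (hT : F.hyperfocalSubgroup p ≤ T) :
    ∃ E : FusionSystem T, E.IsSaturated p ∧ E.HasPPowerIndexIn F p := by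
  classical
  obtain ⟨θ, hsurj, hker⟩ := exists_theta hTS hTn hidx
  have hcard : Nat.card (Multiplicative (ZMod p)) = p := by
    rw [Nat.card_congr Multiplicative.toAdd, Nat.card_zmod]
  have hΓ : ∀ γ : Multiplicative (ZMod p), γ ^ p = 1 := fun γ => by
    have := pow_card_eq_one' (x := γ)
    rwa [hcard] at this
  have hTn' : S ≤ Subgroup.normalizer (T : Set Ω) := by
    intro s hs
    rw [Subgroup.mem_normalizer_iff]
    intro x
    constructor
    · intro hx
      have h1 := hTn.conj_mem ⟨x, hTS hx⟩ (Subgroup.mem_subgroupOf.2 hx) ⟨s, hs⟩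
      exact Subgroup.mem_subgroupOf.1 h1
    · intro hx
      have h1 := hTn.conj_mem ⟨_, hTS hx⟩ (Subgroup.mem_subgroupOf.2 hx) ⟨s, hs⟩⁻¹
      have h2 := Subgroup.mem_subgroupOf.1 h1
      simpa [mul_assoc] using h2
  have hTsc : F.StronglyClosed T := H88.Focal.stronglyClosed_of_hyp_le hS hF hTS hTn' hT
  have hθ : ThInv F θ := thInv_of hS hF hTn' hT hker
  obtain ⟨I, _, ⟨D⟩⟩ := exists_datum hS hF
  have := D.finite
  have := Fintype.ofFinite I
  set n := Fintype.card I with hn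
  obtain ⟨E, hE⟩ := exists_cut F hTS (fun P f => Tr D θ P f 1)
    (fun P f g _ _ _ e h => h.congr e)
    (fun P hP g hg => by
      have h1 := tr_conj D hθ (hTS hg) (hP.trans hTS)
      rwa [(hker ⟨g, hTS hg⟩).2 hg, one_pow] at h1)
    (fun P Q f g hP hQ _ _ hfQ _ h1 h2 => by
      have h3 := h1.comp h2 (hP.trans hTS) hfQ (hQ.trans hTS)
      rwa [mul_one] at h3)
    (fun P Q f g _ _ hf _ h1 _ h2 => by
      have h3 := h2.symm hf h1
      rwa [inv_one] at h3)
  have hsub : E.IsSubsystemOf F := isSubsystemOf_iff.2 fun P f hf => ((hE P f).1 hf).1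
  have hTfin : Finite T := finite_of_le hTS
  refine ⟨E, ?_, ?_⟩
  · -- saturation
    intro P hP
    obtain ⟨Q', hc, hQ'⟩ := exists_nice hF (hP.trans hTS)
    obtain ⟨f, hf⟩ := isConj_iff.1 hc
    obtain ⟨γ, hγ⟩ := exists_tr D θ hf.isMap
    obtain ⟨⟨s, hs⟩, hsγ⟩ := exists_theta_pow hcard hsurj D γ⁻¹
    have hQ'S := hf.le'
    have hconj := isMap_conj F hQ'S hs
    set Q := img Q' (fun x => s * x * s⁻¹) with hQdef
    have hci : IsIso F Q' Q (fun x => s * x * s⁻¹) := hconj.isIso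
    have hQ'fn : F.IsFullyNormalized Q' := fn_of_nice hS hQ'
    have hQfn : F.IsFullyNormalized Q := by
      refine ⟨hci.le', fun R hR => ?_⟩
      refine (hQ'fn.2 R (isConj_trans hci.isConj hR)).trans ?_
      have hfinQ : Finite Q := finite_of_le hci.le'
      refine card_le_of_map (isMap_conj F normalizerIn_le hs) normalizerIn_le fun x hx => ?_
      exact map_mem_normalizerIn (isMap_conj F normalizerIn_le hs) hci hx
    have hQn := nice_of_fn hS hF hQfn
    have hf' : IsIso F P Q ((fun x => s * x * s⁻¹) ∘ f) := hf.comp hci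
    have hQT : Q ≤ T := by
      intro y hy
      obtain ⟨x, hx, rfl⟩ := hf'.surj hy
      exact mem_of_stronglyClosed hTsc hf'.isMap hx (hP hx)
    have htr : Tr D θ P ((fun x => s * x * s⁻¹) ∘ f) 1 := by
      have h1 := hγ.comp (tr_conj D hθ hs hQ'S) (hP.trans hTS) (fun x hx => hf.mem hx) hQ'S
      rwa [hsγ, inv_mul_cancel] at h1
    have hfE : IsIso E P Q ((fun x => s * x * s⁻¹) ∘ f) := isMap_sys_isIso hE hf' hP hQT htr
    refine ⟨Q, hfE.isConj, ?_, ?_⟩
    · -- fully automized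
      rw [isFullyAutomized_iff]
      refine ⟨hQT, ?_⟩
      obtain ⟨hQS, hsyl⟩ := isFullyAutomized_iff.1 hQn.1
      have : Finite Q := finite_of_le hQS
      have : Finite (MulAut Q) := finite_mulAut
      have hnorm : ∀ a ∈ F.autGroup Q, ∀ k ∈ E.autGroup Q, a * k * a⁻¹ ∈ E.autGroup Q := by
        intro a ha k hk
        have hai := isIso_of_mem_autGroup hQS ha
        have hai' := isIso_of_mem_autGroup hQS (Subgroup.inv_mem _ ha)
        have hki := isIso_of_mem_autGroup hQT hk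
        obtain ⟨δ, hδ⟩ := exists_tr D θ hai.isMap
        have hδ' : Tr D θ Q (extFun (Q.subtype.comp (a⁻¹).toMonoidHom)) δ⁻¹ := by
          refine hδ.symm hai fun x hx => ?_
          rw [extFun_apply _ hx, extFun_apply _ (by exact (a _).2)]
          show ((a⁻¹ (a ⟨x, hx⟩) : Q) : Ω) = x
          rw [MulAut.inv_apply_self]
        have hkF := (hE _ _).1 hki.isMap
        have h1 := (hδ'.comp hkF.2.2.2 hQS (fun x hx => hai'.mem hx) hQS).comp hδ hQS
          (fun x hx => hki.mem (hai'.mem hx)) hQS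
        have h2 : δ * (1 * δ⁻¹) = 1 := by rw [one_mul, mul_inv_cancel]
        rw [h2] at h1
        have h3 := (hai'.comp (isIso_of_sub hsub hki)).comp hai
        have h4 := (hE _ _).2 ⟨h3.isMap, hQT, fun x hx => hQT (h3.mem hx), h1⟩
        refine mem_autGroup_of_isMap hQT h4 fun x => ?_
        simp only [Function.comp_apply]
        rw [extFun_aut, extFun_aut, extFun_aut]
        rfl
      have h5 := hsyl.inf_normal (autGroup_mono hsub Q) hnorm
      have h6 : autInducedBy S Q ⊓ E.autGroup Q = autInducedBy T Q := by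
        apply le_antisymm
        · rintro α ⟨hα1, hα2⟩
          obtain ⟨t, ht, hαt⟩ := mem_autInducedBy.1 hα1
          have hαi := isIso_of_mem_autGroup hQT hα2
          have h7 : Tr D θ Q (extFun (Q.subtype.comp α.toMonoidHom)) 1 := ((hE _ _).1 hαi.isMap).2.2.2
          have h8 : Tr D θ Q (extFun (Q.subtype.comp α.toMonoidHom)) (θ ⟨t, ht⟩ ^ n) :=
            (tr_conj D hθ ht hQS).congr fun x hx => by
              rw [extFun_apply _ hx]; exact (hαt ⟨x, hx⟩).symm
          obtain ⟨k, hk, k1, k2⟩ := hαi.symm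
          have h9 := (h7.symm (isIso_of_sub hsub hαi) k1).comp h8 hQS (fun x hx => hk.mem hx) hQS
          rw [inv_one, mul_one] at h9
          have h10 := h9.congr (g := fun x => x) fun x hx => k2 x hx
          obtain ⟨c, hc, hcQ, hcθ⟩ := tr_id_fn hS hF hcard hθ hQfn h10
          rw [← hn] at hcθ
          -- `t c⁻¹ ∈ T`
          have hcop : Nat.Coprime n p := by
            rw [hn, ← Nat.card_eq_fintype_card]
            exact ((Fact.out : p.Prime).coprime_iff_not_dvd.2 D.coprime).symm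
          have h11 : θ (⟨t, ht⟩ * ⟨c, hc⟩⁻¹) = 1 := by
            have h12 : θ (⟨t, ht⟩ * ⟨c, hc⟩⁻¹) ^ n = 1 := by
              rw [map_mul, map_inv, mul_pow, inv_pow, hcθ, mul_inv_cancel]
            have h13 : orderOf (θ (⟨t, ht⟩ * ⟨c, hc⟩⁻¹)) ∣ 1 := by
              rw [← Nat.Coprime.gcd_eq_one hcop]
              exact Nat.dvd_gcd (orderOf_dvd_of_pow_eq_one h12) (orderOf_dvd_of_pow_eq_one (hΓ _))
            rwa [Nat.dvd_one, orderOf_eq_one_iff] at h13
          have h14 : t * c⁻¹ ∈ T := (hker _).1 h11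
          refine mem_autInducedBy.2 ⟨t * c⁻¹, h14, fun x => ?_⟩
          rw [hαt]
          have h15 : c⁻¹ * x = x * c⁻¹ := by
            rw [inv_mul_eq_iff_eq_mul, ← mul_assoc, hcQ x x.2, mul_inv_cancel_right]
          rw [mul_inv_rev, inv_inv, mul_assoc t c⁻¹, h15]
          group
        · intro α hα
          refine ⟨autInducedBy_map_mono hTS hα, autInducedBy_le_autGroup E hQT hα⟩
      rwa [h6] at h5
    · -- receptive
      rw [isReceptive_iff]
      refine ⟨hQT, fun R k hk => ?_⟩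
      have hkF := isIso_of_sub hsub hk
      obtain ⟨g₀, hg₀, hg₀k⟩ := (isReceptive_iff.1 hQn.2).2 R k hkF
      have hle : nphi T R k ≤ nphi S R k := by
        intro x hx
        rw [mem_nphi] at hx ⊢
        obtain ⟨h1, h2, y, hy, h3⟩ := hx
        exact ⟨hTS h1, h2, y, hTS hy, h3⟩
      have hg₁ := hg₀.mono hle
      obtain ⟨δ, hδ⟩ := exists_tr D θ hg₁
      have hRn : R ≤ nphi T R k := le_nphi hk.isMap
      have hδR : Tr D θ R k δ := (hδ.mono hRn).congr hg₀k
      have h1R : Tr D θ R k 1 := ((hE _ _).1 hk.isMap).2.2.2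
      obtain ⟨k', hk', k1, k2⟩ := hkF.symm
      have h9 := (h1R.symm hkF k1).comp hδR hk'.le (fun x hx => hk'.mem hx) hk'.le'
      rw [inv_one, mul_one] at h9
      have h10 := h9.congr (g := fun x => x) fun x hx => k2 x hx
      obtain ⟨c, hc, hcQ, hcθ⟩ := tr_id_fn hS hF hcard hθ hQfn h10
      have hcinv : ∀ x ∈ Q, c⁻¹ * x * c⁻¹⁻¹ = x := by
        intro x hx
        rw [inv_inv, mul_assoc, ← hcQ x hx, inv_mul_cancel_left]
      have hNT : nphi T R k ≤ T := nphi_le
      have himS : ∀ x ∈ nphi T R k, g₀ x ∈ S := fun x hx => hg₁.mem hx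
      have h11 := hδ.comp (tr_conj D hθ (S.inv_mem hc) le_rfl) hg₁.le himS le_rfl
      have h12 : θ ⟨c⁻¹, S.inv_mem hc⟩ ^ Fintype.card I * δ = 1 := by
        have : (⟨c⁻¹, S.inv_mem hc⟩ : S) = ⟨c, hc⟩⁻¹ := rfl
        rw [this, map_inv, inv_pow, hcθ, inv_mul_cancel]
      rw [h12] at h11
      have h13 := hg₁.comp (isMap_conj F le_rfl (S.inv_mem hc)) himS
      refine ⟨_, (hE _ _).2 ⟨h13, hNT, fun x hx => mem_of_stronglyClosed hTsc h13 hx (hNT hx), h11⟩, fun x hx => ?_⟩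
      show c⁻¹ * g₀ x * c⁻¹⁻¹ = k x
      rw [hg₀k x hx, hcinv _ (hk.mem hx)]
  · -- `p`-power index
    rw [ppow_iff]
    refine ⟨hsub, hT, fun P hP α hα hc => ?_⟩
    have hPS := hP.trans hTS
    have hαi := isIso_of_mem_autGroup hPS hα
    obtain ⟨γ, hγ⟩ := exists_tr D θ hαi.isMap
    have hpow : ∀ k : ℕ, Tr D θ P (extFun (P.subtype.comp (α ^ k).toMonoidHom)) (γ ^ k) := by
      intro k
      induction k with
      | zero =>
        have h1 := tr_conj D hθ S.one_mem hPS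
        have h2 : (⟨1, S.one_mem⟩ : S) = 1 := rfl
        rw [h2, map_one, one_pow] at h1
        rw [pow_zero, pow_zero]
        refine h1.congr fun x hx => ?_
        rw [extFun_apply _ hx]
        simp
      | succ k ih =>
        have hki := isIso_of_mem_autGroup hPS (Subgroup.pow_mem _ hα k)
        have h1 := ih.comp hγ hPS (fun x hx => hki.mem hx) hPS
        rw [← pow_succ'] at h1
        refine h1.congr fun x hx => ?_
        simp only [Function.comp_apply]
        rw [extFun_apply _ hx, extFun_apply _ hx, extFun_apply _ (by exact ((α ^ k) _).2), pow_succ']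
        rfl
    have hcopp : Nat.Coprime (orderOf α) p := hc
    obtain ⟨k, hk1, hk2⟩ := Nat.chineseRemainder hcopp 1 0
    have h1 : α ^ k = α := H87.Stancu.pow_eq_of_modEq (pow_orderOf_eq_one α) hk1
    have h2 : γ ^ k = 1 := by
      obtain ⟨m, hm⟩ := (Nat.modEq_zero_iff_dvd).1 hk2
      rw [hm, pow_mul, hΓ, one_pow]
    have h3 := hpow k
    rw [h1, h2] at h3
    refine mem_autGroup_of_isMap hP ((hE _ _).2 ⟨hαi.isMap, hP, fun x hx => hP (hαi.mem hx), h3⟩) fun x => ?_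
    rw [extFun_coe]
    rfl

theorem hyp_mono {E : FusionSystem T} (hTS : T ≤ S) (h : E.IsSubsystemOf F) :
    E.hyperfocalSubgroup p ≤ F.hyperfocalSubgroup p :=
  H88.Focal.hyp_le_of fun _ hP _ hα hc x => H88.Focal.mem_hyp_of_coprime (hP.trans hTS) (autGroup_mono h _ hα) hc x

/-- S5113, existence. -/
theorem exists_ppow [Fact p.Prime] (n : ℕ) : ∀ (S : Subgroup Ω) (_ : Finite S) (_ : IsPGroup p S)
    (F : FusionSystem S) (_ : F.IsSaturated p) (T : Subgroup Ω) (_ : T ≤ S) (_ : F.hyperfocalSubgroup p ≤ T)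
    (_ : Nat.card S = n), ∃ E : FusionSystem T, E.IsSaturated p ∧ E.HasPPowerIndexIn F p := by
  induction n using Nat.strong_induction_on with
  | _ n ih =>
  intro S hfin hS F hF T hTS hT hn
  by_cases hTeq : T = S
  · subst hTeq
    refine ⟨F, hF, ppow_iff.2 ⟨fun _ => le_rfl, hT, fun _ _ _ h _ => h⟩⟩
  have hne : T.subgroupOf S ≠ ⊤ := by
    rw [Ne, Subgroup.subgroupOf_eq_top]
    exact fun h => hTeq (le_antisymm hTS h)
  obtain ⟨M', hM', hTM'⟩ := (eq_top_or_exists_le_coatom (T.subgroupOf S)).resolve_left hne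
  have hnil := hS.isNilpotent
  have hM'n := H1.Frat.normal_of_isCoatom hM'
  have hidx := H1.Frat.index_eq_of_isCoatom hS hM'
  set M := M'.map S.subtype with hM
  have hMS : M ≤ S := by
    rintro _ ⟨x, -, rfl⟩; exact x.2
  have hMM' : M.subgroupOf S = M' := by
    ext x
    rw [Subgroup.mem_subgroupOf]
    constructor
    · rintro ⟨y, hy, e⟩
      have : y = x := Subtype.ext e
      rwa [← this]
    · intro hx; exact ⟨x, hx, rfl⟩
  have hTM : T ≤ M := by
    intro x hx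
    exact ⟨⟨x, hTS hx⟩, hTM' (Subgroup.mem_subgroupOf.2 hx), rfl⟩
  obtain ⟨E₁, hE₁s, hE₁⟩ := exists_index_p hS hF hMS (by rw [hMM']; exact hM'n) (by rw [hMM']; exact hidx)
    (hT.trans hTM)
  have hMlt : Nat.card M < n := by
    rw [← hn]
    have h1 : M < S := by
      refine lt_of_le_of_ne hMS fun h => hM'.1 ?_
      rw [← hMM', h, Subgroup.subgroupOf_self]
    exact Set.ncard_lt_ncard (SetLike.coe_ssubset_coe.2 h1) (Set.toFinite _)
  obtain ⟨E, hEs, hE⟩ := ih _ hMlt M (finite_of_le hMS) (hS.to_le hMS) E₁ hE₁s T hTM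
    ((hyp_mono hMS hE₁.1).trans hT) rfl
  refine ⟨E, hEs, ?_⟩
  rw [ppow_iff] at hE hE₁ ⊢
  refine ⟨fun P => (hE.1 P).trans (hE₁.1 P), hT, fun P hP α hα hc => ?_⟩
  exact hE.2.2 P hP α (hE₁.2.2 P (hP.trans hTM) α hα hc) hc

end H87.TrIdx2
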