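import Cfsg.Agent.Lib.H87.CE6
import Cfsg.Agent.Lib.H87.TrIdx2
set_option autoImplicit false

open Cfsg Cfsg.FusionSystem

namespace H87.CE
open H87.Base H87.Basic H87.Syl H87.Sat H87.Grow H87.Inv H87.Frat H87.Cut H87.PPow H87.Crit H87.PPr H87.CMap H87.NE
open H87.ConstrEq H87.Trans

variable {Ω : Type*} [Group Ω] {S T : Subgroup Ω} {F : FusionSystem S} {E : FusionSystem T}
  {P Q R M N U V X A Z W : Subgroup Ω} {f g h a b κ : Ω → Ω} {p : ℕ}

/-- conjugating maps of `C_F(T)` by maps defined on `T`. -/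
theorem CMap.conj [Finite S] (hT : F.StronglyClosed T) (ha : IsMap F (T ⊔ V) a) (hV : V ≤ centralizerIn S T)
    (hP : P ≤ V) (hf : CMap F T P f) (hfV : ∀ x ∈ P, f x ∈ V) :
    ∃ k, CMap F T (img P a) k ∧ ∀ x ∈ P, k (a x) = a (f x) := by
  obtain ⟨h1, h2, g, hg, e1, e2⟩ := hf
  obtain ⟨l, hl, hl1, hl2⟩ := ha.isIso.symm
  have hTi : IsIso F T T a := StronglyClosed.isMap_iso hT ha le_sup_left
  have hPV : P ⊔ T ≤ T ⊔ V := sup_le (hP.trans le_sup_right) le_sup_left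
  have hgV : ∀ x ∈ P ⊔ T, g x ∈ T ⊔ V := by
    refine mem_of_sup hg (fun x hx => ?_) fun x hx => ?_
    · rw [e1 x hx]; exact (le_sup_right : V ≤ _) (hfV x hx)
    · rw [e2 x hx]; exact (le_sup_left : T ≤ _) hx
  have hsub : img P a ⊔ T ≤ img (T ⊔ V) a := by
    refine sup_le (img_mono (hP.trans le_sup_right)) fun t ht => ?_
    obtain ⟨u, hu, rfl⟩ := hTi.surj ht
    exact apply_mem_img ((le_sup_left : T ≤ _) hu)
  have haP := (ha.mono (hP.trans le_sup_right))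
  have hlP : ∀ x ∈ img P a ⊔ T, l x ∈ P ⊔ T := by
    refine mem_of_sup (hl.isMap.mono hsub) (fun x hx => ?_) fun x hx => ?_
    · obtain ⟨u, hu, rfl⟩ := (mem_img haP).1 hx
      rw [hl1 u ((hP.trans le_sup_right) hu)]; exact (le_sup_left : P ≤ _) hu
    · obtain ⟨u, hu, rfl⟩ := hTi.surj hx
      rw [hl1 u ((le_sup_left : T ≤ _) hu)]; exact (le_sup_right : T ≤ _) hu
  have hk : IsMap F (img P a ⊔ T) (fun x => a (g (l x))) :=
    ((hl.isMap.mono hsub).comp' hg hlP).comp' ha fun x hx => hgV _ (hlP x hx)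
  have hkT : ∀ t ∈ T, a (g (l t)) = t := by
    intro t ht
    obtain ⟨u, hu, rfl⟩ := hTi.surj ht
    rw [hl1 u ((le_sup_left : T ≤ _) hu), e2 u hu]
  have hkP : ∀ x ∈ P, a (g (l (a x))) = a (f x) := by
    intro x hx
    rw [hl1 x ((hP.trans le_sup_right) hx), e1 x hx]
  have hVC : ∀ x ∈ V, a x ∈ centralizerIn S T := fun x hx =>
    map_centralizer ha le_sup_left hTi ((le_sup_right : V ≤ _) hx) (hV hx)
  refine ⟨fun x => a (g (l x)), ⟨?_, ?_, _, hk, fun _ _ => rfl, hkT⟩, hkP⟩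
  · intro y hy
    obtain ⟨x, hx, rfl⟩ := (mem_img haP).1 hy
    exact hVC x (hP hx)
  · intro y hy
    obtain ⟨x, hx, rfl⟩ := (mem_img haP).1 hy
    show a (g (l (a x))) ∈ _
    rw [hkP x hx]
    exact hVC _ (hfV x hx)

variable {C : FusionSystem (centralizerIn S T)} {D : FusionSystem (CS F E p)}

theorem exists_CE [hp : Fact p.Prime] [Finite S] (hS : IsPGroup p S) (hE : E.IsNormalIn F p)
    (hC : F.IsCentralizerSystem T C) : ∃ D : FusionSystem (CS F E p), D.IsSaturated p ∧ D.HasPPowerIndexIn C p := by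
  have hT := hE.1.2.2.2.1
  have hCsat := H89.KSat3.centralizer_saturated hS hE.1.2.1 (fullyCentralized_of_stronglyClosed hT) hC
  have hfin : Finite ↥(centralizerIn S T) := finite_of_le centralizerIn_le
  exact H87.TrIdx2.exists_ppow _ (centralizerIn S T) hfin (hS.to_le centralizerIn_le) C hCsat (CS F E p) CS_le
    ((H88.Focal.hyp_le_foc C p).trans (foc_le_CS hS hE hC)) rfl

theorem sub_F (hC : F.IsCentralizerSystem T C) : C.IsSubsystemOf F := by
  rw [isSubsystemOf_iff]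
  intro P f hf
  exact ((isMap_centralizer_iff hC).1 hf).isMap

theorem ce_ainv [hp : Fact p.Prime] [Finite S] (hS : IsPGroup p S) (hE : E.IsNormalIn F p)
    (hC : F.IsCentralizerSystem T C) (hDs : D.IsSaturated p) (hD : D.HasPPowerIndexIn C p) : AInv F D := by
  intro P f a hf ha
  have hT := hE.1.2.2.2.1
  have hWS : CS F E p ≤ S := CS_le.trans centralizerIn_le
  obtain ⟨b, hb, h1, h2⟩ := ha.symm
  have hWfin : Finite ↥(CS F E p) := finite_of_le hWS
  have hWp : IsPGroup p ↥(CS F E p) := hS.to_le hWS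
  have hG := gIso_of_isIso ha hb h1 h2
  obtain ⟨D', hD'⟩ := exists_trans hG D
  have hD's := hD'.saturated hWp hDs
  obtain ⟨-, a', ha', ea⟩ := CS_ext hS hE le_rfl ha.isMap
  have hsub : D'.IsSubsystemOf C := by
    rw [isSubsystemOf_iff]
    intro P f hf
    have h3 := hD'.map' P f hf
    have h4 := isMap_of_sub hD.1 h3
    rw [isMap_centralizer_iff hC] at h4
    obtain ⟨k, hk, ek⟩ := CMap.conj hT ha' CS_le h3.le h4 fun x hx => h3.mem hx
    have hP := hf.le
    have e1 : img (im P b) a' = P := by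
      rw [img_congr (g := a) (fun x hx => ea x (h3.le hx))]
      exact hG.symm.im_im hP
    rw [e1] at hk
    rw [isMap_centralizer_iff hC]
    refine hk.congr fun x hx => ?_
    have h5 : b x ∈ im P b := apply_mem_img hx
    have h6 := ek (b x) h5
    have h7 : a (b x) = x := h2 x (hP hx)
    have h8 : b (f x) ∈ CS F E p := hG.mem' _ (hf.mem hx)
    rw [ea _ (h3.le h5), h7, ea _ h8] at h6
    rw [h6]; exact h2 _ (hf.mem hx)
  have hle := le_of_ppow hWp hD's hsub hD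
  have h3 := hD'.map P f hf
  refine ⟨_, isMap_of_sub hle h3, fun x hx => ?_⟩
  show a (f (b (a x))) = _
  rw [h1 x (hf.le hx)]

/-- Frattini-generated automorphisms -/
noncomputable def fgGrp [Finite S] (F : FusionSystem S) {W : Subgroup Ω} (D : FusionSystem W) (hA : AInv F D)
    (hW : W ≤ S) (Q : Subgroup Ω) (hQ : Q ≤ W) : Subgroup (MulAut Q) where
  carrier := {α | α ∈ F.autGroup Q ∧ FG F D Q (fn α)}
  mul_mem' := by
    rintro α β ⟨h1, h2⟩ ⟨h3, h4⟩
    exact ⟨Subgroup.mul_mem _ h1 h3, (FG.comp hA hW (fn_iso (hQ.trans hW) h3) h4 h2).congr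
      fun x hx => (fn_mul α β hx).symm⟩
  one_mem' := ⟨Subgroup.one_mem _, (fg_of_E hW (isMap_id D hQ)).congr fun x hx => (fn_one hx).symm⟩
  inv_mem' := by
    rintro α ⟨h1, h2⟩
    exact ⟨Subgroup.inv_mem _ h1, FG.symm hA (fn_iso (hQ.trans hW) h1) h2 fun x hx => fn_inv_apply α hx⟩

theorem ce_fg [hp : Fact p.Prime] [Finite S] (hS : IsPGroup p S) (hE : E.IsNormalIn F p)
    (hC : F.IsCentralizerSystem T C) (hDs : D.IsSaturated p) (hD : D.HasPPowerIndexIn C p) :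
    ∀ P f, P ≤ CS F E p → IsMap F P f → FG F D P f := by
  have hT := hE.1.2.2.2.1
  have hF := hE.1.2.1
  have hWS : CS F E p ≤ S := CS_le.trans centralizerIn_le
  have hA := ce_ainv hS hE hC hDs hD
  have hW := CS_stronglyClosed hS hE
  refine alp hS hF hW _ (fun P f g _ _ e h => h.congr e) (fun P Q f _ _ hQ h => h.mono hQ) ?_ ?_ ?_ ?_
  · intro P Q f g _ hf _ h1 h2
    exact FG.comp hA hWS hf h1 h2
  · intro P Q f g _ hf _ e _ h
    exact FG.symm hA hf h e
  · intro f hf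
    exact ⟨f, fun x => x, hf, isMap_id D le_rfl, fun _ _ => rfl⟩
  · intro Q hQ hQne hnice ih f hf
    have hQS := hQ.trans hWS
    have hQfin : Finite Q := finite_of_le hQS
    have hfinA : Finite (MulAut Q) := finite_mulAut
    have hK : C.autGroup Q ≤ F.autGroup Q := autGroup_mono (sub_F hC) Q
    have hQC : Q ≤ centralizerIn S T := hQ.trans CS_le
    have hKn : ∀ a ∈ F.autGroup Q, ∀ k ∈ C.autGroup Q, a * k * a⁻¹ ∈ C.autGroup Q := by
      intro a ha k hk
      have hai := fn_iso hQS ha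
      obtain ⟨-, a', ha', ea⟩ := CS_ext hS hE hQ hai.isMap
      have hki : IsIso C Q Q (fn k) := fn_iso hQC hk
      obtain ⟨k', hk', ek⟩ := CMap.conj hT ha' hQC le_rfl ((isMap_centralizer_iff hC).1 hki.isMap)
        fun x hx => hki.mem hx
      rw [img_congr (g := fn a) ea, hai.eq_img] at hk'
      refine mem_autGroup_of_isMap hQC ((isMap_centralizer_iff hC).2 hk') fun y => ?_
      obtain ⟨x, hx, e⟩ := hai.surj y.2
      rw [← fn_coe, ← e, fn_mul _ _ (fn_mem a hx), fn_inv_apply a hx, fn_mul _ _ hx, ← ea _ (fn_mem k hx),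
        ← ek x hx, ea x hx]
    have hKfg : C.autGroup Q ≤ fgGrp F D hA hWS Q hQ := by
      refine gen_syl ((isFullyAutomized_iff.1 hnice.1).2.inf_normal hK hKn) (fun v hv => ?_) fun v hv ho => ?_
      · obtain ⟨s, hs, e⟩ := fn_autInduced hv.1
        refine ⟨hK hv.2, fun x => s * x * s⁻¹, fun x => x, ?_, isMap_id D hQ, fun x hx => e x hx⟩
        exact StronglyClosed.isMap_iso hW (isMap_conj F le_rfl hs) hWS
      · refine ⟨hK hv, fg_of_E hWS ?_⟩
        have := (ppow_iff.1 hD).2.2 Q hQ v hv ho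
        exact (fn_iso hQ this).isMap
    obtain ⟨k, hk, hex⟩ := hnice.frattini hK hKn hf.aut_mem
    have hWfin : Finite ↥(CS F E p) := finite_of_le hWS
    have hlt := lt_normalizerIn (hS.to_le hWS) (lt_of_le_of_ne hQ hQne)
    obtain ⟨g, hg, e⟩ := hex (normalizerIn (CS F E p) Q) (inf_le_left.trans hWS) (by
      intro d hd
      refine ⟨cj Q hd.2, ?_, fun x => rfl⟩
      have hdC := CS_le hd.1
      exact autInducedBy_le_autGroup C hQC (cj_mem hd.2 hdC))
    have hfg := ih (normalizerIn (CS F E p) Q) g inf_le_left (card_lt' (inf_le_left.trans hWS) hlt)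
      (hg.mono le_sup_right)
    have hfgQ := hfg.mono hlt.le
    have hkf : FG F D Q (fn (k * hf.aut)) := hfgQ.congr fun x hx => by rw [e x hx, fn_apply _ hx]
    have hmem : k * hf.aut ∈ fgGrp F D hA hWS Q hQ := ⟨Subgroup.mul_mem _ (hK hk) hf.aut_mem, hkf⟩
    have h2 : hf.aut ∈ fgGrp F D hA hWS Q hQ := by
      have := Subgroup.mul_mem _ (Subgroup.inv_mem _ (hKfg hk)) hmem
      simpa using this
    exact h2.2.congr fun x hx => fn_aut hf hx

/-- a coprime automorphism acting on the chain `x, x⁻¹κ(x) ∈ u, u⁻¹κ(u) ∈ Z`. -/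
theorem coprime_chain [hp : Fact p.Prime] {κ : MulAut M} (hn : (orderOf κ).Coprime p) {x : Ω} (hx : x ∈ M)
    (hup : ∃ e : ℕ, (x⁻¹ * fn κ x) ^ p ^ e = 1) (hZM : Z ≤ M) (hZ : ∀ z ∈ Z, fn κ z ∈ Z)
    (hu : (x⁻¹ * fn κ x)⁻¹ * fn κ (x⁻¹ * fn κ x) ∈ Z)
    (hc : ∀ z ∈ Z, (x⁻¹ * fn κ x) * z = z * (x⁻¹ * fn κ x)) : x⁻¹ * fn κ x ∈ Z := by
  obtain ⟨u, hudef⟩ : ∃ u, u = x⁻¹ * fn κ x := ⟨_, rfl⟩
  rw [← hudef] at hup hu hc ⊢
  have huM : u ∈ M := hudef ▸ M.mul_mem (M.inv_mem hx) (fn_mem _ hx)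
  have hκx : fn κ x = x * u := by rw [hudef]; group
  obtain ⟨z₀, hz₀, hκu⟩ : ∃ z ∈ Z, fn κ u = u * z := ⟨_, hu, by group⟩
  have h1 : ∀ m : ℕ, ∃ z ∈ Z, fn (κ ^ m) x = x * u ^ m * z := by
    intro m
    induction m with
    | zero => exact ⟨1, Z.one_mem, by rw [pow_zero, fn_one hx]; simp⟩
    | succ m ih =>
      obtain ⟨z, hz, e⟩ := ih
      have hcom : Commute u z₀ := hc z₀ hz₀
      refine ⟨z₀ ^ m * fn κ z, Z.mul_mem (Z.pow_mem hz₀ m) (hZ z hz), ?_⟩
      rw [fn_pow_succ κ m hx, e, fn_map_mul κ (M.mul_mem hx (M.pow_mem huM m)) (hZM hz),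
        fn_map_mul κ hx (M.pow_mem huM m), fn_map_pow κ huM m, hκx, hκu, hcom.mul_pow, pow_succ']
      group
  obtain ⟨z, hz, e⟩ := h1 (orderOf κ)
  rw [pow_orderOf_eq_one, fn_one hx] at e
  obtain ⟨k, hk⟩ := hup
  refine mem_of_pow_mem hk hn ?_
  have h2 : u ^ orderOf κ = z⁻¹ := by
    have h3 : x * (u ^ orderOf κ * z) = x * 1 := by rw [mul_one, ← mul_assoc]; exact e.symm
    exact eq_inv_of_mul_eq_one_left (mul_left_cancel h3)
  rw [h2]; exact Z.inv_mem hz

end H87.CE
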