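import Cfsg.Agent.Lib.H87.CE7
set_option autoImplicit false

open Cfsg Cfsg.FusionSystem

namespace H87.CE
open H87.Base H87.Basic H87.Syl H87.Sat H87.Grow H87.Inv H87.Frat H87.Cut H87.PPow H87.Crit H87.PPr H87.CMap H87.NE
open H87.ConstrEq H87.Trans

variable {Ω : Type*} [Group Ω] {S T : Subgroup Ω} {F : FusionSystem S} {E : FusionSystem T}
  {P Q R M N U V X A Z W : Subgroup Ω} {f g h a b κ : Ω → Ω} {p : ℕ}
  {C : FusionSystem (centralizerIn S T)} {D : FusionSystem (CS F E p)}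

/-- subgroups normal in `S` are fully normalized -/
theorem fn_of_normal [Finite S] (hN : N ≤ S) (hn : ∀ s ∈ S, ∀ x ∈ N, s * x * s⁻¹ ∈ N) : F.IsFullyNormalized N := by
  refine ⟨hN, fun Q _ => ?_⟩
  have hfin : Finite N := finite_of_le hN
  have h1 : normalizerIn S N = S := le_antisymm inf_le_left fun s hs => mem_normalizerIn_iff.2 ⟨hs, hn s hs⟩
  rw [h1]
  exact Nat.card_le_card_of_injective _ (Subgroup.inclusion_injective inf_le_left)

/-- the extension condition for `C_F(E)` -/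
theorem ce_ext [hp : Fact p.Prime] [Finite S] (hS : IsPGroup p S) (hE : E.IsNormalIn F p)
    (hC : F.IsCentralizerSystem T C) (hDs : D.IsSaturated p) (hD : D.HasPPowerIndexIn C p)
    (ha : IsIso D (CS F E p) (CS F E p) a) (ho : (orderOf ha.aut).Coprime p) : ExtC F (CS F E p) a := by
  have hT := hE.1.2.2.2.1
  have hF := hE.1.2.1
  have hTS := hT.1
  have hWS : CS F E p ≤ S := CS_le.trans centralizerIn_le
  have hW := CS_stronglyClosed hS hE
  have hTW : ∀ t ∈ T, ∀ w ∈ CS F E p, w * t = t * w := fun t ht w hw => ((mem_centralizerIn.1 (CS_le hw)).2 t ht).symm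
  obtain ⟨-, -, a₁, ha₁, e1, e2⟩ := (isMap_centralizer_iff hC).1 (isIso_of_sub hD.1 ha).isMap
  have hNS : CS F E p ⊔ T ≤ S := sup_le hWS hTS
  have hconjN : ∀ s ∈ S, ∀ x ∈ CS F E p ⊔ T, s * x * s⁻¹ ∈ CS F E p ⊔ T := by
    intro s hs
    refine mem_of_sup (isMap_conj F hNS hs) (fun x hx => ?_) fun x hx => ?_
    · exact (le_sup_left : CS F E p ≤ _) (CS_conj hS hE hs hx)
    · exact (le_sup_right : T ≤ _) (StronglyClosed.conj_mem hT hs hx)
  have hNfn : F.IsFullyNormalized (CS F E p ⊔ T) := fn_of_normal hNS hconjN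
  have hNnice := H87.Bridge.nice_of_fn hS hF hNfn
  have ha₁W : ∀ x ∈ CS F E p, a₁ x ∈ CS F E p := fun x hx => by rw [e1 x hx]; exact ha.mem hx
  have ha₁N : ∀ x ∈ CS F E p ⊔ T, a₁ x ∈ CS F E p ⊔ T := by
    refine mem_of_sup ha₁ (fun x hx => (le_sup_left : CS F E p ≤ _) (ha₁W x hx)) fun x hx => ?_
    rw [e2 x hx]; exact (le_sup_right : T ≤ _) hx
  have ha₁i := isIso_of_self ha₁ ha₁N
  obtain ⟨g, hg, eg⟩ := (isReceptive_iff.1 hNnice.2).2 _ _ ha₁i
  have hNfin : Finite ↥(CS F E p ⊔ T) := finite_of_le hNS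
  have hM : CS F E p ⊔ centralizerIn S (CS F E p) ≤ nphi S (CS F E p ⊔ T) a₁ := by
    refine sup_le (fun w hw => ?_) fun s hs => ?_
    · exact (le_nphi ha₁) ((le_sup_left : CS F E p ≤ _) hw)
    · have hsS := centralizerIn_le hs
      refine mem_nphi.2 ⟨hsS, (mem_normalizerIn_iff.2 ⟨hsS, hconjN s hsS⟩ : s ∈ normalizerIn S _).2, s, hsS, ?_⟩
      refine eq_on_sup ((isMap_conj F hNS hsS).comp' ha₁ (hconjN s hsS))
        (ha₁.comp' (isMap_conj F hNS hsS) ha₁N) (fun x hx => ?_) fun x hx => ?_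
      · have h1 : ∀ y ∈ CS F E p, s * y * s⁻¹ = y := fun y hy => by
          rw [← (mem_centralizerIn.1 hs).2 y hy]; group
        show a₁ (s * x * s⁻¹) = s * a₁ x * s⁻¹
        rw [h1 x hx, h1 _ (ha₁W x hx)]
      · show a₁ (s * x * s⁻¹) = s * a₁ x * s⁻¹
        rw [e2 x hx, e2 _ (StronglyClosed.conj_mem hT hsS hx)]
  have hgM := hg.mono hM
  have hgW : ∀ x ∈ CS F E p, g x = a x := fun x hx => by rw [eg x ((le_sup_left : CS F E p ≤ _) hx), e1 x hx]
  have hTC : T ≤ centralizerIn S (CS F E p) := fun t ht =>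
    mem_centralizerIn.2 ⟨hTS ht, fun y hy => hTW t ht y hy⟩
  have hTM : T ≤ CS F E p ⊔ centralizerIn S (CS F E p) := hTC.trans le_sup_right
  have hgT : ∀ t ∈ T, g t = t := fun t ht => by rw [eg t ((le_sup_right : T ≤ _) ht), e2 t ht]
  have haF : IsIso F (CS F E p) (CS F E p) a := isIso_of_sub (isSubsystemOf_iff.2 fun P f hf =>
    isMap_of_sub (sub_F hC) (isMap_of_sub hD.1 hf)) ha
  have hgWi : IsIso F (CS F E p) (CS F E p) g := haF.congr fun x hx => (hgW x hx).symm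
  have hgself : ∀ x ∈ CS F E p ⊔ centralizerIn S (CS F E p), g x ∈ CS F E p ⊔ centralizerIn S (CS F E p) := by
    refine mem_of_sup hgM (fun x hx => (le_sup_left : CS F E p ≤ _) (hgWi.mem hx)) fun x hx => ?_
    exact (le_sup_right : centralizerIn S (CS F E p) ≤ _)
      (map_centralizer hgM le_sup_left hgWi ((le_sup_right : centralizerIn S (CS F E p) ≤ _) hx) hx)
  have hi := isIso_of_self hgM hgself
  have hMS : CS F E p ⊔ centralizerIn S (CS F E p) ≤ S := hgM.le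
  have hMfin : Finite ↥(CS F E p ⊔ centralizerIn S (CS F E p)) := finite_of_le hMS
  obtain ⟨k, hk1, hk2⟩ := exists_coprime_power (P := CS F E p ⊔ centralizerIn S (CS F E p)) (Q := CS F E p)
    le_sup_left (α := hi.aut) (β := ha.aut) (fun x hx => by
      have h1 := fn_aut hi ((le_sup_left : CS F E p ≤ CS F E p ⊔ centralizerIn S (CS F E p)) hx)
      rw [fn_apply _ ((le_sup_left : CS F E p ≤ CS F E p ⊔ centralizerIn S (CS F E p)) hx)] at h1
      rw [h1, hgW x hx, ← fn_apply _ hx, fn_aut ha hx]) ho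
  have hβ := Subgroup.pow_mem _ hi.aut_mem k
  have hβi := fn_iso hMS hβ
  have hβW : ∀ x ∈ CS F E p, fn (hi.aut ^ k) x = a x := by
    intro x hx
    rw [fn_apply _ ((le_sup_left : CS F E p ≤ CS F E p ⊔ _) hx), ← hk2 x hx, ← fn_apply _ hx, fn_aut ha hx]
  have hβT : ∀ t ∈ T, fn (hi.aut ^ k) t = t := by
    intro t ht
    have : ∀ m : ℕ, fn (hi.aut ^ m) t = t := by
      intro m
      induction m with
      | zero => rw [pow_zero, fn_one (hTM ht)]
      | succ m ih => rw [fn_pow_succ _ m (hTM ht), ih, fn_aut hi (hTM ht), hgT t ht]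
    exact this k
  have hβWi : IsIso F (CS F E p) (CS F E p) (fn (hi.aut ^ k)) := haF.congr fun x hx => (hβW x hx).symm
  have hβC : ∀ c ∈ centralizerIn S (CS F E p), fn (hi.aut ^ k) c ∈ centralizerIn S (CS F E p) := fun c hc =>
    map_centralizer hβi.isMap le_sup_left hβWi ((le_sup_right : centralizerIn S (CS F E p) ≤ _) hc) hc
  refine ⟨_, hβi, hβW, fun c hc => ?_⟩
  have hcM : c ∈ CS F E p ⊔ centralizerIn S (CS F E p) := (le_sup_right : centralizerIn S (CS F E p) ≤ _) hc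
  have huC : c⁻¹ * fn (hi.aut ^ k) c ∈ centralizerIn S (CS F E p) :=
    Subgroup.mul_mem _ (Subgroup.inv_mem _ hc) (hβC c hc)
  have huT : c⁻¹ * fn (hi.aut ^ k) c ∈ centralizerIn S T := by
    refine mem_centralizerIn.2 ⟨centralizerIn_le huC, fun t ht => ?_⟩
    have hct : c * t * c⁻¹ ∈ T := StronglyClosed.conj_mem hT (centralizerIn_le hc) ht
    have h1 := hβi.isMap.map_conj hcM (hTM ht)
    rw [hβT t ht, hβT _ hct] at h1
    calc t * (c⁻¹ * fn (hi.aut ^ k) c) = c⁻¹ * (c * t * c⁻¹) * fn (hi.aut ^ k) c := by group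
      _ = c⁻¹ * (fn (hi.aut ^ k) c * t * (fn (hi.aut ^ k) c)⁻¹) * fn (hi.aut ^ k) c := by rw [h1]
      _ = _ := by group
  have hu := coprime_chain (Z := CS F E p ⊓ centralizerIn S (CS F E p)) hk1 hcM
    (pow_p_of hS (centralizerIn_le huC)) (inf_le_left.trans le_sup_left)
    (fun z hz => ⟨hβWi.mem hz.1, hβC z hz.2⟩)
    ⟨foc_mem hS hE hβi.isMap hTM hβT ((le_sup_right : centralizerIn S (CS F E p) ≤ _) huC) huT,
      Subgroup.mul_mem _ (Subgroup.inv_mem _ huC) (hβC _ huC)⟩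
    fun z hz => ((mem_centralizerIn.1 huC).2 z hz.1).symm
  rw [mem_center_iff]
  exact ⟨hu.1, fun x hx => (mem_centralizerIn.1 huC).2 x hx⟩

/-- `C_F(E)` is normal in `F`. -/
theorem ce_normal [hp : Fact p.Prime] [Finite S] (hS : IsPGroup p S) (hE : E.IsNormalIn F p)
    (hC : F.IsCentralizerSystem T C) (hDs : D.IsSaturated p) (hD : D.HasPPowerIndexIn C p) : D.IsNormalIn F p := by
  have hWS : CS F E p ≤ S := CS_le.trans centralizerIn_le
  have hDF : D.IsSubsystemOf F := isSubsystemOf_iff.2 fun P f hf => isMap_of_sub (sub_F hC) (isMap_of_sub hD.1 hf)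
  rw [isNormalIn_iff]
  refine ⟨hDs, hE.1.2.1, isInvariantIn_iff.2 ⟨hDF, CS_stronglyClosed hS hE, ce_ainv hS hE hC hDs hD,
    ce_fg hS hE hC hDs hD⟩, fun a ha => ?_⟩
  exact extC_of_coprime hS hWS hDs hDF (fun a ha ho => ce_ext hS hE hC hDs hD ha ho) ha

/-- existence of `C_F(E)` -/
theorem exists_ce [hp : Fact p.Prime] [Finite S] (hS : IsPGroup p S) (hE : E.IsNormalIn F p) :
    ∃ D : FusionSystem (CS F E p), D.IsNormalIn F p ∧ ∀ P : Subgroup Ω, D.Hom P ⊆ F.centralizerHom T P := by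
  obtain ⟨C, hC⟩ := exists_centralizerSystem F hE.1.2.2.2.1.1
  obtain ⟨D, hDs, hD⟩ := exists_CE hS hE hC
  refine ⟨D, ce_normal hS hE hC hDs hD, fun P φ hφ => ?_⟩
  rw [← hC P]
  exact hD.1 P hφ

end H87.CE
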