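import Cfsg.Agent.Lib.H87.PPr1
set_option autoImplicit false

open Cfsg Cfsg.FusionSystem

namespace H87.PPr
open H87.Base H87.Basic H87.Syl H87.Sat H87.Grow H87.Inv H87.Frat H87.Cut H87.PPow

variable {Ω : Type*} [Group Ω] {S T : Subgroup Ω} {F : FusionSystem S}
  {P Q R : Subgroup Ω} {f g h a b : Ω → Ω} {p : ℕ} {E D : FusionSystem T}

/-- `a f a⁻¹` is a map of `E`. -/
def Tw (E : FusionSystem T) (a : Ω → Ω) (P : Subgroup Ω) (f : Ω → Ω) : Prop :=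
  ∃ g, IsMap E (img P a) g ∧ ∀ x ∈ P, g (a x) = a (f x)

theorem img_id : img P (fun x => x) = P := by
  unfold img
  rw [Set.image_id']
  exact Subgroup.closure_eq P

theorem Tw.of_id (h : Tw E (fun x => x) P f) : IsMap E P f := by
  obtain ⟨g, hg, e⟩ := h
  rw [img_id] at hg
  exact hg.congr e

theorem Tw.congr (h : Tw E a P f) (e : ∀ x ∈ P, f x = g x) : Tw E a P g := by
  obtain ⟨k, hk, e'⟩ := h
  exact ⟨k, hk, fun x hx => by rw [← e x hx]; exact e' x hx⟩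

theorem Tw.conj (ha : IsIso F T T a) (hP : P ≤ T) {t : Ω} (ht : t ∈ T) :
    Tw E a P (fun x => t * x * t⁻¹) := by
  refine ⟨fun x => a t * x * (a t)⁻¹, isMap_conj E ?_ (ha.mem ht), fun x hx => ?_⟩
  · intro y hy
    obtain ⟨x, hx, rfl⟩ := (mem_img (ha.isMap.mono hP)).1 hy
    exact ha.mem (hP hx)
  · exact (ha.isMap.map_conj ht (hP hx)).symm

theorem Tw.comp (ha : IsIso F T T a) (hP : P ≤ T) (hQ : Q ≤ T) (hfQ : ∀ x ∈ P, f x ∈ Q) (h1 : Tw E a P f)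
    (h2 : Tw E a Q g) : Tw E a P (g ∘ f) := by
  obtain ⟨k, hk, ek⟩ := h1
  obtain ⟨l, hl, el⟩ := h2
  refine ⟨l ∘ k, hk.comp hl fun y hy => ?_, fun x hx => ?_⟩
  · obtain ⟨x, hx, rfl⟩ := (mem_img (ha.isMap.mono hP)).1 hy
    rw [ek x hx]; exact apply_mem_img (hfQ x hx)
  · simp only [Function.comp_apply]
    rw [ek x hx, el _ (hfQ x hx)]

theorem Tw.symm (ha : IsIso F T T a) (hP : P ≤ T) (hf : ∀ y ∈ Q, ∃ x ∈ P, f x = y) (hfm : ∀ x ∈ P, f x ∈ Q)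
    (hg : ∀ x ∈ P, g (f x) = x) (h1 : Tw E a P f) (hQ : Q ≤ T) : Tw E a Q g := by
  obtain ⟨k, hk, ek⟩ := h1
  obtain ⟨l, hl, l1, l2⟩ := hk.isIso.symm
  refine ⟨l, hl.isMap.mono fun y hy => ?_, fun y hy => ?_⟩
  · obtain ⟨z, hz, rfl⟩ := (mem_img (ha.isMap.mono hQ)).1 hy
    obtain ⟨x, hx, rfl⟩ := hf z hz
    rw [← ek x hx]; exact apply_mem_img (apply_mem_img hx)
  · obtain ⟨x, hx, rfl⟩ := hf y hy
    rw [hg x hx, ← ek x hx, l1 _ (apply_mem_img hx)]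

theorem Tw.tw (ha : IsIso F T T a) (hb : IsIso F T T b) (hP : P ≤ T) (hfT : ∀ x ∈ P, f x ∈ T)
    (h : Tw E (b ∘ a) P f) (hg : ∀ x ∈ P, g (a x) = a (f x)) : Tw E b (img P a) g := by
  obtain ⟨k, hk, ek⟩ := h
  have hai := ha.isMap.mono hP
  refine ⟨k, ?_, fun y hy => ?_⟩
  · have hm : img P a ≤ T := by
      intro y hy
      obtain ⟨x, hx, rfl⟩ := (mem_img hai).1 hy
      exact ha.mem (hP hx)
    rwa [img_img hai (hb.isMap.mono hm)]
  · obtain ⟨x, hx, rfl⟩ := (mem_img hai).1 hy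
    rw [hg x hx]
    exact ek x hx

/-- The largest `Aut_F(T)`-invariant system inside `E`. -/
theorem exists_inv_core (hE : E.IsSubsystemOf F) : ∃ E₀ : FusionSystem T, (∀ P f, IsMap E₀ P f ↔ IsMap E P f ∧
    ∀ a, IsIso F T T a → Tw E a P f) ∧ AInv F E₀ := by
  have hTS := le_of_isSubsystemOf hE
  obtain ⟨E₀, hE₀⟩ := exists_cut E le_rfl (fun P f => ∀ a, IsIso F T T a → Tw E a P f)
    (fun P f g hP hf hfT e h a ha => (h a ha).congr e)
    (fun P hP t ht a ha => Tw.conj ha hP ht)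
    (fun P Q f g hP hQ hf hg hfQ hgT h1 h2 a ha => Tw.comp ha hP hQ hfQ (h1 a ha) (h2 a ha))
    (fun P Q f g hP hQ hf hg e1 e2 h a ha => Tw.symm ha hP (fun y hy => hf.surj hy) (fun x hx => hf.mem hx) e1 (h a ha) hQ)
  have hE₀' : ∀ P f, IsMap E₀ P f ↔ IsMap E P f ∧ ∀ a, IsIso F T T a → Tw E a P f := by
    intro P f
    rw [hE₀]
    exact ⟨fun h => ⟨h.1, h.2.2.2⟩, fun h => ⟨h.1, h.1.le, fun x hx => h.1.mem hx, h.2⟩⟩
  refine ⟨E₀, hE₀', fun P f a hf ha => ?_⟩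
  obtain ⟨h1, h2⟩ := (hE₀' _ _).1 hf
  obtain ⟨g, hg, e⟩ := h2 a ha
  refine ⟨g, (hE₀' _ _).2 ⟨hg, fun b hb => ?_⟩, e⟩
  exact Tw.tw ha hb h1.le (fun x hx => h1.mem hx) (h2 _ (ha.comp hb)) e

theorem AInv.tw (h : AInv F E) (hf : IsMap E P f) (ha : IsIso F T T a) : Tw E a P f := h P f a hf ha

/-- transport of `p`-elements by elements of `Aut_F(T)`. -/
theorem tw_of_hasP {E' : FusionSystem T} (hE' : SInv F E') (hTS : T ≤ S) (hE's : E'.IsSubsystemOf F) [Finite S] (ha : IsIso F T T a) (hP : P ≤ T)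
    (h : HasP E' E p (img P a)) {α : MulAut P} (hα : α ∈ E'.autGroup P) (ho : ∃ k : ℕ, orderOf α = p ^ k) :
    Tw E a P (extFun (P.subtype.comp α.toMonoidHom)) := by
  have hai : IsIso F P (img P a) a := (ha.isMap.mono hP).isIso
  have hαi := isIso_of_mem_autGroup hP hα
  have hQT : img P a ≤ T := by
    intro y hy
    obtain ⟨x, hx, rfl⟩ := (mem_img (ha.isMap.mono hP)).1 hy
    exact ha.mem (hP hx)
  obtain ⟨g, hg, hg'⟩ := hE' P P _ a le_rfl hP hαi.isMap (fun _ hx => hαi.mem hx) hai.isMap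
  have h1 : IsIso.congrAut hai α ∈ E'.autGroup (img P a) := by
    refine mem_autGroup_of_isMap hQT hg fun y => ?_
    obtain ⟨x, hx, e⟩ := hai.surj y.2
    have h3 := hg' x hx
    have h4 := IsIso.congrAut_apply hai α hx
    have h5 : y = ⟨a x, hai.mem hx⟩ := Subtype.ext e.symm
    rw [h5, h4]
    show _ = g (a x)
    rw [h3, extFun_apply _ hx]
    rfl
  have h2 := h _ h1 (by
    obtain ⟨k, hk⟩ := ho
    exact ⟨k, by rw [← hk]; exact (IsIso.congrAut hai).orderOf_eq α⟩)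
  have h3 := isIso_of_mem_autGroup hQT h2
  refine ⟨_, h3.isMap, fun x hx => ?_⟩
  rw [extFun_apply _ (hai.mem hx), extFun_apply _ hx]
  exact IsIso.congrAut_apply hai α hx

theorem sinv_self (F : FusionSystem S) : SInv F F := by
  intro P Q f h hPQ _ hf hfQ hh
  obtain ⟨k, hk, k1, k2⟩ := (hh.mono hPQ).isIso.symm
  refine ⟨h ∘ (f ∘ k), (hk.isMap.comp hf fun x hx => hk.mem hx).comp hh fun x hx => hfQ _ (hk.mem hx), fun x hx => ?_⟩
  simp only [Function.comp_apply]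
  rw [k1 x hx]

theorem HasP.of_core {E E₀ : FusionSystem S} [Finite S] (hE₀ : ∀ P f, IsMap E₀ P f ↔ IsMap E P f ∧
    ∀ a, IsIso F S S a → Tw E a P f) (h : ∀ P, F.IsCentric P → HasP F E p P) (hP : F.IsCentric P) :
    HasP F E₀ p P := by
  intro α hα ho
  have hPS := hP.1
  refine mem_autGroup_of_isMap (f := extFun (P.subtype.comp α.toMonoidHom)) hPS ?_ fun x => by rw [extFun_coe]; rfl
  rw [hE₀]
  refine ⟨(isIso_of_mem_autGroup hPS (h P hP α hα ho)).isMap, fun a ha => ?_⟩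
  refine tw_of_hasP (sinv_self F) le_rfl (isSubsystemOf_iff.2 fun _ _ h => h) ha hPS
    (h _ (IsCentric.conj hP ((ha.isMap.mono hPS).isIso).isConj)) hα ho

/-- S5114 in function form. -/
theorem index_prime [Fact p.Prime] [Finite S] (hS : IsPGroup p S) {F E : FusionSystem S} (hF : F.IsSaturated p) (hE : E.IsSubsystemOf F)
    (h : ∀ P, F.IsCentric P → HasP F E p P) : (∀ P, P ≤ S → HasP F E p P) ∧ (∀ P f, IsMap F P f → FG F E P f) ∧
      ∀ P, E.IsCentric P ↔ F.IsCentric P := by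
  obtain ⟨E₀, hE₀, hA⟩ := exists_inv_core hE
  have hE₀E : E₀.IsSubsystemOf E := isSubsystemOf_iff.2 fun P f hf => ((hE₀ P f).1 hf).1
  have hE₀F : E₀.IsSubsystemOf F := fun P => (hE₀E P).trans (hE P)
  have h0 : ∀ P, F.IsCentric P → HasP F E₀ p P := fun P hP => HasP.of_core hE₀ h hP
  have hI := invariant_of hS hF hE₀F hA h0
  have h1 := hasP_all hS hF hE₀F (sinv_of_invariant hI) h0
  have h2 := fg_all hS hF hE₀F hA h0
  have h3 : ∀ P f, IsMap F P f → FG F E P f := by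
    intro P f hf
    obtain ⟨a, f₀, ha, hf₀, e⟩ := h2 P f hf
    exact ⟨a, f₀, ha, isMap_of_sub hE₀E hf₀, e⟩
  exact ⟨fun P hP α hα ho => autGroup_mono hE₀E P (h1 P hP α hα ho), h3, fun P => centric_iff (p := p) hE h3⟩

end H87.PPr
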