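import Cfsg.Agent.Lib.H90.TransComp
import Cfsg.Agent.Lib.H87.PPr2
set_option autoImplicit false

open Cfsg Cfsg.FusionSystem

namespace H87.ConjComp
open H87.Base H87.Basic H87.Syl H87.Sat H87.Grow H87.Inv H87.Frat H87.PPow H87.PPr H87.Factor
open H90.Trans H90.TransComp

variable {Ω Ω' Ω'' : Type*} [Group Ω] [Group Ω'] [Group Ω''] {S T U P Q T' : Subgroup Ω} {R' : Subgroup Ω'}
  {R'' : Subgroup Ω''} {F : FusionSystem S} {D : FusionSystem U} {C : FusionSystem T} {f g h a b l : Ω → Ω} {p : ℕ}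

theorem him_comp {u : Ω → Ω'} {v : Ω' → Ω} {u' : Ω' → Ω''} {v' : Ω'' → Ω'} (h : Tr T R' u v) (h' : Tr R' R'' u' v')
    (hP : P ≤ T) : him P (fun x => u' (u x)) = him (him P u) u' := by
  apply le_antisymm
  · unfold him
    rw [Subgroup.closure_le]
    rintro _ ⟨x, hx, rfl⟩
    exact Subgroup.subset_closure ⟨u x, Subgroup.subset_closure ⟨x, hx, rfl⟩, rfl⟩
  · intro y hy
    obtain ⟨z, hz, rfl⟩ := (h'.mem_him (h.him_le hP)).1 hy
    obtain ⟨x, hx, rfl⟩ := (h.mem_him hP).1 hz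
    exact Subgroup.subset_closure ⟨x, hx, rfl⟩

theorem rel_comp {u : Ω → Ω'} {v : Ω' → Ω} {u' : Ω' → Ω''} {v' : Ω'' → Ω'} {E : FusionSystem T}
    {E' : FusionSystem R'} {E'' : FusionSystem R''} (h : Rel u v E E') (h' : Rel u' v' E' E'') :
    Rel (fun x => u' (u x)) (fun y => v (v' y)) E E'' where
  tr := {
    mul := fun x hx y hy => by
      show u' (u (x * y)) = _
      rw [h.tr.mul x hx y hy, h'.tr.mul _ (h.tr.mem x hx) _ (h.tr.mem y hy)]
    mem := fun x hx => h'.tr.mem _ (h.tr.mem x hx)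
    mem' := fun y hy => h.tr.mem' _ (h'.tr.mem' y hy)
    left := fun x hx => by
      show v (v' (u' (u x))) = x
      rw [h'.tr.left _ (h.tr.mem x hx), h.tr.left x hx]
    right := fun y hy => by
      show u' (u (v (v' y))) = y
      rw [h.tr.right _ (h'.tr.mem' y hy), h'.tr.right y hy] }
  iff := fun P a hP ha => by
    rw [h.iff P a hP ha, h'.iff _ _ (h.tr.him_le hP) ?_, him_comp h.tr h'.tr hP]
    · rfl
    · intro x hx
      obtain ⟨y, hy, rfl⟩ := (h.tr.mem_him hP).1 hx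
      show u (a (v (u y))) ∈ R'
      rw [h.tr.left y (hP hy)]
      exact h.tr.mem _ (ha y hy)

theorem rel_congr {u u₂ : Ω → Ω'} {v v₂ : Ω' → Ω} {E : FusionSystem T} {E' : FusionSystem R'} (h : Rel u v E E')
    (e : ∀ x ∈ T, u x = u₂ x) (e' : ∀ y ∈ R', v y = v₂ y) : Rel u₂ v₂ E E' where
  tr := {
    mul := fun x hx y hy => by
      rw [← e _ (T.mul_mem hx hy), ← e x hx, ← e y hy, h.tr.mul x hx y hy]
    mem := fun x hx => by rw [← e x hx]; exact h.tr.mem x hx
    mem' := fun y hy => by rw [← e' y hy]; exact h.tr.mem' y hy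
    left := fun x hx => by
      have h1 := h.tr.mem x hx
      rw [← e x hx, ← e' _ h1, h.tr.left x hx]
    right := fun y hy => by
      have h1 := h.tr.mem' y hy
      rw [← e' y hy, ← e _ h1, h.tr.right y hy] }
  iff := fun P a hP ha => by
    have h1 : him P u = him P u₂ := by
      unfold him
      congr 1
      ext y
      constructor
      · rintro ⟨x, hx, rfl⟩; exact ⟨x, hx, (e x (hP hx)).symm⟩
      · rintro ⟨x, hx, rfl⟩; exact ⟨x, hx, e x (hP hx)⟩
    rw [h.iff P a hP ha, ← h1]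
    have h2 : ∀ y ∈ him P u, tmap u v a y = tmap u₂ v₂ a y := by
      intro y hy
      have hy' := h.tr.him_le hP hy
      obtain ⟨x, hx, rfl⟩ := (h.tr.mem_him hP).1 hy
      unfold tmap
      rw [← e' _ hy', h.tr.left x (hP hx), e _ (ha x hx)]
    exact ⟨fun h3 => h3.congr h2, fun h3 => h3.congr fun y hy => (h2 y hy).symm⟩

theorem tr_of_isIso (ha : IsIso F P Q a) (h1 : ∀ x ∈ P, b (a x) = x) (h2 : ∀ y ∈ Q, a (b y) = y) : Tr P Q a b where
  mul := fun _ hx _ hy => ha.isMap.map_mul hx hy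
  mem := fun _ hx => ha.mem hx
  mem' := fun y hy => by
    obtain ⟨x, hx, rfl⟩ := ha.surj hy
    rw [h1 x hx]; exact hx
  left := h1
  right := h2

/-- systems invariant under `Aut_F(U)` -/
theorem rel_of_ainv (hA : AInv F D) (ha : IsIso F U U a) (hb : IsIso F U U b) (h1 : ∀ x ∈ U, b (a x) = x)
    (h2 : ∀ y ∈ U, a (b y) = y) : Rel a b D D := by
  have key : ∀ (a b : Ω → Ω), IsIso F U U a → (∀ x ∈ U, b (a x) = x) → ∀ (P : Subgroup Ω) (x : Ω → Ω),
      IsMap D P x → IsMap D (him P a) (tmap a b x) := by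
    intro a b ha h1 P x hx
    obtain ⟨g, hg, e⟩ := hA P x a hx ha
    refine hg.congr fun y hy => ?_
    obtain ⟨z, hz, rfl⟩ := (mem_img (ha.isMap.mono hx.le)).1 hy
    unfold tmap
    rw [e z hz, h1 z (hx.le hz)]
  have htr := tr_of_isIso ha h1 h2
  refine ⟨htr, fun P x hP hx => ⟨key a b ha h1 P x, fun h => ?_⟩⟩
  have h3 := key b a hb h2 _ _ h
  rw [htr.him_him hP] at h3
  refine h3.congr fun y hy => ?_
  unfold tmap
  rw [h1 y (hP hy), h1 _ (hx y hy)]

theorem conj_aux (h : C.IsSubnormalIn F p) (hp : p.Prime) : Finite S → IsPGroup p S →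
    ∀ {f l : Ω → Ω} {T' : Subgroup Ω} (E' : FusionSystem T'), IsIso F T T' f → Rel f l C E' → E'.IsSubnormalIn F p := by
  induction h with
  | @refl F p =>
    intro hfin hpS f l T' E' hf hrel
    have hS : IsIso F T T f := StronglyClosed.isMap_iso stronglyClosed_top hf.isMap le_rfl
    have hT' : T' = T := hf.eq_img.symm.trans hS.eq_img
    subst hT'
    obtain ⟨b, hb, h1, h2⟩ := hS.symm
    have h3 : Rel f b F F := rel_of_ainv (SInv.ainv (sinv_self F)) hS hb h1 h2
    have h4 : Rel f b F E' := rel_congr hrel (fun _ _ => rfl) fun y hy => by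
      obtain ⟨x, hx, rfl⟩ := hS.surj hy
      rw [hrel.tr.left x hx, h1 x hx]
    have h5 : E' = F := H86.FusBasic.fs_ext (Rel.hom_eq h4 h3 fun _ => rfl)
    rw [h5]
    exact FusionSystem.IsSubnormalIn.refl F p
  | @step U S E D F p hED hDF ih =>
    intro hfin hpS f l T' E' hf hrel
    have := Fact.mk hp
    have hU : U ≤ S := hDF.1.2.2.2.1.1
    have hTU : T ≤ U := subnormal_le hED
    have hUfin : Finite U := finite_of_le hU
    obtain ⟨-, -, hA, hFr⟩ := isInvariantIn_iff.1 hDF.1.2.2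
    obtain ⟨a, f₀, ha, hf₀, e⟩ := hFr _ f hTU hf.isMap
    obtain ⟨b, hb, h1, h2⟩ := ha.symm
    have hf₀i := hf₀.isIso
    obtain ⟨l₀, hl₀, h3, h4⟩ := hf₀i.symm
    obtain ⟨C₀, hC₀⟩ := exists_rel (tr_of_isIso hf₀i h3 h4) E
    have hsub := ih hp hUfin (hpS.to_le hU) C₀ hf₀i hC₀
    have hDD : Rel a b D D := rel_of_ainv hA ha hb h1 h2
    have hrel2 : Rel a b C₀ E' := by
      refine rel_congr (rel_comp hC₀.symm hrel) (fun x hx => ?_) fun y hy => ?_
      · obtain ⟨z, hz, rfl⟩ := hf₀i.surj hx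
        show f (l₀ (f₀ z)) = a (f₀ z)
        rw [h3 z hz, e z hz]
      · obtain ⟨z, hz, rfl⟩ := hf.surj hy
        show f₀ (l (f z)) = b (f z)
        rw [hrel.tr.left z hz, e z hz, h1 _ (hf₀.mem hz)]
    have hsub2 := subnormal hDD hrel2 (hpS.to_le hU) hsub
    exact FusionSystem.IsSubnormalIn.step hsub2 hDF

/-- factor systems by the trivial subgroup are transports -/
theorem rel_of_factor {γ : T →* Ω'} {E : FusionSystem R'} (h : C.IsFactorSystem ⊥ γ E) :
    ∃ l, Rel (extFun γ) l C E := by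
  obtain ⟨h1, h2, h3, h4⟩ := isFactorSystem_iff.1 h
  have hinj : Function.Injective γ := by
    rw [injective_iff_map_eq_one]
    intro x hx
    have := (h2 x x.2).1 (by rw [extFun_coe]; exact hx)
    exact Subtype.ext (Subgroup.mem_bot.1 this)
  subst h3
  let e : T ≃* γ.range := MulEquiv.ofBijective γ.rangeRestrict ⟨γ.rangeRestrict_injective_iff.2 hinj, γ.rangeRestrict_surjective⟩
  let l : Ω' → Ω := extFun (T.subtype.comp e.symm.toMonoidHom)
  have hl : ∀ x ∈ T, l (extFun γ x) = x := by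
    intro x hx
    rw [extFun_apply γ hx]
    have h5 : γ ⟨x, hx⟩ ∈ γ.range := ⟨_, rfl⟩
    show extFun (T.subtype.comp e.symm.toMonoidHom) (γ ⟨x, hx⟩) = x
    rw [extFun_apply _ h5]
    have h6 : e ⟨x, hx⟩ = ⟨γ ⟨x, hx⟩, h5⟩ := Subtype.ext rfl
    show ((e.symm ⟨γ ⟨x, hx⟩, h5⟩ : T) : Ω) = x
    rw [← h6, MulEquiv.symm_apply_apply]
  have htr : Tr T γ.range (extFun γ) l := by
    refine ⟨fun x hx y hy => ?_, fun x hx => ?_, fun y hy => ?_, hl, fun y hy => ?_⟩
    · rw [extFun_apply γ hx, extFun_apply γ hy, extFun_apply γ (T.mul_mem hx hy), ← map_mul]; rfl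
    · rw [extFun_apply γ hx]; exact ⟨_, rfl⟩
    · obtain ⟨x, rfl⟩ := hy
      have := hl x x.2
      rw [extFun_coe] at this
      rw [this]; exact x.2
    · obtain ⟨x, rfl⟩ := hy
      have := hl x x.2
      rw [extFun_coe] at this
      rw [this, extFun_coe]
  refine ⟨l, htr, fun P a hP ha => ?_⟩
  have hpre : preimageAlong γ (him P (extFun γ)) = P := by
    ext x
    rw [mem_preimageAlong]
    constructor
    · rintro ⟨hx, hx'⟩
      obtain ⟨y, hy, e'⟩ := (htr.mem_him hP).1 hx'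
      rw [htr.inj (hP hy) hx e'] at hy
      exact hy
    · intro hx
      exact ⟨hP hx, Tr.apply_mem_him hx⟩
  rw [h4, hpre]
  constructor
  · intro hm
    refine ⟨htr.him_le hP, a, hm, fun x hx => ?_⟩
    unfold tmap
    rw [hl x (hP hx)]
  · rintro ⟨-, f, hf, hi⟩
    refine hf.congr fun x hx => ?_
    have h5 := hi x hx
    unfold tmap at h5
    rw [hl x (hP hx)] at h5
    exact (htr.inj (ha x hx) (hf.mem hx) h5).symm

/-- conjugates of components are components -/
theorem component_conj [Fact p.Prime] [Finite S] (hS : IsPGroup p S) (hC : C.IsComponentIn F p) {γ : T →* Ω}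
    (hγ : γ ∈ F.Hom T) {E : FusionSystem γ.range} (hE : C.IsFactorSystem ⊥ γ E) : E.IsComponentIn F p := by
  obtain ⟨l, hl⟩ := rel_of_factor hE
  have hT := subnormal_le hC.1
  have : Finite T := finite_of_le hT
  exact ⟨conj_aux hC.1 Fact.out inferInstance hS E (isIso_of_mem hγ) hl, quasisimple hl (hS.to_le hT) hC.2⟩

end H87.ConjComp
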