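import Cfsg.Agent.Lib.H87.Surj
import Cfsg.Agent.Lib.H87.Inv
set_option autoImplicit false

open Cfsg Cfsg.FusionSystem

namespace H87.Trans
open H87.Base H87.Basic H87.Syl H87.Sat H87.Grow H87.Inv H87.Factor

/-! ### Isomorphisms between subgroups of different groups, as total functions -/

/-- `a` restricts to an isomorphism `T → T'` with inverse `b`. -/
structure GIso {Ω Ω' : Type*} [Group Ω] [Group Ω'] (T : Subgroup Ω) (T' : Subgroup Ω') (a : Ω → Ω')
    (b : Ω' → Ω) : Prop where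
  mem : ∀ x ∈ T, a x ∈ T'
  mem' : ∀ y ∈ T', b y ∈ T
  left : ∀ x ∈ T, b (a x) = x
  right : ∀ y ∈ T', a (b y) = y
  mul : ∀ x ∈ T, ∀ y ∈ T, a (x * y) = a x * a y

/-- The image subgroup. -/
def im {Ω Ω' : Type*} [Group Ω] [Group Ω'] (P : Subgroup Ω) (a : Ω → Ω') : Subgroup Ω' :=
  Subgroup.closure (a '' P)

section
variable {Ω Ω' Ω'' : Type*} [Group Ω] [Group Ω'] [Group Ω''] {T P Q S R : Subgroup Ω} {T' P' Q' S' : Subgroup Ω'}
  {a : Ω → Ω'} {b : Ω' → Ω} {f g : Ω → Ω} {f' g' : Ω' → Ω'}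

theorem img_eq_im : img P f = im P f := rfl

namespace GIso

theorem mul' (h : GIso T T' a b) : ∀ x ∈ T', ∀ y ∈ T', b (x * y) = b x * b y := by
  intro x hx y hy
  have h1 := h.mul _ (h.mem' x hx) _ (h.mem' y hy)
  rw [h.right x hx, h.right y hy] at h1
  rw [← h1, h.left _ (T.mul_mem (h.mem' x hx) (h.mem' y hy))]

theorem symm (h : GIso T T' a b) : GIso T' T b a := ⟨h.mem', h.mem, h.right, h.left, h.mul'⟩

theorem one (h : GIso T T' a b) : a 1 = 1 := by
  have h1 := h.mul 1 T.one_mem 1 T.one_mem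
  rw [mul_one] at h1
  exact mul_eq_left.1 h1.symm

theorem inv (h : GIso T T' a b) {x : Ω} (hx : x ∈ T) : a x⁻¹ = (a x)⁻¹ := by
  have h1 := h.mul x hx x⁻¹ (T.inv_mem hx)
  rw [mul_inv_cancel, h.one] at h1
  exact (inv_eq_of_mul_eq_one_right h1.symm).symm

theorem conj (h : GIso T T' a b) {x y : Ω} (hx : x ∈ T) (hy : y ∈ T) : a (x * y * x⁻¹) = a x * a y * (a x)⁻¹ := by
  rw [h.mul _ (T.mul_mem hx hy) _ (T.inv_mem hx), h.mul _ hx _ hy, h.inv hx]

theorem inj (h : GIso T T' a b) {x y : Ω} (hx : x ∈ T) (hy : y ∈ T) (e : a x = a y) : x = y := by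
  rw [← h.left x hx, e, h.left y hy]

theorem mem_im (h : GIso T T' a b) (hP : P ≤ T) {y : Ω'} : y ∈ im P a ↔ ∃ x ∈ P, a x = y := by
  constructor
  · intro hy
    unfold im at hy
    induction hy using Subgroup.closure_induction with
    | mem y hy => exact hy
    | one => exact ⟨1, P.one_mem, h.one⟩
    | mul c d _ _ hc hd =>
      obtain ⟨x, hx, rfl⟩ := hc
      obtain ⟨y, hy, rfl⟩ := hd
      exact ⟨x * y, P.mul_mem hx hy, h.mul _ (hP hx) _ (hP hy)⟩
    | inv c _ hc =>
      obtain ⟨x, hx, rfl⟩ := hc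
      exact ⟨x⁻¹, P.inv_mem hx, h.inv (hP hx)⟩
  · rintro ⟨x, hx, rfl⟩
    exact Subgroup.subset_closure ⟨x, hx, rfl⟩

theorem im_le (h : GIso T T' a b) (hP : P ≤ T) : im P a ≤ T' := by
  intro y hy
  obtain ⟨x, hx, rfl⟩ := (h.mem_im hP).1 hy
  exact h.mem x (hP hx)

theorem mem_im_iff (h : GIso T T' a b) (hP : P ≤ T) {y : Ω'} : y ∈ im P a ↔ y ∈ T' ∧ b y ∈ P := by
  rw [h.mem_im hP]
  constructor
  · rintro ⟨x, hx, rfl⟩
    exact ⟨h.mem x (hP hx), by rw [h.left x (hP hx)]; exact hx⟩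
  · rintro ⟨h1, h2⟩
    exact ⟨b y, h2, h.right y h1⟩

theorem apply_mem_im_iff (h : GIso T T' a b) (hP : P ≤ T) {x : Ω} (hx : x ∈ T) : a x ∈ im P a ↔ x ∈ P := by
  rw [h.mem_im_iff hP, h.left x hx]
  exact ⟨fun h => h.2, fun h' => ⟨h.mem x hx, h'⟩⟩

theorem im_im (h : GIso T T' a b) (hP : P ≤ T) : im (im P a) b = P := by
  ext x
  rw [h.symm.mem_im (h.im_le hP)]
  constructor
  · rintro ⟨y, hy, rfl⟩
    exact ((h.mem_im_iff hP).1 hy).2
  · intro hx
    exact ⟨a x, (h.mem_im hP).2 ⟨x, hx, rfl⟩, h.left x (hP hx)⟩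

theorem im_self (h : GIso T T' a b) : im T a = T' := by
  ext y
  rw [h.mem_im_iff le_rfl]
  exact ⟨fun h => h.1, fun h' => ⟨h', h.mem' y h'⟩⟩

theorem im_le_im (h : GIso T T' a b) (hP : P ≤ T) (hQ : Q ≤ T) : im P a ≤ im Q a ↔ P ≤ Q := by
  constructor
  · intro h1 x hx
    have h2 := h1 ((h.mem_im hP).2 ⟨x, hx, rfl⟩)
    rwa [h.apply_mem_im_iff hQ (hP hx)] at h2
  · intro h1 y hy
    obtain ⟨x, hx, rfl⟩ := (h.mem_im hP).1 hy
    exact (h.mem_im hQ).2 ⟨x, h1 hx, rfl⟩

theorem im_inj (h : GIso T T' a b) (hP : P ≤ T) (hQ : Q ≤ T) (e : im P a = im Q a) : P = Q :=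
  le_antisymm ((h.im_le_im hP hQ).1 e.le) ((h.im_le_im hQ hP).1 e.ge)

theorem restrict (h : GIso T T' a b) (hP : P ≤ T) : GIso P (im P a) a b where
  mem x hx := (h.mem_im hP).2 ⟨x, hx, rfl⟩
  mem' y hy := ((h.mem_im_iff hP).1 hy).2
  left x hx := h.left x (hP hx)
  right y hy := h.right y ((h.mem_im_iff hP).1 hy).1
  mul x hx y hy := h.mul x (hP hx) y (hP hy)

theorem congr (h : GIso T T' a b) {c : Ω → Ω'} (e : ∀ x ∈ T, a x = c x) : GIso T T' c b where
  mem x hx := by rw [← e x hx]; exact h.mem x hx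
  mem' := h.mem'
  left x hx := by rw [← e x hx]; exact h.left x hx
  right y hy := by rw [← e _ (h.mem' y hy)]; exact h.right y hy
  mul x hx y hy := by
    rw [← e x hx, ← e y hy, ← e _ (T.mul_mem hx hy)]; exact h.mul x hx y hy

theorem comp {T'' : Subgroup Ω''} {c : Ω' → Ω''} {d : Ω'' → Ω'} (h : GIso T T' a b) (h' : GIso T' T'' c d) :
    GIso T T'' (fun x => c (a x)) (fun z => b (d z)) where
  mem x hx := h'.mem _ (h.mem x hx)
  mem' z hz := h.mem' _ (h'.mem' z hz)
  left x hx := by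
    show b (d (c (a x))) = x
    rw [h'.left _ (h.mem x hx), h.left x hx]
  right z hz := by
    show c (a (b (d z))) = z
    rw [h.right _ (h'.mem' z hz), h'.right z hz]
  mul x hx y hy := by
    show c (a (x * y)) = _
    rw [h.mul x hx y hy, h'.mul _ (h.mem x hx) _ (h.mem y hy)]

theorem of_hom {T : Subgroup Ω} (γ : T →* Ω') (hγ : Function.Injective γ) : ∃ b, GIso T γ.range (extFun γ) b := by
  classical
  have hinj : ∀ y ∈ γ.range, ∃ x ∈ T, extFun γ x = y := by
    rintro _ ⟨x, rfl⟩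
    exact ⟨x, x.2, extFun_coe γ x⟩
  choose! b hb1 hb2 using hinj
  refine ⟨b, ?_, hb1, ?_, hb2, ?_⟩
  · intro x hx
    rw [extFun_apply γ hx]; exact ⟨_, rfl⟩
  · intro x hx
    have h1 : extFun γ x ∈ γ.range := by rw [extFun_apply γ hx]; exact ⟨_, rfl⟩
    have h2 := (extFun_apply γ (hb1 _ h1)).symm.trans ((hb2 _ h1).trans (extFun_apply γ hx))
    exact congrArg Subtype.val (hγ h2)
  · intro x hx y hy
    rw [extFun_apply γ hx, extFun_apply γ hy, extFun_apply γ (T.mul_mem hx hy), ← map_mul]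
    rfl

theorem centralizerIn_im (h : GIso T T' a b) (hP : P ≤ T) : im (centralizerIn T P) a = centralizerIn T' (im P a) := by
  ext y
  rw [h.mem_im_iff centralizerIn_le, mem_centralizerIn, mem_centralizerIn]
  constructor
  · rintro ⟨h1, h2, h3⟩
    refine ⟨h1, fun z hz => ?_⟩
    obtain ⟨x, hx, rfl⟩ := (h.mem_im hP).1 hz
    rw [← h.right y h1, ← h.mul _ (hP hx) _ h2, h3 x hx, h.mul _ h2 _ (hP hx)]
  · rintro ⟨h1, h2⟩
    refine ⟨h1, h.mem' y h1, fun x hx => ?_⟩
    have h3 := h2 (a x) ((h.mem_im hP).2 ⟨x, hx, rfl⟩)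
    have h4 := congrArg b h3
    rwa [h.mul' _ (h.mem x (hP hx)) _ h1, h.mul' _ h1 _ (h.mem x (hP hx)), h.left x (hP hx)] at h4

theorem sup_im (h : GIso T T' a b) (hP : P ≤ T) (hQ : Q ≤ T) : im (P ⊔ Q) a = im P a ⊔ im Q a := by
  apply le_antisymm
  · have h1 : P ⊔ Q ≤ im (im P a ⊔ im Q a) b := by
      have hle : im P a ⊔ im Q a ≤ T' := sup_le (h.im_le hP) (h.im_le hQ)
      apply sup_le
      · intro x hx
        rw [h.symm.mem_im_iff hle]
        exact ⟨hP hx, (le_sup_left : im P a ≤ _) ((h.mem_im hP).2 ⟨x, hx, rfl⟩)⟩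
      · intro x hx
        rw [h.symm.mem_im_iff hle]
        exact ⟨hQ hx, (le_sup_right : im Q a ≤ _) ((h.mem_im hQ).2 ⟨x, hx, rfl⟩)⟩
    have hle : im P a ⊔ im Q a ≤ T' := sup_le (h.im_le hP) (h.im_le hQ)
    rw [← h.im_le_im (sup_le hP hQ) (h.symm.im_le hle), h.symm.im_im hle] at h1
    exact h1
  · apply sup_le
    · exact (h.im_le_im hP (sup_le hP hQ)).2 le_sup_left
    · exact (h.im_le_im hQ (sup_le hP hQ)).2 le_sup_right

theorem inf_im (h : GIso T T' a b) (hP : P ≤ T) (hQ : Q ≤ T) : im (P ⊓ Q) a = im P a ⊓ im Q a := by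
  ext y
  rw [Subgroup.mem_inf, h.mem_im_iff hP, h.mem_im_iff hQ, h.mem_im_iff (inf_le_left.trans hP), Subgroup.mem_inf]
  tauto

theorem normalizerIn_im (h : GIso T T' a b) (hP : P ≤ T) : im (normalizerIn T P) a = normalizerIn T' (im P a) := by
  ext y
  rw [h.mem_im_iff normalizerIn_le, mem_normalizerIn, mem_normalizerIn, Subgroup.mem_normalizer_iff,
    Subgroup.mem_normalizer_iff]
  constructor
  · rintro ⟨h1, h2, h3⟩
    refine ⟨h1, fun z => ?_⟩
    rw [h.mem_im_iff hP, h.mem_im_iff hP]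
    constructor
    · rintro ⟨h4, h5⟩
      refine ⟨T'.mul_mem (T'.mul_mem h1 h4) (T'.inv_mem h1), ?_⟩
      rw [h.symm.conj h1 h4]
      exact (h3 _).1 h5
    · rintro ⟨h4, h5⟩
      have h6 : z ∈ T' := by
        have := T'.mul_mem (T'.mul_mem (T'.inv_mem h1) h4) h1
        simpa [mul_assoc] using this
      refine ⟨h6, ?_⟩
      rw [h.symm.conj h1 h6] at h5
      exact (h3 _).2 h5
  · rintro ⟨h1, h2⟩
    refine ⟨h1, h.mem' y h1, fun x => ?_⟩
    by_cases hx : x ∈ T
    · have h3 := h2 (a x)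
      rw [h.apply_mem_im_iff hP hx] at h3
      rw [h3]
      have h4 : y * a x * y⁻¹ = a (b y * x * (b y)⁻¹) := by
        rw [h.conj (h.mem' y h1) hx, h.right y h1]
      rw [h4, h.apply_mem_im_iff hP (T.mul_mem (T.mul_mem (h.mem' y h1) hx) (T.inv_mem (h.mem' y h1)))]
    · constructor
      · intro h3; exact absurd (hP h3) hx
      · intro h3
        exfalso
        apply hx
        have := T.mul_mem (T.mul_mem (T.inv_mem (h.mem' y h1)) (hP h3)) (h.mem' y h1)
        simpa [mul_assoc] using this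

noncomputable def equiv (h : GIso T T' a b) : T ≃* T' where
  toFun x := ⟨a x, h.mem x x.2⟩
  invFun y := ⟨b y, h.mem' y y.2⟩
  left_inv x := Subtype.ext (h.left x x.2)
  right_inv y := Subtype.ext (h.right y y.2)
  map_mul' x y := Subtype.ext (h.mul x x.2 y y.2)

theorem finite (h : GIso T T' a b) [Finite T] : Finite T' := Finite.of_equiv _ h.equiv.toEquiv

theorem isPGroup (h : GIso T T' a b) {p : ℕ} (hT : IsPGroup p T) : IsPGroup p T' :=
  hT.of_equiv h.equiv

theorem card_eq (h : GIso T T' a b) : Nat.card T = Nat.card T' := Nat.card_congr h.equiv.toEquiv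

end GIso

/-! ### Isomorphisms of fusion systems -/

/-- `a : S → S'`, with inverse `b`, is an isomorphism from `F` onto `F'`. -/
structure FIso (F : FusionSystem S) (F' : FusionSystem S') (a : Ω → Ω') (b : Ω' → Ω) : Prop extends
    GIso S S' a b where
  map : ∀ P f, IsMap F P f → IsMap F' (im P a) (fun y => a (f (b y)))
  map' : ∀ P' f', IsMap F' P' f' → IsMap F (im P' b) (fun x => b (f' (a x)))

variable {F : FusionSystem S} {F' : FusionSystem S'} {E : FusionSystem T} {E' : FusionSystem T'} {p : ℕ}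

namespace FIso

theorem symm (h : FIso F F' a b) : FIso F' F b a := ⟨h.toGIso.symm, h.map', h.map⟩

theorem map_of (h : FIso F F' a b) (hf : IsMap F P f) (e : ∀ x ∈ P, f' (a x) = a (f x)) :
    IsMap F' (im P a) f' := by
  refine (h.map P f hf).congr fun y hy => ?_
  obtain ⟨x, hx, rfl⟩ := (h.mem_im hf.le).1 hy
  show a (f (b (a x))) = _
  rw [h.left x (hf.le hx), e x hx]

theorem of_map (h : FIso F F' a b) (hP : P ≤ S) (hf : IsMap F' (im P a) f') (e : ∀ x ∈ P, a (f x) = f' (a x))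
    (hS : ∀ x ∈ P, f x ∈ S) : IsMap F P f := by
  have h1 := h.map' _ _ hf
  rw [h.im_im hP] at h1
  refine h1.congr fun x hx => ?_
  show b (f' (a x)) = f x
  rw [← e x hx, h.left _ (hS x hx)]

theorem iso (h : FIso F F' a b) (hf : IsIso F P Q f) : IsIso F' (im P a) (im Q a) (fun y => a (f (b y))) := by
  refine (h.map P f hf.isMap).isIso_of ?_ ?_
  · intro y hy
    exact (h.mem_im hf.le').2 ⟨_, hf.mem ((h.mem_im_iff hf.le).1 hy).2, rfl⟩
  · intro z hz
    obtain ⟨y, hy, rfl⟩ := (h.mem_im hf.le').1 hz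
    obtain ⟨x, hx, rfl⟩ := hf.surj hy
    exact ⟨a x, (h.mem_im hf.le).2 ⟨x, hx, rfl⟩, by
      show a (f (b (a x))) = _
      rw [h.left x (hf.le hx)]⟩

theorem iso_of (h : FIso F F' a b) (hf : IsIso F P Q f) (e : ∀ x ∈ P, f' (a x) = a (f x)) :
    IsIso F' (im P a) (im Q a) f' := by
  refine (h.iso hf).congr fun y hy => ?_
  obtain ⟨x, hx, rfl⟩ := (h.mem_im hf.le).1 hy
  show a (f (b (a x))) = _
  rw [h.left x (hf.le hx), e x hx]

theorem isConj (h : FIso F F' a b) (hc : F.IsConj P Q) : F'.IsConj (im P a) (im Q a) := by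
  obtain ⟨f, hf⟩ := isConj_iff.1 hc
  exact (h.iso hf).isConj

theorem stronglyClosed (h : FIso F F' a b) (hQ : F.StronglyClosed Q) : F'.StronglyClosed (im Q a) := by
  rw [stronglyClosed_iff]
  refine ⟨h.im_le hQ.1, fun P' f' hP' hf' y hy => ?_⟩
  have h1 := h.map' _ _ hf'
  have h2 : b (f' (a (b y))) ∈ Q := by
    refine mem_of_stronglyClosed hQ h1 ((h.symm.mem_im hf'.le).2 ⟨y, hy, rfl⟩) ?_
    have := hP' hy
    exact ((h.mem_im_iff hQ.1).1 this).2
  rw [h.right _ (hf'.le hy)] at h2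
  exact (h.mem_im_iff hQ.1).2 ⟨hf'.mem hy, h2⟩

/-- An isomorphism of systems as a surjective morphism. -/
theorem surj (h : FIso F F' a b) : ∃ α : S →* Ω', (∀ x (hx : x ∈ S), α ⟨x, hx⟩ = a x) ∧ F.IsSurjectiveMorphism F' α := by
  let α : S →* Ω' :=
    { toFun := fun x => a x
      map_one' := h.one
      map_mul' := fun x y => h.mul x x.2 y y.2 }
  have hα : ∀ x ∈ S, extFun α x = a x := fun x hx => extFun_apply α hx
  have hpre : ∀ P' : Subgroup Ω', P' ≤ S' → preimageAlong α P' = im P' b := by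
    intro P' hP'
    ext x
    rw [mem_preimageAlong, h.symm.mem_im_iff hP']
    refine and_congr_right fun hx => ?_
    rw [hα x hx]
  have him : ∀ P : Subgroup Ω, P ≤ S → imageAlong α P = im P a := by
    intro P hP
    ext y
    rw [mem_imageAlong, h.mem_im hP]
    constructor
    · rintro ⟨x, hx, hxS, rfl⟩; exact ⟨x, hx, (hα x hxS).symm⟩
    · rintro ⟨x, hx, rfl⟩; exact ⟨x, hx, hP hx, hα x (hP hx)⟩
  refine ⟨α, fun x hx => rfl, ?_⟩
  rw [isSurjectiveMorphism_iff]
  refine ⟨?_, ?_, ?_⟩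
  · rw [isMorphism_iff]
    refine ⟨fun s hs => by rw [hα s hs]; exact h.mem s hs, fun P f hf => ?_⟩
    refine ⟨_, by rw [him P hf.le]; exact h.map P f hf, fun x hx => ?_⟩
    rw [hα x (hf.le hx), hα _ (hf.mem hx), h.left x (hf.le hx)]
  · ext y
    constructor
    · rintro ⟨x, rfl⟩; exact h.mem x x.2
    · intro hy; exact ⟨⟨b y, h.mem' y hy⟩, h.right y hy⟩
  · intro P' f' hf'
    refine ⟨_, by rw [hpre P' hf'.le]; exact h.map' P' f' hf', fun x hx => ?_⟩
    rw [hpre P' hf'.le] at hx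
    have hx' := (h.symm.mem_im_iff hf'.le).1 hx
    rw [hα x hx'.1, hα _ (h.mem' _ (hf'.mem hx'.2)), h.right _ (hf'.mem hx'.2)]

theorem saturated (h : FIso F F' a b) [Fact p.Prime] [Finite S] (hS : IsPGroup p S) (hF : F.IsSaturated p) :
    F'.IsSaturated p := by
  obtain ⟨α, -, hα⟩ := h.surj
  exact H87.Surj.saturated_of_surjective hS hF hα

end FIso

/-- Existence of the transported system. -/
theorem exists_trans (h : GIso T T' a b) (E : FusionSystem T) : ∃ E' : FusionSystem T', FIso E E' a b := by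
  let H : (P' : Subgroup Ω') → Set (P' →* Ω') := fun P' => {φ' | P' ≤ T' ∧ (∀ x : P', φ' x ∈ T') ∧
    IsMap E (im P' b) (fun x => b (extFun φ' (a x)))}
  have hH : ∀ (P' : Subgroup Ω') (φ' : P' →* Ω') (f' : Ω' → Ω'), (∀ x : P', φ' x = f' x) →
      (φ' ∈ H P' ↔ P' ≤ T' ∧ (∀ x ∈ P', f' x ∈ T') ∧ IsMap E (im P' b) (fun x => b (f' (a x)))) := by
    intro P' φ' f' e
    refine and_congr_right fun h5 => and_congr ?_ ?_
    · constructor
      · intro h6 x hx; rw [← e ⟨x, hx⟩]; exact h6 _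
      · intro h6 x; rw [e]; exact h6 x x.2
    · have e1 : ∀ x ∈ im P' b, b (extFun φ' (a x)) = b (f' (a x)) := by
        intro x hx
        have hx' := ((h.symm.mem_im_iff h5).1 hx).2
        rw [extFun_apply φ' hx', e]
      exact ⟨fun h6 => h6.congr e1, fun h6 => h6.congr fun x hx => (e1 x hx).symm⟩
  let E' : FusionSystem T' :=
    { Hom := H
      le_of_mem := fun hφ => ⟨hφ.1, hφ.2.1⟩
      injective_of_mem := by
        intro P' φ' hφ x y hxy
        obtain ⟨h1, h2, h3⟩ := hφ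
        have hx : b x ∈ im P' b := (h.symm.mem_im h1).2 ⟨x, x.2, rfl⟩
        have hy : b y ∈ im P' b := (h.symm.mem_im h1).2 ⟨y, y.2, rfl⟩
        have h4 : b x = b y := by
          refine h3.inj hx hy ?_
          show b (extFun φ' (a (b x))) = b (extFun φ' (a (b y)))
          rw [h.right x (h1 x.2), h.right y (h1 y.2), extFun_coe, extFun_coe, hxy]
        exact Subtype.ext (h.symm.inj (h1 x.2) (h1 y.2) h4)
      conj_mem := by
        intro P' g hP' hg
        rw [hH P' _ (fun x => g * x * g⁻¹) (fun x => rfl)]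
        refine ⟨hP', fun x hx => T'.mul_mem (T'.mul_mem hg (hP' hx)) (T'.inv_mem hg), ?_⟩
        refine (isMap_conj E (h.symm.im_le hP') (h.mem' g hg)).congr fun x hx => ?_
        have hx' := (h.symm.mem_im_iff hP').1 hx
        rw [h.symm.conj hg (hP' hx'.2), h.left x hx'.1]
      comp_mem := by
        intro P' Q' φ ψ hφ hψ hφψ
        rw [hH P' _ (fun x => extFun ψ (extFun φ x)) (fun x => by
          rw [extFun_coe φ x]
          show ψ _ = _
          rw [extFun_apply ψ (hφψ x)]; rfl)]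
        obtain ⟨h1, h2, h3⟩ := (hH P' φ (extFun φ) (fun x => (extFun_coe φ x).symm)).1 hφ
        obtain ⟨h4, h5, h6⟩ := (hH Q' ψ (extFun ψ) (fun x => (extFun_coe ψ x).symm)).1 hψ
        have hm : ∀ x ∈ P', extFun φ x ∈ Q' := fun x hx => by rw [extFun_apply φ hx]; exact hφψ _
        refine ⟨h1, fun x hx => h5 _ (hm x hx), ?_⟩
        have h7 := h3.comp h6 (fun x hx => by
          have hx' := (h.symm.mem_im_iff h1).1 hx
          exact (h.symm.mem_im h4).2 ⟨_, hm _ hx'.2, rfl⟩)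
        refine h7.congr fun x hx => ?_
        have hx' := (h.symm.mem_im_iff h1).1 hx
        show b (extFun ψ (a (b (extFun φ (a x))))) = _
        rw [h.right _ (h2 _ hx'.2)]
      inv_mem := by
        intro P' φ hφ
        obtain ⟨h1, h2, h3⟩ := hφ
        have hr : φ.range ≤ T' := by rintro _ ⟨x, rfl⟩; exact h2 x
        -- the inverse of the map of E
        obtain ⟨k, hk, k1, k2⟩ := h3.isIso.symm
        have him : img (im P' b) (fun x => b (extFun φ (a x))) = im φ.range b := by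
          ext z
          rw [mem_img h3, h.symm.mem_im hr]
          constructor
          · rintro ⟨x, hx, rfl⟩
            have hx' := (h.symm.mem_im_iff h1).1 hx
            exact ⟨extFun φ (a x), by rw [extFun_apply φ hx'.2]; exact ⟨_, rfl⟩, rfl⟩
          · rintro ⟨_, ⟨x, rfl⟩, rfl⟩
            refine ⟨b x, (h.symm.mem_im h1).2 ⟨x, x.2, rfl⟩, ?_⟩
            show b (extFun φ (a (b x))) = _
            rw [h.right _ (h1 x.2), extFun_coe]
        rw [him] at hk
        have hinj : ∀ x y : P', φ x = φ y → x = y := by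
          intro x y hxy
          have hx : b x ∈ im P' b := (h.symm.mem_im h1).2 ⟨x, x.2, rfl⟩
          have hy : b y ∈ im P' b := (h.symm.mem_im h1).2 ⟨y, y.2, rfl⟩
          have h4 : b x = b y := by
            refine h3.inj hx hy ?_
            show b (extFun φ (a (b x))) = b (extFun φ (a (b y)))
            rw [h.right x (h1 x.2), h.right y (h1 y.2), extFun_coe, extFun_coe, hxy]
          exact Subtype.ext (h.symm.inj (h1 x.2) (h1 y.2) h4)
        have hkx : ∀ x : P', k (b (φ x)) = b x := by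
          intro x
          have := k1 (b x) ((h.symm.mem_im h1).2 ⟨x, x.2, rfl⟩)
          simp only [h.right _ (h1 x.2), extFun_coe] at this
          exact this
        let ψ : φ.range →* Ω' :=
          { toFun := fun y => a (k (b y))
            map_one' := by
              show a (k (b ((1 : φ.range) : Ω'))) = 1
              have : ((1 : φ.range) : Ω') = 1 := rfl
              rw [this, h.symm.one, hk.isMap.map_one, h.one]
            map_mul' := by
              rintro ⟨_, x, rfl⟩ ⟨_, y, rfl⟩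
              show a (k (b (φ x * φ y))) = a (k (b (φ x))) * a (k (b (φ y)))
              rw [← map_mul, hkx, hkx, hkx, h.right _ (h1 (x * y).2), h.right _ (h1 x.2), h.right _ (h1 y.2)]
              rfl }
        refine ⟨ψ, ?_, fun x => ?_⟩
        · rw [hH _ _ (fun y => a (k (b y))) (fun y => rfl)]
          refine ⟨hr, ?_, ?_⟩
          · rintro _ ⟨x, rfl⟩
            rw [hkx, h.right _ (h1 x.2)]; exact h1 x.2
          · refine hk.isMap.congr fun x hx => ?_
            have hx' := (h.symm.mem_im_iff hr).1 hx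
            rw [h.left x hx'.1]
            rw [h.left _ (hk.isMap.mem hx)]
        · show a (k (b (φ x))) = _
          rw [hkx, h.right _ (h1 x.2)] }
  have hE' : ∀ P' f', IsMap E' P' f' ↔ P' ≤ T' ∧ (∀ x ∈ P', f' x ∈ T') ∧ IsMap E (im P' b) (fun x => b (f' (a x))) := by
    intro P' f'
    constructor
    · rintro ⟨φ', hφ', e⟩
      exact (hH P' φ' f' e).1 hφ'
    · rintro ⟨h1, h2, h3⟩
      let φ' : P' →* Ω' :=
        { toFun := fun y => f' y
          map_one' := by
            show f' ((1 : P') : Ω') = 1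
            have h4 : b (f' (a 1)) = 1 := h3.map_one
            rw [h.one] at h4
            have h5 := congrArg a h4
            rw [h.right _ (h2 1 P'.one_mem), h.one] at h5
            exact h5
          map_mul' := by
            intro x y
            show f' (x * y : Ω') = f' x * f' y
            have hx : b x ∈ im P' b := (h.symm.mem_im h1).2 ⟨x, x.2, rfl⟩
            have hy : b y ∈ im P' b := (h.symm.mem_im h1).2 ⟨y, y.2, rfl⟩
            have h4 : b (f' (a (b x * b y))) = b (f' (a (b x))) * b (f' (a (b y))) := h3.map_mul hx hy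
            rw [← h.mul' _ (h1 x.2) _ (h1 y.2), h.right _ (T'.mul_mem (h1 x.2) (h1 y.2)), h.right _ (h1 x.2),
              h.right _ (h1 y.2), ← h.mul' _ (h2 _ x.2) _ (h2 _ y.2)] at h4
            exact h.symm.inj (h2 _ (P'.mul_mem x.2 y.2)) (T'.mul_mem (h2 _ x.2) (h2 _ y.2)) h4 }
      exact ⟨φ', (hH P' φ' f' (fun y => rfl)).2 ⟨h1, h2, h3⟩, fun y => rfl⟩
  refine ⟨E', h, ?_, ?_⟩
  · intro P f hf
    rw [hE']
    refine ⟨h.im_le hf.le, ?_, ?_⟩
    · intro y hy
      exact h.mem _ (hf.mem ((h.mem_im_iff hf.le).1 hy).2)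
    · rw [h.im_im hf.le]
      refine hf.congr fun x hx => ?_
      rw [h.left x (hf.le hx), h.left _ (hf.mem hx)]
  · intro P' f' hf'
    exact ((hE' P' f').1 hf').2.2

end

end H87.Trans
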