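import Cfsg.Agent.Lib.H87.Basic
set_option autoImplicit false

open Cfsg Cfsg.FusionSystem

namespace H87.Cut
open H87.Base H87.Basic

variable {Ω : Type*} [Group Ω] {S T : Subgroup Ω}

/-- A subsystem of `F` over `T ≤ S` cut out by a predicate on maps. -/
theorem exists_cut (F : FusionSystem S) (hTS : T ≤ S) (C : Subgroup Ω → (Ω → Ω) → Prop)
    (hcongr : ∀ P f g, P ≤ T → IsMap F P f → (∀ x ∈ P, f x ∈ T) → (∀ x ∈ P, f x = g x) → C P f → C P g)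
    (hconj : ∀ P, P ≤ T → ∀ g ∈ T, C P (fun x => g * x * g⁻¹))
    (hcomp : ∀ P Q f g, P ≤ T → Q ≤ T → IsMap F P f → IsMap F Q g → (∀ x ∈ P, f x ∈ Q) → (∀ x ∈ Q, g x ∈ T) →
      C P f → C Q g → C P (g ∘ f))
    (hsymm : ∀ P Q f g, P ≤ T → Q ≤ T → IsIso F P Q f → IsIso F Q P g → (∀ x ∈ P, g (f x) = x) →
      (∀ y ∈ Q, f (g y) = y) → C P f → C Q g) :
    ∃ E : FusionSystem T, ∀ P f, IsMap E P f ↔ IsMap F P f ∧ P ≤ T ∧ (∀ x ∈ P, f x ∈ T) ∧ C P f := by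
  let H : (P : Subgroup Ω) → Set (P →* Ω) := fun P => {φ | φ ∈ F.Hom P ∧ P ≤ T ∧ (∀ x : P, φ x ∈ T) ∧ C P (extFun φ)}
  have hH : ∀ (P : Subgroup Ω) (φ : P →* Ω) (f : Ω → Ω), (∀ x : P, φ x = f x) →
      (φ ∈ H P ↔ IsMap F P f ∧ P ≤ T ∧ (∀ x ∈ P, f x ∈ T) ∧ C P f) := by
    intro P φ f e
    constructor
    · rintro ⟨h1, h2, h3, h4⟩
      have h5 : IsMap F P f := ⟨φ, h1, e⟩
      have h6 : ∀ x ∈ P, f x ∈ T := fun x hx => by rw [← e ⟨x, hx⟩]; exact h3 _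
      have h7 : ∀ x ∈ P, extFun φ x = f x := fun x hx => by rw [extFun_apply φ hx, e]
      exact ⟨h5, h2, h6, hcongr _ _ _ h2 (isMap_of_mem h1) (fun x hx => by rw [h7 x hx]; exact h6 x hx) h7 h4⟩
    · rintro ⟨h1, h2, h3, h4⟩
      have h7 : ∀ x ∈ P, f x = extFun φ x := fun x hx => by rw [extFun_apply φ hx, e]
      exact ⟨mem_of_isMap h1 e, h2, fun x => by rw [e]; exact h3 x x.2, hcongr _ _ _ h2 h1 h3 h7 h4⟩
  let E : FusionSystem T :=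
    { Hom := H
      le_of_mem := fun hφ => ⟨hφ.2.1, hφ.2.2.1⟩
      injective_of_mem := fun hφ => F.injective_of_mem hφ.1
      conj_mem := by
        intro P g hP hg
        rw [hH P _ (fun x => g * x * g⁻¹) (fun x => rfl)]
        exact ⟨isMap_conj F (hP.trans hTS) (hTS hg), hP, fun x hx => T.mul_mem (T.mul_mem hg (hP hx)) (T.inv_mem hg),
          hconj P hP g hg⟩
      comp_mem := by
        intro P Q φ ψ hφ hψ hφψ
        rw [hH P _ (extFun ψ ∘ extFun φ) (fun x => by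
          show ψ _ = extFun ψ (extFun φ x)
          rw [extFun_coe φ x, extFun_apply ψ (hφψ x)]; rfl)]
        obtain ⟨h1, h2, h3, h4⟩ := (hH P φ (extFun φ) (fun x => (extFun_coe φ x).symm)).1 hφ
        obtain ⟨k1, k2, k3, k4⟩ := (hH Q ψ (extFun ψ) (fun x => (extFun_coe ψ x).symm)).1 hψ
        have hm : ∀ x ∈ P, extFun φ x ∈ Q := fun x hx => by rw [extFun_apply φ hx]; exact hφψ _
        exact ⟨h1.comp k1 hm, h2, fun x hx => k3 _ (hm x hx), hcomp _ _ _ _ h2 k2 h1 k1 hm k3 h4 k4⟩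
      inv_mem := by
        intro P φ hφ
        obtain ⟨h1, h2, h3, h4⟩ := hφ
        have hr : φ.range ≤ T := by rintro _ ⟨x, rfl⟩; exact h3 x
        obtain ⟨g, hg, g1, g2⟩ := (isIso_of_mem h1).symm
        obtain ⟨ψ, hψ, e, hψr⟩ := hg
        refine ⟨ψ, (hH _ ψ g e).2 ⟨⟨ψ, hψ, e⟩, hr, fun y hy => ?_, hsymm _ _ _ _ h2 hr (isIso_of_mem h1)
          ⟨ψ, hψ, e, hψr⟩ g1 g2 h4⟩, fun x => ?_⟩
        · exact h2 (IsIso.mem (F := F) ⟨ψ, hψ, e, hψr⟩ hy)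
        · rw [e]
          have := g1 x x.2
          rw [extFun_coe] at this
          exact this }
  refine ⟨E, fun P f => ?_⟩
  constructor
  · rintro ⟨φ, hφ, e⟩
    exact (hH P φ f e).1 hφ
  · intro h
    obtain ⟨φ, hφ, e⟩ := h.1
    exact ⟨φ, (hH P φ f e).2 h, e⟩

end H87.Cut
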