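import Cfsg.Agent.Lib.H87.Bridge
import Cfsg.Agent.Lib.H87.Cut
import Cfsg.Agent.Lib.H87.ConstrEq
set_option autoImplicit false

open Cfsg Cfsg.FusionSystem

namespace H87.Crit
open H87.Base H87.Basic H87.Syl H87.Sat H87.Grow H87.ConstrEq H87.Bridge

variable {Ω : Type*} [Group Ω] {S : Subgroup Ω} {F : FusionSystem S} {P Q R R₂ M U X Y : Subgroup Ω}
  {f g h θ σ : Ω → Ω} {p : ℕ}

/-- function attached to an automorphism -/
noncomputable def fn {U : Subgroup Ω} (α : MulAut U) : Ω → Ω := extFun (U.subtype.comp α.toMonoidHom)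

theorem fn_apply (α : MulAut U) {x : Ω} (hx : x ∈ U) : fn α x = ((α ⟨x, hx⟩ : U) : Ω) := extFun_apply _ hx

theorem fn_coe (α : MulAut U) (x : U) : fn α (x : Ω) = ((α x : U) : Ω) := fn_apply α x.2

theorem fn_mem (α : MulAut U) {x : Ω} (hx : x ∈ U) : fn α x ∈ U := by
  rw [fn_apply α hx]; exact (α _).2

theorem fn_mul (α β : MulAut U) {x : Ω} (hx : x ∈ U) : fn (α * β) x = fn α (fn β x) := by
  rw [fn_apply _ hx, fn_apply β hx, fn_coe]; rfl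

theorem fn_one {x : Ω} (hx : x ∈ U) : fn (1 : MulAut U) x = x := by rw [fn_apply _ hx]; rfl

theorem fn_inv_apply (α : MulAut U) {x : Ω} (hx : x ∈ U) : fn α⁻¹ (fn α x) = x := by
  rw [← fn_mul _ _ hx, inv_mul_cancel, fn_one hx]

theorem fn_apply_inv (α : MulAut U) {x : Ω} (hx : x ∈ U) : fn α (fn α⁻¹ x) = x := by
  rw [← fn_mul _ _ hx, mul_inv_cancel, fn_one hx]

theorem fn_iso (hU : U ≤ S) {α : MulAut U} (hα : α ∈ F.autGroup U) : IsIso F U U (fn α) :=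
  isIso_of_mem_autGroup hU hα

theorem fn_aut (h : IsIso F U U f) {x : Ω} (hx : x ∈ U) : fn h.aut x = f x := by
  rw [fn_apply _ hx, IsIso.aut_apply]

theorem fn_ext {α β : MulAut U} (h : ∀ x ∈ U, fn α x = fn β x) : α = β := by
  ext x
  rw [← fn_coe, ← fn_coe]; exact h x x.2

/-- conjugation by `g` as an automorphism of `U` -/
def cj (U : Subgroup Ω) {g : Ω} (hg : g ∈ Subgroup.normalizer (U : Set Ω)) : MulAut U :=
  U.normalizerMonoidHom ⟨g, hg⟩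

theorem fn_cj {g : Ω} (hg : g ∈ Subgroup.normalizer (U : Set Ω)) {x : Ω} (hx : x ∈ U) :
    fn (cj U hg) x = g * x * g⁻¹ := by rw [fn_apply _ hx]; rfl

theorem cj_mem {K : Subgroup Ω} {g : Ω} (hg : g ∈ Subgroup.normalizer (U : Set Ω)) (hK : g ∈ K) :
    cj U hg ∈ autInducedBy K U := mem_autInducedBy.2 ⟨g, hK, fun _ => rfl⟩

theorem fn_autInduced {K : Subgroup Ω} {α : MulAut U} (h : α ∈ autInducedBy K U) :
    ∃ g ∈ K, ∀ x ∈ U, fn α x = g * x * g⁻¹ := by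
  obtain ⟨g, hg, h⟩ := mem_autInducedBy.1 h
  exact ⟨g, hg, fun x hx => by rw [fn_apply _ hx]; exact h ⟨x, hx⟩⟩

theorem mem_autInduced_of_fn {K : Subgroup Ω} {α : MulAut U} {g : Ω} (hg : g ∈ K)
    (h : ∀ x ∈ U, fn α x = g * x * g⁻¹) : α ∈ autInducedBy K U :=
  mem_autInducedBy.2 ⟨g, hg, fun x => by rw [← fn_coe]; exact h x x.2⟩

theorem fn_congrAut (hg : IsIso F R R₂ g) (α : MulAut R) {x : Ω} (hx : x ∈ R) :
    fn (IsIso.congrAut hg α) (g x) = g (fn α x) := by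
  rw [fn_apply _ (hg.mem hx), IsIso.congrAut_apply hg α hx, fn_apply _ hx]

/-- for a nice `U`, a map `θ : R₂ → U` carrying a given `p`-group of automorphisms into `Aut_S(U)`. -/
theorem exists_theta [Fact p.Prime] [Finite S] (hU : IsNice F p U) (hc : F.IsConj R₂ U)
    {V : Subgroup (MulAut R₂)} (hV : V ≤ F.autGroup R₂) (hVp : IsPGroup p V) :
    ∃ θ, IsIso F R₂ U θ ∧ ∀ v ∈ V, ∃ s ∈ S, ∀ x ∈ R₂, θ (fn v x) = s * θ x * s⁻¹ := by
  obtain ⟨ρ, hρ⟩ := isConj_iff.1 hc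
  have hUS : U ≤ S := hρ.le'
  have hUfin : Finite U := finite_of_le hUS
  have hfin : Finite (MulAut U) := finite_mulAut
  have hsyl := (isFullyAutomized_iff.1 hU.1).2
  have h1 : V.map (IsIso.congrAut hρ).toMonoidHom ≤ F.autGroup U := by
    rintro _ ⟨v, hv, rfl⟩
    exact IsIso.congrAut_mem hρ (hV hv)
  obtain ⟨γ, hγ, hγ'⟩ := hsyl.conj h1 (hVp.map _)
  refine ⟨_, hρ.comp (fn_iso hUS hγ), fun v hv => ?_⟩
  obtain ⟨s, hs, hs'⟩ := fn_autInduced (hγ' (IsIso.congrAut hρ v) ⟨v, hv, rfl⟩)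
  refine ⟨s, hs, fun x hx => ?_⟩
  have hx' := hρ.mem hx
  have h2 := hs' (fn γ (ρ x)) (fn_mem γ hx')
  show fn γ (ρ (fn v x)) = s * fn γ (ρ x) * s⁻¹
  rw [← h2, fn_mul _ _ (fn_mem γ hx'), fn_inv_apply γ hx', fn_mul _ _ hx', fn_congrAut hρ v hx]

/-- The basic extension lemma. -/
theorem ext_pair [Fact p.Prime] [Finite S] (hS : IsPGroup p S) (hU : IsNice F p U) (hg : IsIso F R R₂ g)
    (hc : F.IsConj R₂ U) {M L : Subgroup (MulAut R₂)} (hM : M ≤ F.autGroup R₂)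
    (hL : ∀ V, SylIn p V M → autInducedBy Y R₂ ≤ V → ∀ m ∈ M, ∃ v ∈ V, ∃ l ∈ L, m = v * l) (hLM : L ≤ M)
    (hX : X ≤ normalizerIn S R) (hY : Y ≤ normalizerIn S R₂) (hYM : autInducedBy Y R₂ ≤ M)
    (hXM : ∀ x ∈ X, ∃ m ∈ M, ∀ z ∈ R, fn m (g z) = g (x * z * x⁻¹)) :
    ∃ l ∈ L, ∃ θ σ, IsIso F R₂ U θ ∧ IsMap F (R₂ ⊔ Y) θ ∧ IsMap F (R ⊔ X) σ ∧ ∀ z ∈ R, σ z = θ (fn l (g z)) := by
  have hR₂S : R₂ ≤ S := hg.le'
  have hR₂fin : Finite R₂ := finite_of_le hR₂S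
  have hfin : Finite (MulAut R₂) := finite_mulAut
  have hYp : IsPGroup p (autInducedBy Y R₂) := isPGroup_autInducedBy (hS.to_le (hY.trans normalizerIn_le))
  obtain ⟨V, hYV, hV⟩ := exists_sylIn hYM hYp
  obtain ⟨θ, hθ, hθV⟩ := exists_theta hU hc (hV.le.trans hM) hV.isP
  have hθr := (isReceptive_iff.1 hU.2).2
  -- extend θ
  obtain ⟨θ', hθ', hθ'e⟩ := hθr R₂ θ hθ
  have hle1 : R₂ ⊔ Y ≤ nphi S R₂ θ := by
    refine sup_le (le_nphi hθ.isMap) fun y hy => ?_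
    have hyN := hY hy
    obtain ⟨s, hs, hs'⟩ := hθV _ (hYV (cj_mem hyN.2 hy))
    rw [mem_nphi]
    exact ⟨hyN.1, hyN.2, s, hs, fun x hx => by rw [← hs' x hx, fn_cj hyN.2 hx]⟩
  -- D
  have hD : (autInducedBy X R).map (IsIso.congrAut hg).toMonoidHom ≤ M := by
    rintro _ ⟨α, hα, rfl⟩
    obtain ⟨x, hx, hx'⟩ := fn_autInduced hα
    obtain ⟨m, hm, hm'⟩ := hXM x hx
    have : (IsIso.congrAut hg) α = m := by
      refine fn_ext fun z hz => ?_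
      obtain ⟨y, hy, rfl⟩ := hg.surj hz
      rw [fn_congrAut hg α hy, hx' y hy, hm' y hy]
    show (IsIso.congrAut hg) α ∈ M
    rw [this]; exact hm
  have hDp : IsPGroup p ((autInducedBy X R).map (IsIso.congrAut hg).toMonoidHom) :=
    (isPGroup_autInducedBy (hS.to_le (hX.trans normalizerIn_le))).map _
  obtain ⟨m, hm, hmV⟩ := hV.conj hD hDp
  obtain ⟨v, hv, l, hl, hvl⟩ := hL V hV hYV m hm
  have hlV : ∀ d ∈ (autInducedBy X R).map (IsIso.congrAut hg).toMonoidHom, l * d * l⁻¹ ∈ V := by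
    intro d hd
    have h1 := Subgroup.mul_mem _ (Subgroup.mul_mem _ (Subgroup.inv_mem _ hv) (hmV d hd)) hv
    have h2 : v⁻¹ * (m * d * m⁻¹) * v = l * d * l⁻¹ := by rw [hvl]; group
    rwa [h2] at h1
  have hlA : IsIso F R₂ R₂ (fn l) := fn_iso hR₂S (hM (hLM hl))
  have hσi : IsIso F R U (fun z => θ (fn l (g z))) := (hg.comp hlA).comp hθ
  obtain ⟨σ, hσ, hσe⟩ := hθr R _ hσi
  have hle2 : R ⊔ X ≤ nphi S R (fun z => θ (fn l (g z))) := by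
    refine sup_le (le_nphi hσi.isMap) fun x hx => ?_
    have hxN := hX hx
    have hxD : (IsIso.congrAut hg) (cj R hxN.2) ∈ (autInducedBy X R).map (IsIso.congrAut hg).toMonoidHom :=
      ⟨_, cj_mem hxN.2 hx, rfl⟩
    obtain ⟨s, hs, hs'⟩ := hθV _ (hlV _ hxD)
    rw [mem_nphi]
    refine ⟨hxN.1, hxN.2, s, hs, fun z hz => ?_⟩
    have hgz := hg.mem hz
    have h1 := hs' (fn l (g z)) (fn_mem l hgz)
    rw [← h1, fn_mul _ _ (fn_mem l hgz), fn_inv_apply l hgz, fn_mul _ _ hgz, fn_congrAut hg _ hz, fn_cj hxN.2 hz]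
  refine ⟨l, hl, θ', σ, ?_, hθ'.mono hle1, hσ.mono hle2, fun z hz => ?_⟩
  · exact hθ.congr fun x hx => (hθ'e x hx).symm
  · rw [hσe z hz, hθ'e _ (fn_mem l (hg.mem hz))]

/-- automorphisms in `F` of `U` stabilizing `P` -/
def st (F : FusionSystem S) (U P : Subgroup Ω) : Subgroup (MulAut U) where
  carrier := {α | α ∈ F.autGroup U ∧ ∀ x ∈ U, x ∈ P ↔ fn α x ∈ P}
  mul_mem' := by
    rintro α β ⟨h1, h2⟩ ⟨h3, h4⟩
    exact ⟨Subgroup.mul_mem _ h1 h3, fun x hx => by rw [h4 x hx, h2 _ (fn_mem β hx), fn_mul _ _ hx]⟩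
  one_mem' := ⟨Subgroup.one_mem _, fun x hx => by rw [fn_one hx]⟩
  inv_mem' := by
    rintro α ⟨h1, h2⟩
    exact ⟨Subgroup.inv_mem _ h1, fun x hx => by rw [h2 _ (fn_mem α⁻¹ hx), fn_apply_inv α hx]⟩

theorem mem_st {α : MulAut U} : α ∈ st F U P ↔ α ∈ F.autGroup U ∧ ∀ x ∈ U, x ∈ P ↔ fn α x ∈ P := Iff.rfl

/-- a map defined on a subgroup of `N_S(P)` takes values in `N_S(P')`. -/
theorem map_mem_norm [Finite S] (hg : IsMap F X g) (hX : X ≤ normalizerIn S P) (hPX : P ≤ X) (hi : IsIso F P Q g)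
    {x : Ω} (hx : x ∈ X) : g x ∈ normalizerIn S Q := by
  have : Finite Q := finite_of_le hi.le'
  rw [mem_normalizerIn_iff]
  refine ⟨hg.mem hx, fun y hy => ?_⟩
  obtain ⟨z, hz, rfl⟩ := hi.surj hy
  rw [← hg.map_conj hx (hPX hz)]
  exact hi.mem (conj_mem_of_mem_normalizer (hX hx).2 hz)

/-- conjugation by an element of `N_S(P) ∩ N_S(R)` as an element of the stabilizer -/
theorem cj_mem_st (hRS : R ≤ S) {x : Ω} (hxS : x ∈ S) (hxR : x ∈ Subgroup.normalizer (R : Set Ω))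
    (hxP : x ∈ Subgroup.normalizer (P : Set Ω)) : cj R hxR ∈ st F R P := by
  refine ⟨autInducedBy_le_autGroup F hRS (cj_mem hxR hxS), fun y hy => ?_⟩
  rw [fn_cj hxR hy]
  exact Subgroup.mem_normalizer_iff.1 hxP y

theorem autInduced_le_st (hRS : R ≤ S) : autInducedBy (normalizerIn S P ⊓ normalizerIn S R) R ≤ st F R P := by
  intro α hα
  obtain ⟨x, hx, hx'⟩ := fn_autInduced hα
  have : α = cj R hx.2.2 := fn_ext fun y hy => by rw [hx' y hy, fn_cj hx.2.2 hy]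
  rw [this]
  exact cj_mem_st hRS hx.1.1 hx.2.2 hx.1.2

/-- transported conjugation stabilizes `g(P)`. -/
theorem exists_mem_st [Finite S] (hg : IsIso F R R₂ g) (hPR : P ≤ R) (hPQ : IsIso F P Q g) {x : Ω}
    (hx : x ∈ normalizerIn S P ⊓ normalizerIn S R) :
    ∃ m ∈ st F R₂ Q, ∀ z ∈ R, fn m (g z) = g (x * z * x⁻¹) := by
  have hxR := hx.2.2
  refine ⟨(IsIso.congrAut hg) (cj R hxR), ⟨IsIso.congrAut_mem hg (autInducedBy_le_autGroup F hg.le (cj_mem hxR hx.2.1)),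
    fun y hy => ?_⟩, fun z hz => by rw [fn_congrAut hg _ hz, fn_cj hxR hz]⟩
  obtain ⟨z, hz, rfl⟩ := hg.surj hy
  rw [fn_congrAut hg _ hz, fn_cj hxR hz]
  have h1 : ∀ w ∈ R, g w ∈ Q ↔ w ∈ P := by
    intro w hw
    constructor
    · intro h
      obtain ⟨w', hw', e⟩ := hPQ.surj h
      rw [← hg.isMap.inj (hPR hw') hw e]; exact hw'
    · exact fun h => hPQ.mem h
  rw [h1 z hz, h1 _ (conj_mem_of_mem_normalizer hxR hz)]
  exact Subgroup.mem_normalizer_iff.1 hx.1.2 z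

/-- The path lemma. -/
theorem path [Fact p.Prime] [Finite S] (hS : IsPGroup p S) (hU : IsNice F p U) (hg : IsIso F R R₂ g)
    (hc : F.IsConj R₂ U) (hPR : P ≤ R) (hPQ : IsIso F P Q g) :
    ∃ P₃ σ θ, IsMap F (R ⊔ (normalizerIn S P ⊓ normalizerIn S R)) σ ∧ IsIso F P P₃ σ ∧
      IsMap F (R₂ ⊔ (normalizerIn S Q ⊓ normalizerIn S R₂)) θ ∧ IsIso F Q P₃ θ := by
  obtain ⟨l, hl, θ, σ, hθ, hθ', hσ, hσe⟩ := ext_pair hS hU hg hc (M := st F R₂ Q) (L := st F R₂ Q)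
    (X := normalizerIn S P ⊓ normalizerIn S R) (Y := normalizerIn S Q ⊓ normalizerIn S R₂)
    (fun α hα => hα.1) (fun V hV _ m hm => ⟨1, V.one_mem, m, hm, (one_mul m).symm⟩) le_rfl inf_le_right
    inf_le_right (autInduced_le_st hg.le') (fun x hx => exists_mem_st hg hPR hPQ hx)
  have hQR₂ : Q ≤ R₂ := by
    intro y hy
    obtain ⟨x, hx, rfl⟩ := hPQ.surj hy
    exact hg.mem (hPR hx)
  have hθQ := hθ.restrict hQR₂
  refine ⟨img Q θ, σ, θ, hσ, ?_, hθ', hθQ⟩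
  refine (hσ.mono (hPR.trans le_sup_left)).isIso_of ?_ ?_
  · intro x hx
    rw [hσe x (hPR hx)]
    exact hθQ.mem ((hl.2 _ (hg.mem (hPR hx))).1 (hPQ.mem hx))
  · intro y hy
    obtain ⟨z, hz, rfl⟩ := hθQ.surj hy
    have hz' : fn l⁻¹ z ∈ Q := ((Subgroup.inv_mem _ hl : l⁻¹ ∈ st F R₂ Q).2 z (hQR₂ hz)).1 hz
    obtain ⟨x, hx, e⟩ := hPQ.surj hz'
    refine ⟨x, hx, ?_⟩
    rw [hσe x (hPR hx), e, fn_apply_inv l (hQR₂ hz)]

end H87.Crit
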