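import Cfsg.Agent.Lib.H87.Crit1
set_option autoImplicit false

open Cfsg Cfsg.FusionSystem

namespace H87.Crit
open H87.Base H87.Basic H87.Syl H87.Sat H87.Grow H87.ConstrEq H87.Bridge H87.Cut

variable {Ω : Type*} [Group Ω] {S : Subgroup Ω} {F : FusionSystem S} {P Q R R₂ M U X Y P₀ : Subgroup Ω}
  {f g h k θ σ : Ω → Ω} {p : ℕ}

theorem iso_symm_restrict (hk : IsIso F R₂ R k) (hkf : ∀ x ∈ R, k (f x) = x) (hg : IsIso F R R₂ f)
    (hPR : P ≤ R) (hPQ : IsIso F P Q f) : IsIso F Q P k := by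
  have hQ : Q ≤ R₂ := by
    intro y hy
    obtain ⟨x, hx, rfl⟩ := hPQ.surj hy
    exact hg.mem (hPR hx)
  refine (hk.isMap.mono hQ).isIso_of ?_ ?_
  · intro y hy
    obtain ⟨x, hx, rfl⟩ := hPQ.surj hy
    rw [hkf x (hPR hx)]; exact hx
  · intro x hx
    exact ⟨f x, hPQ.mem hx, hkf x (hPR hx)⟩

/-- Generation principle. -/
theorem gen_principle {ℋ : Set (Subgroup Ω)} (hℋconj : ∀ P ∈ ℋ, ∀ Q, F.IsConj P Q → Q ∈ ℋ)
    (hgen : ∀ E : FusionSystem S, (∀ P ∈ ℋ, F.Hom P ⊆ E.Hom P) → F ≤ E)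
    (hP₀ : P₀ ∉ ℋ) (hP₀S : P₀ < S) [Finite S] (W : Subgroup Ω → (Ω → Ω) → Prop)
    (hcongr : ∀ P f g, (∀ x ∈ P, f x = g x) → W P f → W P g)
    (hcomp : ∀ P Q f g, F.IsConj P₀ P → IsIso F P Q f → IsMap F Q g → W P f → W Q g → W P (g ∘ f))
    (hsymm : ∀ P Q f g, F.IsConj P₀ P → IsIso F P Q f → IsIso F Q P g → (∀ x ∈ P, g (f x) = x) →
      (∀ y ∈ Q, f (g y) = y) → W P f → W Q g)
    (hbig : ∀ P R f, F.IsConj P₀ P → P < R → IsMap F R f → W P f) :
    ∀ P f, F.IsConj P₀ P → IsMap F P f → W P f := by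
  obtain ⟨E, hE⟩ := exists_cut F (T := S) le_rfl (fun P f => F.IsConj P₀ P → W P f)
    (fun P f g _ _ _ e h hc => hcongr P f g e (h hc))
    (by
      intro P hP g hg hc
      refine hbig P S _ hc (lt_of_le_of_ne hP ?_) (isMap_conj F le_rfl hg)
      rintro rfl
      have h1 := conj_card hc
      exact hP₀S.ne (Subgroup.eq_of_le_of_card_ge hP₀S.le h1.ge))
    (by
      intro P Q f g hP hQ hf hg hfQ _ hCf hCg hc
      have h1 := hCf hc
      have hi := hf.isIso
      have hc1 := isConj_trans hc hi.isConj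
      have hle : img P f ≤ Q := by
        intro y hy
        obtain ⟨x, hx, rfl⟩ := (mem_img hf).1 hy
        exact hfQ x hx
      refine hcomp P _ f g hc hi (hg.mono hle) h1 ?_
      rcases hle.lt_or_eq with h2 | h2
      · exact hbig _ Q g hc1 h2 hg
      · rw [h2] at hc1 ⊢
        exact hCg hc1)
    (by
      intro P Q f g hP hQ hf hg e1 e2 hCf hc
      have hc1 := isConj_trans hc hg.isConj
      exact hsymm P Q f g hc1 hf hg e1 e2 (hCf hc1))
  have hle : F ≤ E := by
    refine hgen E fun P hP φ hφ => ?_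
    have h1 : IsMap E P (extFun φ) := by
      rw [hE]
      have h2 := isMap_of_mem hφ
      refine ⟨h2, h2.le, fun x hx => h2.mem hx, fun hc => ?_⟩
      exact absurd (hℋconj P hP _ (isConj_symm hc)) hP₀
    exact mem_iff.2 h1
  intro P f hc hf
  obtain ⟨φ, hφ, e⟩ := hf
  exact ((hE P f).1 ⟨φ, hle P hφ, e⟩).2.2.2 hc

/-- `P ⇝ Q` -/
def Reach (F : FusionSystem S) (P Q : Subgroup Ω) : Prop := ∃ g, IsMap F (normalizerIn S P) g ∧ IsIso F P Q g

theorem Reach.refl (hP : P ≤ S) : Reach F P P := ⟨fun x => x, isMap_id F normalizerIn_le, isIso_id F hP⟩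

theorem Reach.trans [Finite S] (h : Reach F P Q) (h' : Reach F Q R) : Reach F P R := by
  obtain ⟨g, hg, hi⟩ := h
  obtain ⟨g', hg', hi'⟩ := h'
  exact ⟨g' ∘ g, hg.comp hg' fun x hx => map_mem_normalizerIn hg hi hx, hi.comp hi'⟩

theorem card_lt_of_lt [Finite S] (h : P < Q) (hQ : Q ≤ S) : Nat.card P < Nat.card Q := by
  have : Finite Q := finite_of_le hQ
  refine lt_of_le_of_ne (Nat.card_le_card_of_injective _ (Subgroup.inclusion_injective h.le)) fun e => ?_
  exact h.ne (Subgroup.eq_of_le_of_card_ge h.le e.ge)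

theorem card_le_of_le [Finite S] (h : P ≤ Q) (hQ : Q ≤ S) : Nat.card P ≤ Nat.card Q := by
  have : Finite Q := finite_of_le hQ
  exact Nat.card_le_card_of_injective _ (Subgroup.inclusion_injective h)

theorem lt_inf [Fact p.Prime] [Finite S] (hS : IsPGroup p S) (h : R < normalizerIn S P) :
    R < normalizerIn S P ⊓ normalizerIn S R := by
  have hfin : Finite (normalizerIn S P) := finite_of_le normalizerIn_le
  have h1 := lt_normalizerIn (hS.to_le (normalizerIn_le (P := P))) h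
  refine lt_of_lt_of_le h1 ?_
  intro x hx
  exact ⟨hx.1, hx.1.1, hx.2⟩

theorem reach_of_edge [Fact p.Prime] [Finite S] (hS : IsPGroup p S)
    (hG : ∀ R, R ≤ S → Nat.card P₀ < Nat.card R → ∃ U, F.IsConj R U ∧ IsNice F p U)
    (hfn : F.IsFullyNormalized P₀) :
    ∀ (m : ℕ) (P Q R : Subgroup Ω) (f : Ω → Ω), Nat.card S - Nat.card R = m → F.IsConj P₀ P → P < R →
      R ≤ normalizerIn S P → IsMap F R f → IsIso F P Q f → Reach F P P₀ → Reach F Q P₀ := by
  intro m
  induction m using Nat.strong_induction_on with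
  | _ m ih =>
  have case1 : ∀ (P Q R : Subgroup Ω) (f : Ω → Ω), Nat.card S - Nat.card R = m → F.IsConj P₀ P → P < R →
      R < normalizerIn S P → IsMap F R f → IsIso F P Q f → img R f < normalizerIn S Q → Reach F P P₀ → Reach F Q P₀ := by
    intro P Q R f hm hcP hPR hRN hf hPQ hR₂ hr
    have hg := hf.isIso
    have hRS : R ≤ S := hf.le
    obtain ⟨U, hU, hUn⟩ := hG (img R f) hg.le' (by
      rw [← hg.card_eq, conj_card hcP]
      exact card_lt_of_lt hPR hRS)
    obtain ⟨P₃, σ, θ, hσ, hσi, hθ, hθi⟩ := path hS hUn hg hU hPR.le hPQ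
    have hA := lt_inf hS hRN
    have hB := lt_inf hS hR₂
    rw [sup_eq_right.2 hA.le] at hσ
    rw [sup_eq_right.2 hB.le] at hθ
    have hAS : Nat.card (normalizerIn S P ⊓ normalizerIn S R : Subgroup Ω) ≤ Nat.card S := card_le_of_le hσ.le le_rfl
    have hAc := card_lt_of_lt hA hσ.le
    have hBS : Nat.card (normalizerIn S Q ⊓ normalizerIn S (img R f) : Subgroup Ω) ≤ Nat.card S :=
      card_le_of_le hθ.le le_rfl
    have hBc := card_lt_of_lt hB hθ.le
    have hcard : Nat.card R = Nat.card (img R f) := hg.card_eq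
    -- first step
    have h1 : Reach F P₃ P₀ := ih _ (by omega) P P₃ _ σ rfl hcP (hPR.trans hA) inf_le_left hσ hσi hr
    -- second step
    have hQR₂ : Q ≤ img R f := by
      intro y hy
      obtain ⟨x, hx, rfl⟩ := hPQ.surj hy
      exact apply_mem_img (hPR.le hx)
    have hθ' := hθ.isIso
    obtain ⟨k, hk, k1, k2⟩ := hθ'.symm
    have hQB := hQR₂.trans hB.le
    have hki := iso_symm_restrict hk k1 hθ' hQB hθi
    have hcP₃ : F.IsConj P₀ P₃ := isConj_trans hcP hσi.isConj
    have hQlt : Q < normalizerIn S Q ⊓ normalizerIn S (img R f) := by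
      refine lt_of_le_of_lt hQR₂ hB
    have hP₃le : P₃ ≤ img (normalizerIn S Q ⊓ normalizerIn S (img R f)) θ := by
      intro y hy
      obtain ⟨x, hx, rfl⟩ := hθi.surj hy
      exact apply_mem_img (hQB hx)
    have hci := hθ'.card_eq
    have hcQ := hθi.card_eq
    refine ih _ ?_ P₃ Q _ k rfl hcP₃ (lt_of_le_of_ne hP₃le fun e => ?_) ?_ hk.isMap hki h1
    · rw [← hci]; omega
    · have h3 := card_lt_of_lt hQlt hθ.le
      rw [← e] at hci
      omega
    · intro y hy
      obtain ⟨x, hx, rfl⟩ := (mem_img hθ).1 hy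
      exact map_mem_norm hθ inf_le_left hQB hθi hx
  intro P Q R f hm hcP hPR hRN hf hPQ hr
  have hg := hf.isIso
  have hR₂N : img R f ≤ normalizerIn S Q := by
    intro y hy
    obtain ⟨x, hx, rfl⟩ := (mem_img hf).1 hy
    exact map_mem_norm hf hRN hPR.le hPQ hx
  rcases hR₂N.lt_or_eq with h2 | h2
  · rcases hRN.lt_or_eq with h1 | h1
    · exact case1 P Q R f hm hcP hPR h1 hf hPQ h2 hr
    · obtain ⟨g, hg', hgi⟩ := hr
      rw [← h1] at hg'
      have hg'' := hg'.isIso
      obtain ⟨k, hk, k1, k2⟩ := hg''.symm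
      have hki := iso_symm_restrict hk k1 hg'' hPR.le hgi
      have hfk : IsMap F (img R g) (f ∘ k) := hk.isMap.comp hf fun x hx => hk.mem hx
      have him : img (img R g) (f ∘ k) = img R f := by
        rw [← H87.Frat.img_img hk.isMap (by rw [hk.eq_img]; exact hf), hk.eq_img]
      have hgN : img R g ≤ normalizerIn S P₀ := by
        intro y hy
        obtain ⟨x, hx, rfl⟩ := (mem_img hg').1 hy
        exact map_mem_norm hg' hRN hPR.le hgi hx
      have hc1 := hg''.card_eq
      have hc2 := hg.card_eq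
      have hc3 := card_lt_of_lt h2 normalizerIn_le
      have hcQ : F.IsConj P₀ Q := isConj_trans hcP hPQ.isConj
      have hc4 := hfn.2 Q hcQ
      refine case1 P₀ Q (img R g) (f ∘ k) (by rw [← hc1]; exact hm) (isConj_refl F hfn.1) ?_ ?_ hfk
        (hki.comp hPQ) (by rw [him]; exact h2) (Reach.refl hfn.1)
      · refine lt_of_le_of_ne ?_ fun e => ?_
        · intro y hy
          obtain ⟨x, hx, rfl⟩ := hgi.surj hy
          exact apply_mem_img (hPR.le hx)
        · have h3 := card_lt_of_lt hPR hf.le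
          have h4 := hgi.card_eq
          rw [← e] at hc1
          omega
      · refine lt_of_le_of_ne hgN fun e => ?_
        rw [e] at hc1
        omega
  · obtain ⟨k, hk, k1, k2⟩ := hg.symm
    have hki := iso_symm_restrict hk k1 hg hPR.le hPQ
    rw [h2] at hk
    exact Reach.trans ⟨k, hk.isMap, hki⟩ hr

end H87.Crit
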