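import Cfsg.Agent.Lib.H87.Crit2
import Cfsg.Agent.Lib.H2.Residual
set_option autoImplicit false

open Cfsg Cfsg.FusionSystem

namespace H87.Crit
open H87.Base H87.Basic H87.Syl H87.Sat H87.Grow H87.ConstrEq H87.Bridge H87.Cut

theorem mul_of_sylow {X : Type*} [Group X] {p : ℕ} [Fact p.Prime] {V M L : Subgroup X} [Finite M] (hV : SylIn p V M)
    (hLM : L ≤ M) (hn : ∀ m ∈ M, ∀ l ∈ L, m * l * m⁻¹ ∈ L) (hp : ∀ m ∈ M, ∃ k : ℕ, m ^ p ^ k ∈ L) :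
    ∀ m ∈ M, ∃ v ∈ V, ∃ l ∈ L, m = v * l := by
  intro m hm
  have hN : (L.subgroupOf M).Normal := ⟨fun l hl m => hn m m.2 l hl⟩
  have hq : IsPGroup p (M ⧸ L.subgroupOf M) := by
    intro x
    obtain ⟨y, rfl⟩ := QuotientGroup.mk_surjective x
    obtain ⟨k, hk⟩ := hp y y.2
    refine ⟨k, ?_⟩
    rw [← QuotientGroup.mk_pow, QuotientGroup.eq_one_iff]
    exact hk
  have h1 := H2.Residual.residual_le_of_isPGroup_quotient (p := p) _ hq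
  have h2 := H2.Residual.sylow_sup_residual hV.toSylow
  have h3 : (⟨m, hm⟩ : M) ∈ (hV.toSylow : Subgroup M) ⊔ L.subgroupOf M := by
    have h4 : (hV.toSylow : Subgroup M) ⊔ pResidual p M ≤ (hV.toSylow : Subgroup M) ⊔ L.subgroupOf M := sup_le_sup_left h1 _
    apply h4
    rw [h2]; exact Subgroup.mem_top _
  rw [Subgroup.mem_sup_of_normal_right] at h3
  obtain ⟨v, hv, l, hl, e⟩ := h3
  exact ⟨v, hv, l, hl, (congrArg Subtype.val e).symm⟩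

variable {Ω : Type*} [Group Ω] {S : Subgroup Ω} {F : FusionSystem S} {P Q R R₂ M U X Y P₀ : Subgroup Ω}
  {f g h k θ σ α : Ω → Ω} {p : ℕ} {K : Subgroup (MulAut P)}

/-- `N_S^K(P)`. -/
def nk (S P : Subgroup Ω) (K : Subgroup (MulAut P)) : Subgroup Ω where
  carrier := {s | s ∈ S ∧ ∃ h : s ∈ Subgroup.normalizer (P : Set Ω), cj P h ∈ K}
  mul_mem' := by
    rintro a b ⟨h1, h2, h3⟩ ⟨h4, h5, h6⟩
    refine ⟨S.mul_mem h1 h4, Subgroup.mul_mem _ h2 h5, ?_⟩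
    have : cj P (Subgroup.mul_mem _ h2 h5) = cj P h2 * cj P h5 := by
      refine fn_ext fun x hx => ?_
      rw [fn_mul _ _ hx, fn_cj h5 hx, fn_cj _ hx, fn_cj h2 (conj_mem_of_mem_normalizer h5 hx)]
      group
    rw [this]; exact Subgroup.mul_mem _ h3 h6
  one_mem' := by
    refine ⟨S.one_mem, Subgroup.one_mem _, ?_⟩
    have : cj P (Subgroup.one_mem _ : (1 : Ω) ∈ Subgroup.normalizer (P : Set Ω)) = 1 := by
      refine fn_ext fun x hx => ?_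
      rw [fn_cj _ hx, fn_one hx]; group
    rw [this]; exact K.one_mem
  inv_mem' := by
    rintro a ⟨h1, h2, h3⟩
    refine ⟨S.inv_mem h1, Subgroup.inv_mem _ h2, ?_⟩
    have : cj P (Subgroup.inv_mem _ h2) = (cj P h2)⁻¹ := by
      rw [eq_inv_iff_mul_eq_one]
      refine fn_ext fun x hx => ?_
      rw [fn_mul _ _ hx, fn_cj h2 hx, fn_cj _ (conj_mem_of_mem_normalizer h2 hx), fn_one hx]; group
    rw [this]; exact K.inv_mem h3

theorem mem_nk {s : Ω} : s ∈ nk S P K ↔ s ∈ S ∧ ∃ h : s ∈ Subgroup.normalizer (P : Set Ω), cj P h ∈ K := Iff.rfl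

theorem nk_le : nk S P K ≤ normalizerIn S P := fun _ hs => ⟨hs.1, hs.2.1⟩

theorem cj_eq_conj (hi : IsIso F P P g) {x : Ω} (hx : x ∈ Subgroup.normalizer (P : Set Ω))
    (hgx : g x ∈ Subgroup.normalizer (P : Set Ω)) (e : ∀ y ∈ P, g (x * y * x⁻¹) = g x * g y * (g x)⁻¹) :
    cj P hgx = hi.aut * cj P hx * hi.aut⁻¹ := by
  rw [eq_mul_inv_iff_mul_eq]
  refine fn_ext fun y hy => ?_
  rw [fn_mul _ _ hy, fn_mul _ _ hy, fn_cj hx hy, fn_aut hi hy, fn_aut hi (conj_mem_of_mem_normalizer hx hy),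
    fn_cj hgx (hi.mem hy), e y hy]

theorem nk_transport [Finite S] (hKn : ∀ a ∈ F.autGroup P, ∀ k ∈ K, a * k * a⁻¹ ∈ K) (hg : IsMap F X g)
    (hX : X ≤ normalizerIn S P) (hPX : P ≤ X) (hi : IsIso F P P g) {x : Ω} (hx : x ∈ X) :
    x ∈ nk S P K ↔ g x ∈ nk S P K := by
  have h1 := hX hx
  have h2 := map_mem_norm hg hX hPX hi hx
  have e : cj P h2.2 = hi.aut * cj P h1.2 * hi.aut⁻¹ :=
    cj_eq_conj hi h1.2 h2.2 fun y hy => hg.map_conj hx (hPX hy)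
  constructor
  · rintro ⟨_, _, h3⟩
    refine ⟨h2.1, h2.2, ?_⟩
    rw [e]; exact hKn _ hi.aut_mem _ h3
  · rintro ⟨_, _, h3⟩
    refine ⟨h1.1, h1.2, ?_⟩
    have h4 := hKn _ (Subgroup.inv_mem _ hi.aut_mem) _ h3
    rw [e] at h4
    have h5 : hi.aut⁻¹ * (hi.aut * cj P h1.2 * hi.aut⁻¹) * hi.aut⁻¹⁻¹ = cj P h1.2 := by group
    rwa [h5] at h4

theorem nk_conj (hKn : ∀ a ∈ F.autGroup P, ∀ k ∈ K, a * k * a⁻¹ ∈ K) (hPS : P ≤ S) {x t : Ω} (hx : x ∈ normalizerIn S P)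
    (ht : t ∈ nk S P K) : x * t * x⁻¹ ∈ nk S P K := by
  obtain ⟨h1, h2, h3⟩ := ht
  refine ⟨S.mul_mem (S.mul_mem hx.1 h1) (S.inv_mem hx.1), Subgroup.mul_mem _ (Subgroup.mul_mem _ hx.2 h2)
    (Subgroup.inv_mem _ hx.2), ?_⟩
  have e : cj P (Subgroup.mul_mem _ (Subgroup.mul_mem _ hx.2 h2) (Subgroup.inv_mem _ hx.2)) = cj P hx.2 * cj P h2 * (cj P hx.2)⁻¹ := by
    rw [eq_mul_inv_iff_mul_eq]
    refine fn_ext fun y hy => ?_
    rw [fn_mul _ _ hy, fn_mul _ _ hy, fn_cj hx.2 hy, fn_cj h2 hy, fn_cj hx.2 (conj_mem_of_mem_normalizer h2 hy),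
      fn_cj _ (conj_mem_of_mem_normalizer hx.2 hy)]
    group
  rw [e]
  exact hKn _ (autInducedBy_le_autGroup F hPS (cj_mem hx.2 hx.1)) _ h3

/-- growth inside `nk`. -/
theorem nk_grow [Fact p.Prime] [Finite S] (hS : IsPGroup p S) (hKn : ∀ a ∈ F.autGroup P, ∀ k ∈ K, a * k * a⁻¹ ∈ K)
    (hPS : P ≤ S) (hR : R ≤ normalizerIn S P) (hn : ¬ nk S P K ≤ R) :
    ∃ t ∈ nk S P K ⊓ normalizerIn S R, t ∉ R := by
  have hB : R ⊔ nk S P K ≤ normalizerIn S P := sup_le hR nk_le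
  have hBS : R ⊔ nk S P K ≤ S := hB.trans normalizerIn_le
  have hfin : Finite (R ⊔ nk S P K : Subgroup Ω) := finite_of_le hBS
  have hlt : R < R ⊔ nk S P K := lt_of_le_of_ne le_sup_left fun e => hn (by rw [e]; exact le_sup_right)
  obtain ⟨z, hz, hzR⟩ := Set.exists_of_ssubset (lt_normalizerIn (hS.to_le hBS) hlt)
  obtain ⟨r, hr, t, ht, rfl⟩ := (mem_sup_of_conj (P := R) (T := nk S P K) fun x hx t ht => nk_conj hKn hPS (hR hx) ht).1 hz.1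
  have hrn : r ∈ Subgroup.normalizer (R : Set Ω) := Subgroup.le_normalizer hr
  refine ⟨t, ⟨ht, ht.1, ?_⟩, fun h => hzR (R.mul_mem hr h)⟩
  have h1 := Subgroup.mul_mem _ (Subgroup.inv_mem _ hrn) hz.2
  have h2 : r⁻¹ * (r * t) = t := by group
  rwa [h2] at h1

/-- Claim C: maps extending beyond `P` extend to `N_S^K(P)`. -/
theorem ek_of_edge [Fact p.Prime] [Finite S] (hS : IsPGroup p S)
    (hG : ∀ R, R ≤ S → Nat.card P < Nat.card R → ∃ U, F.IsConj R U ∧ IsNice F p U)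
    (hreach : ∀ Q, F.IsConj P Q → Reach F Q P)
    (hKA : K ≤ F.autGroup P) (hKn : ∀ a ∈ F.autGroup P, ∀ k ∈ K, a * k * a⁻¹ ∈ K) (hKp : IsPGroup p K)
    (hPK : P ≤ nk S P K) :
    ∀ (m : ℕ) (R : Subgroup Ω) (g : Ω → Ω), Nat.card S - Nat.card (R ⊓ nk S P K : Subgroup Ω) = m → P < R →
      R ≤ normalizerIn S P → IsMap F R g → IsIso F P P g → ∃ h, IsMap F (nk S P K) h ∧ ∀ x ∈ P, h x = g x := by
  have hPS : P ≤ S := hPK.trans (nk_le.trans normalizerIn_le)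
  have hPfin : Finite P := finite_of_le hPS
  intro m
  induction m using Nat.strong_induction_on with
  | _ m ih =>
  intro R g hm hPR hRN hg hgP
  by_cases hnk : nk S P K ≤ R
  · exact ⟨g, hg.mono hnk, fun x _ => rfl⟩
  have hgi := hg.isIso
  set R₂ := img R g with hR₂def
  have hRS : R ≤ S := hg.le
  have hR₂S : R₂ ≤ S := hgi.le'
  have hR₂fin : Finite R₂ := finite_of_le hR₂S
  have hfinM : Finite (MulAut R₂) := finite_mulAut
  have hcR := hgi.card_eq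
  obtain ⟨U, hU, hUn⟩ := hG R₂ hR₂S (by rw [← hcR]; exact card_lt_of_lt hPR hRS)
  have hR₂N : R₂ ≤ normalizerIn S P := by
    intro y hy
    obtain ⟨x, hx, rfl⟩ := (mem_img hg).1 hy
    exact map_mem_norm hg hRN hPR.le hgP hx
  have hPR₂ : P ≤ R₂ := by
    intro y hy
    obtain ⟨x, hx, rfl⟩ := hgP.surj hy
    exact apply_mem_img (hPR.le hx)
  -- the two subgroups of automorphisms
  let M : Subgroup (MulAut R₂) :=
    { carrier := {γ | γ ∈ st F R₂ P ∧ ∃ κ ∈ K, ∀ x ∈ P, fn γ x = fn κ x}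
      mul_mem' := by
        rintro γ δ ⟨h1, κ, hκ, h2⟩ ⟨h3, l, hl, h4⟩
        refine ⟨Subgroup.mul_mem _ h1 h3, κ * l, K.mul_mem hκ hl, fun x hx => ?_⟩
        rw [fn_mul _ _ (hPR₂ hx), h4 x hx, fn_mul _ _ hx, h2 _ (fn_mem l hx)]
      one_mem' := ⟨Subgroup.one_mem _, 1, K.one_mem, fun x hx => by rw [fn_one (hPR₂ hx), fn_one hx]⟩
      inv_mem' := by
        rintro γ ⟨h1, κ, hκ, h2⟩
        refine ⟨Subgroup.inv_mem _ h1, κ⁻¹, K.inv_mem hκ, fun x hx => ?_⟩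
        have h3 := h2 _ (fn_mem κ⁻¹ hx)
        rw [fn_apply_inv κ hx] at h3
        have h4 := fn_inv_apply γ (hPR₂ (fn_mem κ⁻¹ hx))
        rw [h3] at h4
        exact h4 }
  let L : Subgroup (MulAut R₂) :=
    { carrier := {γ | γ ∈ st F R₂ P ∧ ∀ x ∈ P, fn γ x = x}
      mul_mem' := by
        rintro γ δ ⟨h1, h2⟩ ⟨h3, h4⟩
        refine ⟨Subgroup.mul_mem _ h1 h3, fun x hx => ?_⟩
        rw [fn_mul _ _ (hPR₂ hx), h4 x hx, h2 x hx]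
      one_mem' := ⟨Subgroup.one_mem _, fun x hx => by rw [fn_one (hPR₂ hx)]⟩
      inv_mem' := by
        rintro γ ⟨h1, h2⟩
        refine ⟨Subgroup.inv_mem _ h1, fun x hx => ?_⟩
        have h4 := fn_inv_apply γ (hPR₂ hx)
        rw [h2 x hx] at h4
        exact h4 }
  have hmemM : ∀ γ, γ ∈ M ↔ γ ∈ st F R₂ P ∧ ∃ κ ∈ K, ∀ x ∈ P, fn γ x = fn κ x := fun γ => Iff.rfl
  have hmemL : ∀ γ, γ ∈ L ↔ γ ∈ st F R₂ P ∧ ∀ x ∈ P, fn γ x = x := fun γ => Iff.rfl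
  have hLM : L ≤ M := fun γ hγ => ⟨hγ.1, 1, K.one_mem, fun x hx => by rw [fn_one hx]; exact hγ.2 x hx⟩
  have hMP : ∀ γ ∈ M, ∀ x ∈ P, fn γ x ∈ P := fun γ hγ x hx => (hγ.1.2 x (hPR₂ hx)).1 hx
  have hLn : ∀ m ∈ M, ∀ l ∈ L, m * l * m⁻¹ ∈ L := by
    intro m hm l hl
    refine ⟨Subgroup.mul_mem _ (Subgroup.mul_mem _ hm.1 hl.1) (Subgroup.inv_mem _ hm.1), fun x hx => ?_⟩
    have hx2 := hMP _ (M.inv_mem hm) x hx
    rw [fn_mul _ _ (hPR₂ hx), fn_mul _ _ (fn_mem _ (hPR₂ hx)), hl.2 _ hx2, fn_apply_inv m (hPR₂ hx)]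
  have hpow : ∀ γ ∈ M, ∀ κ ∈ K, (∀ x ∈ P, fn γ x = fn κ x) → ∀ n : ℕ, ∀ x ∈ P, fn (γ ^ n) x = fn (κ ^ n) x := by
    intro γ hγ κ hκ e n
    induction n with
    | zero => intro x hx; rw [pow_zero, pow_zero, fn_one (hPR₂ hx), fn_one hx]
    | succ n ihn =>
      intro x hx
      rw [pow_succ', pow_succ', fn_mul _ _ (hPR₂ hx), fn_mul _ _ hx, ihn x hx, e _ (fn_mem _ hx)]
  have hLp : ∀ m ∈ M, ∃ k : ℕ, m ^ p ^ k ∈ L := by
    intro γ hγ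
    obtain ⟨h1, κ, hκ, e⟩ := hγ
    obtain ⟨k, hk⟩ := hKp ⟨κ, hκ⟩
    have hk' : κ ^ p ^ k = 1 := congrArg Subtype.val hk
    refine ⟨k, Subgroup.pow_mem _ h1 _, fun x hx => ?_⟩
    rw [hpow γ ⟨h1, κ, hκ, e⟩ κ hκ e _ x hx, hk', fn_one hx]
  obtain ⟨l, hl, θ, σ, hθ, hθ', hσ, hσe⟩ := ext_pair hS hUn hgi hU (M := M) (L := L)
    (X := nk S P K ⊓ normalizerIn S R) (Y := nk S P K ⊓ normalizerIn S R₂)
    (fun γ hγ => hγ.1.1) (fun V hV _ => mul_of_sylow hV hLM hLn hLp) hLM inf_le_right inf_le_right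
    (by
      intro γ hγ
      obtain ⟨y, hy, hy'⟩ := fn_autInduced hγ
      obtain ⟨hy1, hy2, hy3⟩ := hy.1
      have : γ = cj R₂ hy.2.2 := fn_ext fun x hx => by rw [hy' x hx, fn_cj hy.2.2 hx]
      rw [this]
      exact ⟨cj_mem_st hR₂S hy1 hy.2.2 hy2, cj P hy2, hy3, fun x hx => by rw [fn_cj _ (hPR₂ hx), fn_cj _ hx]⟩)
    (by
      intro x hx
      have hxN : x ∈ normalizerIn S P := nk_le hx.1
      obtain ⟨hx1, hx2, hx3⟩ := hx.1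
      obtain ⟨m, hm, hm'⟩ := exists_mem_st hgi hPR.le hgP ⟨hxN, hx.2⟩
      refine ⟨m, ⟨hm, hgP.aut * cj P hx2 * hgP.aut⁻¹, hKn _ hgP.aut_mem _ hx3, fun y hy => ?_⟩, hm'⟩
      obtain ⟨z, hz, rfl⟩ := hgP.surj hy
      rw [hm' z (hPR.le hz), fn_mul _ _ (hgP.mem hz)]
      have h5 : fn hgP.aut⁻¹ (g z) = z := by
        rw [← fn_aut hgP hz, fn_inv_apply _ hz]
      rw [h5, fn_mul _ _ hz, fn_cj hx2 hz, fn_aut hgP (conj_mem_of_mem_normalizer hx2 hz)])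
  have hl' := (hmemL l).1 hl
  have hθP := hθ.restrict hPR₂
  have hσP : IsIso F P (img P θ) σ := by
    have h1 : ∀ x ∈ P, σ x = θ (g x) := fun x hx => by rw [hσe x (hPR.le hx), hl'.2 _ (hgP.mem hx)]
    exact (hgP.comp hθP).congr fun x hx => (h1 x hx).symm
  obtain ⟨ψ, hψ, hψi⟩ := hreach (img P θ) hθP.isConj
  have hYN : R₂ ⊔ (nk S P K ⊓ normalizerIn S R₂) ≤ normalizerIn S P := sup_le hR₂N (inf_le_left.trans nk_le)
  have hXN : R ⊔ (nk S P K ⊓ normalizerIn S R) ≤ normalizerIn S P := sup_le hRN (inf_le_left.trans nk_le)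
  have hτ := hθ'.comp' hψ fun x hx => map_mem_norm hθ' hYN (hPR₂.trans le_sup_left) hθP hx
  have hτ₂ := hσ.comp' hψ fun x hx => map_mem_norm hσ hXN (hPR.le.trans le_sup_left) hσP hx
  -- sizes
  have himg : img (R ⊓ nk S P K) g = R₂ ⊓ nk S P K := by
    ext y
    rw [mem_img (hg.mono inf_le_left)]
    constructor
    · rintro ⟨x, hx, rfl⟩
      exact ⟨apply_mem_img hx.1, (nk_transport hKn hg hRN hPR.le hgP hx.1).1 hx.2⟩
    · rintro ⟨hy1, hy2⟩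
      obtain ⟨x, hx, rfl⟩ := (mem_img hg).1 hy1
      exact ⟨x, ⟨hx, (nk_transport hKn hg hRN hPR.le hgP hx).2 hy2⟩, rfl⟩
  have hceq : Nat.card (R ⊓ nk S P K : Subgroup Ω) = Nat.card (R₂ ⊓ nk S P K : Subgroup Ω) := by
    have := (hg.mono (inf_le_left : R ⊓ nk S P K ≤ R)).isIso.card_eq
    rw [himg] at this
    exact this
  have hnkS : nk S P K ≤ S := nk_le.trans normalizerIn_le
  have hnk₂ : ¬ nk S P K ≤ R₂ := by
    intro hle
    have h1 : R₂ ⊓ nk S P K = nk S P K := inf_eq_right.2 hle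
    rw [h1] at hceq
    apply hnk
    have hfin : Finite (nk S P K) := finite_of_le hnkS
    have h2 : R ⊓ nk S P K = nk S P K := Subgroup.eq_of_le_of_card_ge inf_le_right hceq.ge
    rw [← h2]; exact inf_le_left
  have hsize : ∀ R' : Subgroup Ω, R' ≤ normalizerIn S P → ¬ nk S P K ≤ R' →
      Nat.card (R' ⊓ nk S P K : Subgroup Ω) <
        Nat.card ((R' ⊔ (nk S P K ⊓ normalizerIn S R')) ⊓ nk S P K : Subgroup Ω) := by
    intro R' hR' hn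
    obtain ⟨t, ht, htR⟩ := nk_grow hS hKn hPS hR' hn
    refine card_lt_of_lt (lt_of_le_of_ne (inf_le_inf_right _ le_sup_left) fun e => htR ?_) (inf_le_right.trans hnkS)
    have h1 : t ∈ (R' ⊔ (nk S P K ⊓ normalizerIn S R')) ⊓ nk S P K :=
      ⟨(le_sup_right : nk S P K ⊓ normalizerIn S R' ≤ _) ht, ht.1⟩
    rw [← e] at h1
    exact h1.1
  have hb1 := hsize R hRN hnk
  have hb2 := hsize R₂ hR₂N hnk₂
  have hb3 : Nat.card ((R ⊔ (nk S P K ⊓ normalizerIn S R)) ⊓ nk S P K : Subgroup Ω) ≤ Nat.card S :=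
    card_le_of_le (inf_le_right.trans hnkS) le_rfl
  have hb4 : Nat.card ((R₂ ⊔ (nk S P K ⊓ normalizerIn S R₂)) ⊓ nk S P K : Subgroup Ω) ≤ Nat.card S :=
    card_le_of_le (inf_le_right.trans hnkS) le_rfl
  have hPltR₂ : P < R₂ := lt_of_le_of_ne hPR₂ fun e => by
    have h1 := card_lt_of_lt hPR hRS
    rw [← e] at hcR; omega
  obtain ⟨h₁, hh₁, e₁⟩ := ih _ (by omega) _ _ rfl (lt_of_lt_of_le hPltR₂ le_sup_left) hYN hτ (hθP.comp hψi)
  obtain ⟨h₂, hh₂, e₂⟩ := ih _ (by omega) _ _ rfl (lt_of_lt_of_le hPR le_sup_left) hXN hτ₂ (hσP.comp hψi)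
  have hi₁ : IsIso F P P h₁ := (hθP.comp hψi).congr fun x hx => (e₁ x hx).symm
  have hh₁i : IsIso F (nk S P K) (nk S P K) h₁ :=
    isIso_of_self hh₁ fun x hx => (nk_transport hKn hh₁ nk_le hPK hi₁ hx).1 hx
  have hi₂ : IsIso F P P h₂ := (hσP.comp hψi).congr fun x hx => (e₂ x hx).symm
  obtain ⟨k₁, hk₁, ke, -⟩ := hh₁i.symm
  refine ⟨k₁ ∘ h₂, hh₂.comp hk₁.isMap fun x hx => (nk_transport hKn hh₂ nk_le hPK hi₂ hx).1 hx, fun x hx => ?_⟩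
  have h3 : h₂ x = h₁ (g x) := by
    rw [e₂ x hx, e₁ _ (hgP.mem hx), hσe x (hPR.le hx), hl'.2 _ (hgP.mem hx)]
  show k₁ (h₂ x) = g x
  rw [h3, ke _ (hPK (hgP.mem hx))]

end H87.Crit
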