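import Cfsg.Agent.Lib.H87.Grow
import Cfsg.Agent.Lib.H86.FusSat
set_option autoImplicit false

open Cfsg Cfsg.FusionSystem

namespace H87.Stancu
open H87.Base H87.Basic H87.Syl H87.Sat H87.Grow

variable {Ω : Type*} [Group Ω] {S T : Subgroup Ω} {F : FusionSystem S}
  {P Q R : Subgroup Ω} {f g h a : Ω → Ω} {p : ℕ}

/-- In a finite group, an element whose image under a map has `p`-power order may be replaced by a power that has
itself `p`-power order: arithmetic form. -/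
theorem exists_exponent [Fact p.Prime] (n a : ℕ) (hn : 0 < n) :
    ∃ k : ℕ, k ≡ 1 [MOD p ^ a] ∧ ∃ b, n ∣ k * p ^ b := by
  obtain ⟨b, m, hm, hnm⟩ := Nat.exists_eq_pow_mul_and_not_dvd hn.ne' p (Fact.out : p.Prime).ne_one
  have hcop : Nat.Coprime (p ^ a) m := Nat.Coprime.pow_left _ ((Fact.out : p.Prime).coprime_iff_not_dvd.2 hm)
  obtain ⟨k, hk1, hk2⟩ := Nat.chineseRemainder hcop 1 0
  refine ⟨k, hk1, b, ?_⟩
  rw [hnm, mul_comm]
  exact Nat.mul_dvd_mul_right ((Nat.modEq_zero_iff_dvd).1 hk2) _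

theorem pow_eq_of_modEq {X : Type*} [Group X] {x : X} {n k : ℕ} (hx : x ^ n = 1) (hk : k ≡ 1 [MOD n]) : x ^ k = x := by
  have h1 : orderOf x ∣ n := orderOf_dvd_of_pow_eq_one hx
  have h2 : x ^ k = x ^ 1 := (pow_eq_pow_iff_modEq).2 (hk.of_dvd h1)
  rw [h2, pow_one]

/-- powers of an automorphism as a function -/
theorem pow_restrict {N Q : Subgroup Ω} (hQN : Q ≤ N) {ψ : MulAut N} {φ : MulAut Q}
    (h : ∀ x : Q, ((ψ (Subgroup.inclusion hQN x) : N) : Ω) = ((φ x : Q) : Ω)) (k : ℕ) :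
    ∀ x : Q, (((ψ ^ k) (Subgroup.inclusion hQN x) : N) : Ω) = (((φ ^ k) x : Q) : Ω) := by
  induction k with
  | zero => intro x; rfl
  | succ k ih =>
    intro x
    rw [pow_succ, pow_succ, MulAut.mul_apply, MulAut.mul_apply]
    have : ψ (Subgroup.inclusion hQN x) = Subgroup.inclusion hQN (φ x) := Subtype.ext (h x)
    rw [this, ih]

theorem fullyAutomized_of_stancu [Fact p.Prime] [Finite S] (hS : IsPGroup p S) (h1 : F.IsFullyAutomized p S)
    (h2 : ∀ P : Subgroup Ω, F.IsFullyNormalized P → F.IsReceptive P) (hQ : F.IsFullyNormalized Q) :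
    F.IsFullyAutomized p Q := by
  obtain ⟨n, hn⟩ : ∃ n, Nat.card S - Nat.card Q = n := ⟨_, rfl⟩
  induction n using Nat.strong_induction_on generalizing Q with
  | _ n ih =>
  have hQS := hQ.1
  by_cases hQeq : Q = S
  · rw [hQeq]; exact h1
  have hQlt : Q < S := lt_of_le_of_ne hQS hQeq
  rw [isFullyAutomized_iff]
  refine ⟨hQS, ?_⟩
  have : Finite Q := finite_of_le hQS
  have : Finite (MulAut Q) := finite_mulAut
  obtain ⟨T, hT1, hT2⟩ := exists_sylIn (autInducedBy_le_autGroup F hQS) (isPGroup_autInducedBy (P := Q) hS)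
  by_cases hTeq : autInducedBy S Q = T
  · rw [hTeq]; exact hT2
  exfalso
  have hTlt : autInducedBy S Q < T := lt_of_le_of_ne hT1 hTeq
  obtain ⟨-, φ, hφ, hφn⟩ := SetLike.lt_iff_le_and_exists.1 (lt_normalizerIn hT2.isP hTlt)
  have hφT : φ ∈ T := hφ.1
  have hφF : φ ∈ F.autGroup Q := hT2.le hφT
  have hφi := isIso_of_mem_autGroup hQS hφF
  obtain ⟨e, he⟩ := hT2.isP ⟨φ, hφT⟩
  have hφe : φ ^ p ^ e = 1 := congrArg Subtype.val he
  -- extend φ to N = N_S(Q)
  set N := normalizerIn S Q with hN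
  have hQN : Q ≤ N := le_normalizerIn hQS
  obtain ⟨g, hg, hgφ⟩ := (isReceptive_iff.1 (h2 Q hQ)).2 Q _ hφi
  have hNle : N ≤ nphi S Q (extFun (Q.subtype.comp φ.toMonoidHom)) := by
    intro y hy
    rw [mem_nphi]
    refine ⟨hy.1, hy.2, ?_⟩
    have hconj : ∀ x ∈ Q, y * x * y⁻¹ ∈ Q := fun x hx => conj_mem_of_mem_normalizer hy.2 hx
    let cy : MulAut Q := Q.normalizerMonoidHom ⟨y, hy.2⟩
    have hcy : ∀ x : Q, ((cy x : Q) : Ω) = y * x * y⁻¹ := fun x => rfl
    have hcy' : cy ∈ autInducedBy S Q := mem_autInducedBy.2 ⟨y, hy.1, hcy⟩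
    have h3 : φ * cy * φ⁻¹ ∈ autInducedBy S Q := conj_mem_of_mem_normalizer hφ.2 hcy'
    obtain ⟨h, hh, h4⟩ := mem_autInducedBy.1 h3
    refine ⟨h, hh, fun x hx => ?_⟩
    rw [extFun_apply _ hx, extFun_apply _ (hconj x hx)]
    have h5 := h4 (φ ⟨x, hx⟩)
    rw [MulAut.mul_apply, MulAut.mul_apply, MulAut.inv_apply_self] at h5
    exact h5
  have hgN := hg.mono hNle
  have hNS : N ≤ S := normalizerIn_le
  have : Finite N := finite_of_le hNS
  have : Finite (MulAut N) := finite_mulAut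
  -- g is an automorphism of N
  have hgNi : IsIso F N N g := by
    have hle : img N g ≤ N := by
      intro z hz
      obtain ⟨y, hy, rfl⟩ := (mem_img hgN).1 hz
      rw [hN, mem_normalizerIn_iff]
      refine ⟨hgN.mem hy, fun x hx => ?_⟩
      obtain ⟨w, hw, rfl⟩ := hφi.surj hx
      rw [← hgφ w hw, ← hgN.map_conj hy (hQN hw), hgφ _ (conj_mem_of_mem_normalizer hy.2 hw)]
      exact hφi.mem (conj_mem_of_mem_normalizer hy.2 hw)
    rw [isIso_iff]
    exact ⟨hgN, Subgroup.eq_of_le_of_card_ge hle (le_of_eq hgN.isIso.card_eq)⟩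
  set ψ := hgNi.aut with hψ
  have hψF : ψ ∈ F.autGroup N := hgNi.aut_mem
  have hψφ : ∀ x : Q, ((ψ (Subgroup.inclusion hQN x) : N) : Ω) = ((φ x : Q) : Ω) := by
    intro x
    rw [hψ, hgNi.aut_apply]
    show g (x : Ω) = _
    rw [hgφ x x.2, extFun_coe]
    rfl
  -- replace by a p-element
  obtain ⟨k, hk1, b, hk2⟩ := exists_exponent (p := p) (orderOf ψ) e (orderOf_pos ψ)
  have hψk : (ψ ^ k) ^ p ^ b = 1 := by
    rw [← pow_mul]
    exact orderOf_dvd_iff_pow_eq_one.1 hk2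
  have hψkφ : ∀ x : Q, (((ψ ^ k) (Subgroup.inclusion hQN x) : N) : Ω) = ((φ x : Q) : Ω) := by
    intro x
    rw [pow_restrict hQN hψφ, pow_eq_of_modEq hφe hk1]
  have hψkF : ψ ^ k ∈ F.autGroup N := Subgroup.pow_mem _ hψF k
  -- fully normalized conjugate of N
  obtain ⟨N', hNN', hN'⟩ := H86.FusSat.exists_fullyNormalized F hNS
  have hlt : Q < N := lt_normalizerIn hS hQlt
  have hcardlt : Nat.card Q < Nat.card N := by
    refine lt_of_le_of_ne (Nat.card_le_card_of_injective _ (Subgroup.inclusion_injective hQN)) fun e => ?_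
    exact hlt.ne (Subgroup.eq_of_le_of_card_ge hQN e.ge)
  have hcN' : Nat.card N' = Nat.card N := (conj_card hNN').symm
  have hcS : Nat.card N' ≤ Nat.card S := Nat.card_le_card_of_injective _ (Subgroup.inclusion_injective hN'.1)
  have hN'a : F.IsFullyAutomized p N' := ih (Nat.card S - Nat.card N') (by omega) hN' rfl
  obtain ⟨σ, hσ⟩ := isConj_iff.1 hNN'
  have : Finite N' := finite_of_le hN'.1
  have : Finite (MulAut N') := finite_mulAut
  -- conjugate σ ψ^k σ⁻¹ into Aut_S(N')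
  let B : Subgroup (MulAut N') := Subgroup.zpowers (IsIso.congrAut hσ (ψ ^ k))
  have hB1 : B ≤ F.autGroup N' := by
    rw [Subgroup.zpowers_le]
    exact IsIso.congrAut_mem hσ hψkF
  have hB2 : IsPGroup p B := by
    rintro ⟨x, hx⟩
    obtain ⟨i, rfl⟩ := Subgroup.mem_zpowers_iff.1 hx
    refine ⟨b, Subtype.ext ?_⟩
    show (IsIso.congrAut hσ (ψ ^ k) ^ i) ^ p ^ b = 1
    rw [← zpow_natCast, zpow_comm, zpow_natCast, ← map_pow, hψk, map_one, one_zpow]
  obtain ⟨β, hβ, hβc⟩ := (isFullyAutomized_iff.1 hN'a).2.conj hB1 hB2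
  obtain ⟨s, hs, hs'⟩ := mem_autInducedBy.1 (hβc _ (Subgroup.mem_zpowers _))
  -- σ' = β σ
  have hβi := isIso_of_mem_autGroup hN'.1 hβ
  have hσ' := hσ.comp hβi
  set σ' := extFun (N'.subtype.comp β.toMonoidHom) ∘ σ with hσ'def
  have hkey : ∀ x (hx : x ∈ N), σ' (((ψ ^ k) ⟨x, hx⟩ : N) : Ω) = s * σ' x * s⁻¹ := by
    intro x hx
    have h3 := hs' (β ⟨σ x, hσ.mem hx⟩)
    rw [MulAut.mul_apply, MulAut.mul_apply, MulAut.inv_apply_self] at h3
    simp only [hσ'def, Function.comp_apply]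
    rw [extFun_apply _ (hσ.mem hx), extFun_apply _ (hσ.mem ((ψ ^ k) ⟨x, hx⟩).2)]
    refine Eq.trans ?_ h3
    show ((β _ : N') : Ω) = _
    congr 2
    exact Subtype.ext (IsIso.congrAut_apply hσ _ hx).symm
  -- σ'(Q)
  have hσQ := hσ'.restrict hQN
  have hNQ' : normalizerIn S (img Q σ') = N' := by
    have hle : N' ≤ normalizerIn S (img Q σ') := by
      intro z hz
      obtain ⟨y, hy, rfl⟩ := hσ'.surj hz
      have : Finite (img Q σ') := finite_of_le hσQ.le'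
      rw [mem_normalizerIn_iff]
      refine ⟨hσ'.isMap.mem hy, fun x hx => ?_⟩
      obtain ⟨w, hw, rfl⟩ := hσQ.surj hx
      rw [← hσ'.isMap.map_conj hy (hQN hw)]
      exact apply_mem_img (conj_mem_of_mem_normalizer hy.2 hw)
    have : Finite (normalizerIn S (img Q σ')) := finite_of_le normalizerIn_le
    have h3 := hQ.2 _ hσQ.isConj
    exact (Subgroup.eq_of_le_of_card_ge hle (h3.trans hcN'.ge)).symm
  have hsN' : s ∈ N' := by
    rw [← hNQ']
    have : Finite (img Q σ') := finite_of_le hσQ.le'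
    rw [mem_normalizerIn_iff]
    refine ⟨hs, fun x hx => ?_⟩
    obtain ⟨w, hw, rfl⟩ := hσQ.surj hx
    rw [← hkey w (hQN hw)]
    have h3 := hψkφ ⟨w, hw⟩
    have h4 : (((ψ ^ k) ⟨w, hQN hw⟩ : N) : Ω) = ((φ ⟨w, hw⟩ : Q) : Ω) := h3
    rw [h4]
    exact apply_mem_img (φ _).2
  obtain ⟨t, ht, rfl⟩ := hσ'.surj hsN'
  apply hφn
  rw [mem_autInducedBy]
  refine ⟨t, hNS ht, fun x => ?_⟩
  have hx := hQN x.2
  have h3 := hkey x hx
  rw [← hσ'.isMap.map_conj ht hx] at h3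
  have h4 := hσ'.isMap.inj ((ψ ^ k) ⟨x, hx⟩).2 (N.mul_mem (N.mul_mem ht hx) (N.inv_mem ht)) h3
  rw [← h4]
  exact (hψkφ x).symm

end H87.Stancu
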