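import Cfsg.Agent.Lib.H87.Crit3
import Cfsg.Agent.Lib.H87.Stancu
import Cfsg.Agent.Lib.H89.NonCentric
import Cfsg.Agent.Lib.H1.Cores
set_option autoImplicit false

open Cfsg Cfsg.FusionSystem

namespace H87.Crit
open H87.Base H87.Basic H87.Syl H87.Sat H87.Grow H87.ConstrEq H87.Bridge H87.Cut

variable {Ω : Type*} [Group Ω] {S : Subgroup Ω} {F : FusionSystem S} {P Q R R₂ M U X Y P₀ : Subgroup Ω}
  {f g h k θ σ α : Ω → Ω} {p : ℕ}

/-- Claim D: an automorphism of `P` extending to `R ≥ P C_S(P)`, `R > P`, extends to `N_α`. -/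
theorem ext_full [Fact p.Prime] [Finite S] (hS : IsPGroup p S)
    (hG : ∀ R, R ≤ S → Nat.card P < Nat.card R → ∃ U, F.IsConj R U ∧ IsNice F p U)
    (hreach : ∀ Q, F.IsConj P Q → Reach F Q P) (hα : IsIso F P P α) :
    ∀ (m : ℕ) (R : Subgroup Ω) (g : Ω → Ω), Nat.card S - Nat.card R = m → P < R → centralizerIn S P ≤ R →
      R ≤ normalizerIn S P → IsMap F R g → (∀ x ∈ P, g x = α x) → ∃ h, IsMap F (nphi S P α) h ∧ ∀ x ∈ P, h x = α x := by
  have hPS : P ≤ S := hα.le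
  have hPfin : Finite P := finite_of_le hPS
  intro m
  induction m using Nat.strong_induction_on with
  | _ m ih =>
  intro R g hm hPR hCR hRN hg hgα
  have hgP : IsIso F P P g := hα.congr fun x hx => (hgα x hx).symm
  have hRle : R ≤ nphi S P α := by
    intro x hx
    rw [mem_nphi]
    refine ⟨(hRN hx).1, (hRN hx).2, g x, hg.mem hx, fun y hy => ?_⟩
    rw [← hgα _ (conj_mem_of_mem_normalizer (hRN hx).2 hy), hg.map_conj hx (hPR.le hy), hgα y hy]
  rcases hRle.lt_or_eq with hlt | heq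
  swap
  · rw [← heq]; exact ⟨g, hg, hgα⟩
  have hgi := hg.isIso
  set R₂ := img R g with hR₂def
  have hRS : R ≤ S := hg.le
  have hR₂S : R₂ ≤ S := hgi.le'
  have hR₂fin : Finite R₂ := finite_of_le hR₂S
  have hfinM : Finite (MulAut R₂) := finite_mulAut
  have hcR := hgi.card_eq
  obtain ⟨U, hU, hUn⟩ := hG R₂ hR₂S (by rw [← hcR]; exact card_lt_of_lt hPR hRS)
  have hR₂N : R₂ ≤ normalizerIn S P := by
    intro y hy
    obtain ⟨x, hx, rfl⟩ := (mem_img hg).1 hy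
    exact map_mem_norm hg hRN hPR.le hgP hx
  have hPR₂ : P ≤ R₂ := by
    intro y hy
    obtain ⟨x, hx, rfl⟩ := hgP.surj hy
    exact apply_mem_img (hPR.le hx)
  -- `C_S(P)` under `g`
  have hgC : ∀ c ∈ centralizerIn S P, g c ∈ centralizerIn S P := by
    intro c hc
    rw [mem_centralizerIn] at hc ⊢
    have hcR' : c ∈ R := hCR (mem_centralizerIn.2 hc)
    refine ⟨hg.mem hcR', fun y hy => ?_⟩
    obtain ⟨z, hz, rfl⟩ := hgP.surj hy
    rw [← hg.map_mul (hPR.le hz) hcR', hc.2 z hz, hg.map_mul hcR' (hPR.le hz)]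
  have hCi : IsIso F (centralizerIn S P) (centralizerIn S P) g := isIso_of_self (hg.mono hCR) hgC
  have hCR₂ : centralizerIn S P ≤ R₂ := by
    intro y hy
    obtain ⟨x, hx, rfl⟩ := hCi.surj hy
    exact apply_mem_img (hCR hx)
  let M : Subgroup (MulAut R₂) :=
    { carrier := {γ | γ ∈ st F R₂ P ∧ ∃ y ∈ normalizerIn S P ⊓ normalizerIn S R₂, ∀ x ∈ P, fn γ x = y * x * y⁻¹}
      mul_mem' := by
        rintro γ δ ⟨h1, κ, hκ, h2⟩ ⟨h3, l, hl, h4⟩
        refine ⟨Subgroup.mul_mem _ h1 h3, κ * l, Subgroup.mul_mem _ hκ hl, fun x hx => ?_⟩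
        rw [fn_mul _ _ (hPR₂ hx), h4 x hx, h2 _ (conj_mem_of_mem_normalizer hl.1.2 hx)]
        group
      one_mem' := ⟨Subgroup.one_mem _, 1, Subgroup.one_mem _, fun x hx => by rw [fn_one (hPR₂ hx)]; group⟩
      inv_mem' := by
        rintro γ ⟨h1, κ, hκ, h2⟩
        have hκi := Subgroup.inv_mem _ hκ
        refine ⟨Subgroup.inv_mem _ h1, κ⁻¹, hκi, fun x hx => ?_⟩
        have hx' : κ⁻¹ * x * κ⁻¹⁻¹ ∈ P := conj_mem_of_mem_normalizer hκi.1.2 hx
        have h3 := h2 _ hx'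
        have h5 : κ * (κ⁻¹ * x * κ⁻¹⁻¹) * κ⁻¹ = x := by group
        rw [h5] at h3
        have h4 := fn_inv_apply γ (hPR₂ hx')
        rw [h3] at h4
        exact h4 }
  let L : Subgroup (MulAut R₂) :=
    { carrier := {γ | γ ∈ st F R₂ P ∧ ∀ x ∈ P, fn γ x = x}
      mul_mem' := by
        rintro γ δ ⟨h1, h2⟩ ⟨h3, h4⟩
        refine ⟨Subgroup.mul_mem _ h1 h3, fun x hx => ?_⟩
        rw [fn_mul _ _ (hPR₂ hx), h4 x hx, h2 x hx]
      one_mem' := ⟨Subgroup.one_mem _, fun x hx => by rw [fn_one (hPR₂ hx)]⟩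
      inv_mem' := by
        rintro γ ⟨h1, h2⟩
        refine ⟨Subgroup.inv_mem _ h1, fun x hx => ?_⟩
        have h4 := fn_inv_apply γ (hPR₂ hx)
        rw [h2 x hx] at h4
        exact h4 }
  have hLM : L ≤ M := fun γ hγ => ⟨hγ.1, 1, Subgroup.one_mem _, fun x hx => by rw [hγ.2 x hx]; group⟩
  -- elements of `N_α ∩ N(R)` and their partners
  have hpart : ∀ x ∈ nphi S P α ⊓ normalizerIn S R, ∃ s ∈ normalizerIn S P ⊓ normalizerIn S R₂, ∀ y ∈ P,
      α (x * y * x⁻¹) = s * α y * s⁻¹ := by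
    intro x hx
    obtain ⟨hxS, hxP, s, hs, hs'⟩ := mem_nphi.1 hx.1
    have hsP : s ∈ Subgroup.normalizer (P : Set Ω) := by
      rw [mem_normalizer_iff_of_finite]
      intro z hz
      obtain ⟨y, hy, rfl⟩ := hα.surj hz
      rw [← hs' y hy]
      exact hα.mem (conj_mem_of_mem_normalizer hxP hy)
    refine ⟨s, ⟨⟨hs, hsP⟩, hs, ?_⟩, hs'⟩
    show s ∈ Subgroup.normalizer (R₂ : Set Ω)
    rw [mem_normalizer_iff_of_finite]
    intro r' hr'
    obtain ⟨r, hr, rfl⟩ := (mem_img hg).1 hr'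
    have hxr : x * r * x⁻¹ ∈ R := conj_mem_of_mem_normalizer hx.2.2 hr
    have hw : (g (x * r * x⁻¹))⁻¹ * (s * g r * s⁻¹) ∈ centralizerIn S P := by
      rw [mem_centralizerIn]
      refine ⟨S.mul_mem (S.inv_mem (hg.mem hxr)) (S.mul_mem (S.mul_mem hs (hg.mem hr)) (S.inv_mem hs)), fun z hz => ?_⟩
      -- z = α (x y x⁻¹)
      obtain ⟨y₁, hy₁, rfl⟩ := hα.surj hz
      have hy₂ : x⁻¹ * y₁ * x ∈ P := by
        have := conj_mem_of_mem_normalizer (Subgroup.inv_mem _ hxP) hy₁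
        rwa [inv_inv] at this
      obtain ⟨y, hy⟩ : ∃ y, y = x⁻¹ * y₁ * x := ⟨_, rfl⟩
      have hyP : y ∈ P := by rw [hy]; exact hy₂
      have hy₁' : y₁ = x * y * x⁻¹ := by rw [hy]; group
      have hrN := (hRN hr).2
      have hry : r * y * r⁻¹ ∈ P := conj_mem_of_mem_normalizer hrN hyP
      have e1 : s * g r * s⁻¹ * α y₁ * (s * g r * s⁻¹)⁻¹ = α (x * (r * y * r⁻¹) * x⁻¹) := by
        rw [hy₁', hs' y hyP, hs' _ hry, ← hgα _ hry, hg.map_conj hr (hPR.le hyP), hgα y hyP]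
        group
      have e2 : g (x * r * x⁻¹) * α y₁ * (g (x * r * x⁻¹))⁻¹ = α (x * (r * y * r⁻¹) * x⁻¹) := by
        rw [← hgα _ hy₁, ← hg.map_conj hxr (hPR.le hy₁), hy₁']
        have h3 : x * r * x⁻¹ * (x * y * x⁻¹) * (x * r * x⁻¹)⁻¹ = x * (r * y * r⁻¹) * x⁻¹ := by group
        rw [h3, hgα _ (conj_mem_of_mem_normalizer hxP hry)]
      have e3 : s * g r * s⁻¹ * α y₁ * (s * g r * s⁻¹)⁻¹ = g (x * r * x⁻¹) * α y₁ * (g (x * r * x⁻¹))⁻¹ := by
        rw [e1, e2]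
      calc α y₁ * ((g (x * r * x⁻¹))⁻¹ * (s * g r * s⁻¹))
          = (g (x * r * x⁻¹))⁻¹ * (g (x * r * x⁻¹) * α y₁ * (g (x * r * x⁻¹))⁻¹) * (s * g r * s⁻¹) := by group
        _ = (g (x * r * x⁻¹))⁻¹ * (s * g r * s⁻¹ * α y₁ * (s * g r * s⁻¹)⁻¹) * (s * g r * s⁻¹) := by rw [e3]
        _ = _ := by group
    have h5 := R₂.mul_mem (apply_mem_img hxr : g (x * r * x⁻¹) ∈ R₂) (hCR₂ hw)
    have h6 : g (x * r * x⁻¹) * ((g (x * r * x⁻¹))⁻¹ * (s * g r * s⁻¹)) = s * g r * s⁻¹ := by group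
    rwa [h6] at h5
  obtain ⟨l, hl, θ, σ, hθ, hθ', hσ, hσe⟩ := ext_pair hS hUn hgi hU (M := M) (L := L)
    (X := nphi S P α ⊓ normalizerIn S R) (Y := normalizerIn S P ⊓ normalizerIn S R₂)
    (fun γ hγ => hγ.1.1)
    (by
      intro V hV hYV m hm
      obtain ⟨hm1, y, hy, hy'⟩ := hm
      have hv := hYV (cj_mem hy.2.2 hy)
      refine ⟨_, hv, (cj R₂ hy.2.2)⁻¹ * m, ⟨Subgroup.mul_mem _ (Subgroup.inv_mem _ (cj_mem_st hR₂S hy.1.1 hy.2.2 hy.1.2)) hm1,
        fun x hx => ?_⟩, by group⟩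
      rw [fn_mul _ _ (hPR₂ hx), hy' x hx, ← fn_cj hy.2.2 (hPR₂ hx), fn_inv_apply _ (hPR₂ hx)])
    hLM inf_le_right inf_le_right
    (by
      intro γ hγ
      obtain ⟨y, hy, hy'⟩ := fn_autInduced hγ
      have : γ = cj R₂ hy.2.2 := fn_ext fun x hx => by rw [hy' x hx, fn_cj hy.2.2 hx]
      rw [this]
      exact ⟨cj_mem_st hR₂S hy.1.1 hy.2.2 hy.1.2, y, hy, fun x hx => by rw [fn_cj _ (hPR₂ hx)]⟩)
    (by
      intro x hx
      obtain ⟨s, hs, hs'⟩ := hpart x hx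
      obtain ⟨hxS, hxP, -⟩ := mem_nphi.1 hx.1
      obtain ⟨m, hm, hm'⟩ := exists_mem_st hgi hPR.le hgP ⟨⟨hxS, hxP⟩, hx.2⟩
      refine ⟨m, ⟨hm, s, hs, fun y hy => ?_⟩, hm'⟩
      obtain ⟨z, hz, rfl⟩ := hgP.surj hy
      rw [hm' z (hPR.le hz), hgα _ (conj_mem_of_mem_normalizer hxP hz), hs' z hz, hgα z hz])
  have hl2 : ∀ x ∈ P, fn l x = x := hl.2
  have hYle : R₂ ≤ normalizerIn S P ⊓ normalizerIn S R₂ := le_inf hR₂N (le_normalizerIn hR₂S)
  have hXle : R ≤ nphi S P α ⊓ normalizerIn S R := le_inf hRle (le_normalizerIn hRS)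
  rw [sup_eq_right.2 hYle] at hθ'
  rw [sup_eq_right.2 hXle] at hσ
  have hθP := hθ.restrict hPR₂
  have hσP' : ∀ x ∈ P, σ x = θ (g x) := fun x hx => by rw [hσe x (hPR.le hx), hl2 _ (hgP.mem hx)]
  obtain ⟨ψ, hψ, hψi⟩ := hreach (img P θ) hθP.isConj
  -- `θ(C_S(P)) = C_S(θ(P))`
  have hθC : ∀ c ∈ centralizerIn S P, θ c ∈ centralizerIn S (img P θ) := by
    intro c hc
    have hcR₂ := hCR₂ hc
    rw [mem_centralizerIn] at hc ⊢
    refine ⟨hθ.isMap.mem hcR₂, fun y hy => ?_⟩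
    obtain ⟨z, hz, rfl⟩ := hθP.surj hy
    rw [← hθ.isMap.map_mul (hPR₂ hz) hcR₂, hc.2 z hz, hθ.isMap.map_mul hcR₂ (hPR₂ hz)]
  have hψC : ∀ c ∈ centralizerIn S (img P θ), ψ c ∈ centralizerIn S P := by
    intro c hc
    have hcN : c ∈ normalizerIn S (img P θ) := centralizerIn_le_normalizerIn hc
    rw [mem_centralizerIn] at hc ⊢
    refine ⟨hψ.mem hcN, fun y hy => ?_⟩
    obtain ⟨z, hz, rfl⟩ := hψi.surj hy
    have hzN := le_normalizerIn hψi.le hz
    rw [← hψ.map_mul hzN hcN, hc.2 z hz, hψ.map_mul hcN hzN]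
  have hc1 := card_le_of_map (hψ.mono centralizerIn_le_normalizerIn) centralizerIn_le hψC
  have hθC2 : ∀ c ∈ centralizerIn S (img P θ), ∃ d ∈ centralizerIn S P, θ d = c := by
    have h1 := (hθ.isMap.mono hCR₂).isIso
    have h2 : img (centralizerIn S P) θ ≤ centralizerIn S (img P θ) := by
      intro y hy
      obtain ⟨x, hx, rfl⟩ := (mem_img (hθ.isMap.mono hCR₂)).1 hy
      exact hθC x hx
    have hfin : Finite (centralizerIn S (img P θ)) := finite_of_le centralizerIn_le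
    have h3 := Subgroup.eq_of_le_of_card_ge h2 (by rw [← h1.card_eq]; exact hc1)
    intro c hc
    rw [← h3] at hc
    exact (mem_img (hθ.isMap.mono hCR₂)).1 hc
  -- the image of `σ` is in the image of `θ`
  have hmem : ∀ x ∈ nphi S P α ⊓ normalizerIn S R, σ x ∈ img (normalizerIn S P ⊓ normalizerIn S R₂) θ := by
    intro x hx
    obtain ⟨s, hs, hs'⟩ := hpart x hx
    have hu : (θ s)⁻¹ * σ x ∈ centralizerIn S (img P θ) := by
      rw [mem_centralizerIn]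
      refine ⟨S.mul_mem (S.inv_mem (hθ'.mem hs)) (hσ.mem hx), fun y hy => ?_⟩
      obtain ⟨v, hv, rfl⟩ := hθP.surj hy
      obtain ⟨v', hv', rfl⟩ := hgP.surj hv
      have hxP : x ∈ Subgroup.normalizer (P : Set Ω) := (mem_nphi.1 hx.1).2.1
      have hxv := conj_mem_of_mem_normalizer hxP hv'
      have e1 : σ x * θ (g v') * (σ x)⁻¹ = θ s * θ (g v') * (θ s)⁻¹ := by
        rw [← hσP' v' hv', ← hσ.map_conj hx (hXle (hPR.le hv')), hσP' _ hxv, hgα _ hxv, hs' v' hv', hσP' v' hv',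
          ← hgα v' hv']
        exact hθ'.map_conj hs (hYle (hPR₂ (hgP.mem hv')))
      calc θ (g v') * ((θ s)⁻¹ * σ x) = (θ s)⁻¹ * (θ s * θ (g v') * (θ s)⁻¹) * σ x := by group
        _ = (θ s)⁻¹ * (σ x * θ (g v') * (σ x)⁻¹) * σ x := by rw [e1]
        _ = _ := by group
    obtain ⟨d, hd, hd'⟩ := hθC2 _ hu
    have hdY : d ∈ normalizerIn S P ⊓ normalizerIn S R₂ := hYle (hCR₂ hd)
    have h3 : σ x = θ (s * d) := by
      rw [hθ'.map_mul hs hdY, hd']; group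
    rw [h3]
    exact apply_mem_img (Subgroup.mul_mem _ hs hdY)
  obtain ⟨θi, hθi, i1, i2⟩ := hθ'.isIso.symm
  have hnew : IsMap F (nphi S P α ⊓ normalizerIn S R) (θi ∘ σ) := hσ.comp hθi.isMap hmem
  have hRX : R < nphi S P α ⊓ normalizerIn S R := by
    have hfin : Finite (nphi S P α) := finite_of_le nphi_le
    refine lt_of_lt_of_le (lt_normalizerIn (hS.to_le nphi_le) hlt) ?_
    intro x hx
    exact ⟨hx.1, nphi_le hx.1, hx.2⟩
  have hb1 := card_lt_of_lt hRX hnew.le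
  have hb2 : Nat.card (nphi S P α ⊓ normalizerIn S R : Subgroup Ω) ≤ Nat.card S := card_le_of_le hnew.le le_rfl
  refine ih _ (by omega) _ _ rfl (hPR.trans hRX) (hCR.trans hRX.le) (inf_le_left.trans nphi_le_normalizerIn) hnew
    fun x hx => ?_
  show θi (σ x) = α x
  rw [hσP' x hx, i1 _ (hYle (hPR₂ (hgP.mem hx))), hgα x hx]

/-- Fully automized from receptive. -/
theorem fa_of_receptive [Fact p.Prime] [Finite S] (hS : IsPGroup p S)
    (hG : ∀ R, R ≤ S → Nat.card P < Nat.card R → ∃ U, F.IsConj R U ∧ IsNice F p U)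
    (hfn : F.IsFullyNormalized P) (hPS : P < S) (hrec : F.IsReceptive P) : F.IsFullyAutomized p P := by
  have hPS' := hPS.le
  have hPfin : Finite P := finite_of_le hPS'
  have hfin : Finite (MulAut P) := finite_mulAut
  have hBp : IsPGroup p (autInducedBy S P) := isPGroup_autInducedBy hS
  obtain ⟨B₁, hB₁, hsyl⟩ := exists_sylIn (autInducedBy_le_autGroup F hPS') hBp
  rw [isFullyAutomized_iff]
  refine ⟨hPS', ?_⟩
  rcases hB₁.lt_or_eq with hlt | heq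
  swap
  · rw [heq]; exact hsyl
  exfalso
  have hfinB : Finite B₁ := inferInstance
  obtain ⟨β, hβ, hβn⟩ := Set.exists_of_ssubset (lt_normalizerIn hsyl.isP hlt)
  have hβA : β ∈ F.autGroup P := hsyl.le hβ.1
  have hβi := fn_iso hPS' hβA
  have hle : normalizerIn S P ≤ nphi S P (fn β) := by
    intro s hs
    have h1 : β * cj P hs.2 * β⁻¹ ∈ autInducedBy S P := (Subgroup.mem_normalizer_iff.1 hβ.2 _).1 (cj_mem hs.2 hs.1)
    obtain ⟨t, ht, ht'⟩ := fn_autInduced h1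
    rw [mem_nphi]
    refine ⟨hs.1, hs.2, t, ht, fun x hx => ?_⟩
    have h2 := ht' _ (fn_mem β hx)
    rw [← h2, fn_mul _ _ (fn_mem β hx), fn_inv_apply β hx, fn_mul _ _ hx, fn_cj hs.2 hx]
  obtain ⟨g, hg, hgβ⟩ := (isReceptive_iff.1 hrec).2 P _ hβi
  have hgN := hg.mono hle
  have hgP : IsIso F P P g := hβi.congr fun x hx => (hgβ x hx).symm
  have hPN : P ≤ normalizerIn S P := le_normalizerIn hPS'
  have hgNi : IsIso F (normalizerIn S P) (normalizerIn S P) g :=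
    isIso_of_self hgN fun x hx => map_mem_norm hgN le_rfl hPN hgP hx
  have hNfin : Finite (normalizerIn S P) := finite_of_le normalizerIn_le
  have hfinN : Finite (MulAut (normalizerIn S P)) := finite_mulAut
  obtain ⟨a, ha⟩ : ∃ a, a = hgNi.aut := ⟨_, rfl⟩
  have haA : a ∈ F.autGroup (normalizerIn S P) := by rw [ha]; exact hgNi.aut_mem
  -- powers
  obtain ⟨j, hj⟩ := hsyl.isP ⟨β, hβ.1⟩
  have hj' : β ^ p ^ j = 1 := congrArg Subtype.val hj
  obtain ⟨k, hk, b, hkb⟩ := H87.Stancu.exists_exponent (p := p) (orderOf a) j (orderOf_pos a)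
  have hpow : ∀ n : ℕ, ∀ x ∈ P, fn (a ^ n) x = fn (β ^ n) x := by
    intro n
    induction n with
    | zero => intro x hx; rw [pow_zero, pow_zero, fn_one (hPN hx), fn_one hx]
    | succ n ihn =>
      intro x hx
      rw [pow_succ', pow_succ', fn_mul _ _ (hPN hx), fn_mul _ _ hx, ihn x hx, ha, fn_aut hgNi (hPN (fn_mem _ hx)),
        hgβ _ (fn_mem _ hx)]
  have hβk : β ^ k = β := H87.Stancu.pow_eq_of_modEq hj' hk
  have hak : (a ^ k) ^ p ^ b = 1 := by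
    rw [← pow_mul]
    exact orderOf_dvd_iff_pow_eq_one.1 hkb
  have hJp : IsPGroup p (Subgroup.zpowers (a ^ k)) := by
    rintro ⟨x, hx⟩
    obtain ⟨n, rfl⟩ := Subgroup.mem_zpowers_iff.1 hx
    refine ⟨b, Subtype.ext ?_⟩
    show ((a ^ k) ^ n) ^ p ^ b = 1
    rw [← zpow_natCast, ← zpow_mul, mul_comm, zpow_mul, zpow_natCast, hak, one_zpow]
  have hJA : Subgroup.zpowers (a ^ k) ≤ F.autGroup (normalizerIn S P) := by
    rw [Subgroup.zpowers_le]; exact Subgroup.pow_mem _ haA k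
  obtain ⟨s₀, hs₀, hs₀P⟩ : ∃ s ∈ normalizerIn S P, s ∉ P := by
    have := lt_normalizerIn hS hPS
    obtain ⟨s, hs, hsP⟩ := Set.exists_of_ssubset this
    exact ⟨s, hs, hsP⟩
  have hPlt : P < normalizerIn S P := lt_of_le_of_ne hPN fun e => hs₀P (by rw [e]; exact hs₀)
  obtain ⟨U, hU, hUn⟩ := hG _ normalizerIn_le (card_lt_of_lt hPlt normalizerIn_le)
  obtain ⟨θ, hθ, hθJ⟩ := exists_theta hUn hU hJA hJp
  obtain ⟨s, hs, hs'⟩ := hθJ _ (Subgroup.mem_zpowers _)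
  have hθP := hθ.restrict hPN
  have hUfin : Finite U := finite_of_le hθ.le'
  have hP₂fin : Finite (img P θ) := finite_of_le hθP.le'
  -- `U ≤ N_S(θ(P))`
  have hUN : U ≤ normalizerIn S (img P θ) := by
    intro y hy
    obtain ⟨x, hx, rfl⟩ := hθ.surj hy
    exact map_mem_norm hθ.isMap le_rfl hPN hθP hx
  have hakP : ∀ x ∈ P, fn (a ^ k) x ∈ P := fun x hx => by rw [hpow k x hx]; exact fn_mem _ hx
  have hsN : s ∈ normalizerIn S (img P θ) := by
    rw [mem_normalizerIn_iff]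
    refine ⟨hs, fun y hy => ?_⟩
    obtain ⟨x, hx, rfl⟩ := hθP.surj hy
    rw [← hs' x (hPN hx)]
    exact hθP.mem (hakP x hx)
  have hsU : s ∉ U := by
    intro hsU
    obtain ⟨n, hn, rfl⟩ := hθ.surj hsU
    apply hβn
    refine mem_autInduced_of_fn (normalizerIn_le hn) fun x hx => ?_
    rw [← hβk, ← hpow k x hx]
    have h1 := hs' x (hPN hx)
    rw [← hθ.isMap.map_conj hn (hPN hx)] at h1
    exact hθ.isMap.inj (fn_mem _ (hPN hx)) (Subgroup.mul_mem _ (Subgroup.mul_mem _ hn (hPN hx)) (Subgroup.inv_mem _ hn)) h1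
  have hUlt : U < normalizerIn S (img P θ) := lt_of_le_of_ne hUN fun e => hsU (by rw [e]; exact hsN)
  have h1 := card_lt_of_lt hUlt normalizerIn_le
  have h2 := hfn.2 _ hθP.isConj
  have h3 := hθ.card_eq
  omega

end H87.Crit
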