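import Cfsg.Agent.Lib.H87.Grp
import Cfsg.Agent.Lib.H89.Normal3
set_option autoImplicit false

open Cfsg Cfsg.FusionSystem

namespace H87.Inner
open H87.Base H87.Basic H87.Syl H87.Sat H87.Grow H87.Inv H87.Factor H87.Factor2 H87.Surj H87.Grp

variable {Ω : Type*} [Group Ω] {S : Subgroup Ω} {F : FusionSystem S} {P : Subgroup Ω} {f : Ω → Ω} {p : ℕ}

theorem isMap_inner_iff : IsMap (innerFusionSystem S) P f ↔ P ≤ S ∧ ∃ g ∈ S, ∀ x ∈ P, f x = g * x * g⁻¹ := by
  constructor
  · rintro ⟨φ, ⟨h1, g, hg, h3⟩, e⟩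
    refine ⟨h1, g, hg, fun x hx => ?_⟩
    rw [← e ⟨x, hx⟩]; exact h3 _
  · rintro ⟨h1, g, hg, h3⟩
    exact ⟨conjHom P g, ⟨h1, g, hg, fun x => rfl⟩, fun x => (h3 x x.2).symm⟩

theorem sylIn_self (hS : IsPGroup p S) : SylIn p S S := ⟨le_rfl, hS, fun _ hB _ hle => le_antisymm hB hle⟩

theorem inner_eq (S : Subgroup Ω) : innerFusionSystem S = fusionSystemOfSubgroup S S le_rfl := by
  refine fusionSystem_ext fun P => hom_eq_of_isMap_iff (fun P f => ?_) P
  rw [isMap_inner_iff, isMap_sub_iff]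
  constructor
  · rintro ⟨h1, g, hg, h3⟩
    exact ⟨h1, fun x hx => by rw [h3 x hx]; exact S.mul_mem (S.mul_mem hg (h1 hx)) (S.inv_mem hg), g, hg, h3⟩
  · rintro ⟨h1, -, g, hg, h3⟩
    exact ⟨h1, g, hg, h3⟩

theorem inner_saturated [Fact p.Prime] [Finite S] (hS : IsPGroup p S) : (innerFusionSystem S).IsSaturated p := by
  rw [inner_eq]
  exact saturated_sub (sylIn_self hS)

/-- In a saturated system over an abelian group every map extends to an automorphism of `S`. -/
theorem exists_extension_of_abelian [Fact p.Prime] [Finite S] (hS : IsPGroup p S) (hF : F.IsSaturated p)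
    (hab : ∀ x ∈ S, ∀ y ∈ S, x * y = y * x) (hf : IsMap F P f) : ∃ a, IsIso F S S a ∧ ∀ x ∈ P, a x = f x := by
  have hSc : F.StronglyClosed S := by
    rw [stronglyClosed_iff]
    exact ⟨le_rfl, fun P f _ hf x hx => hf.mem hx⟩
  have hn := H89.Normal3.isNormal_of_abelian hS hF hSc hab
  obtain ⟨g, hg, h1, h2⟩ := (isNormal_iff.1 hn).2 P f hf
  have hg' := hg.mono (le_sup_right : S ≤ P ⊔ S)
  refine ⟨g, StronglyClosed.isMap_iso hSc hg' le_rfl, fun x hx => h1 x hx⟩

/-- The inner system of an abelian `S` is normal in every saturated system over `S`. -/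
theorem inner_isNormalIn_of_abelian [Fact p.Prime] [Finite S] (hS : IsPGroup p S) (hF : F.IsSaturated p)
    (hab : ∀ x ∈ S, ∀ y ∈ S, x * y = y * x) : (innerFusionSystem S).IsNormalIn F p := by
  have hid : ∀ {P : Subgroup Ω} {f : Ω → Ω}, IsMap (innerFusionSystem S) P f → ∀ x ∈ P, f x = x := by
    intro P f hf x hx
    obtain ⟨h1, g, hg, h3⟩ := isMap_inner_iff.1 hf
    rw [h3 x hx, hab g hg x (h1 hx)]
    group
  rw [isNormalIn_iff, isInvariantIn_iff]
  refine ⟨inner_saturated hS, hF, ⟨?_, ?_, ?_, ?_⟩, ?_⟩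
  · rw [isSubsystemOf_iff]
    intro P f hf
    obtain ⟨h1, g, hg, h3⟩ := isMap_inner_iff.1 hf
    exact (isMap_conj F h1 hg).congr fun x hx => (h3 x hx).symm
  · rw [stronglyClosed_iff]
    exact ⟨le_rfl, fun P f _ hf x hx => hf.mem hx⟩
  · intro P f a hf ha
    refine ⟨fun x => x, isMap_id _ ?_, fun x hx => ?_⟩
    · rw [← ha.eq_img]; exact img_mono hf.le
    · show a x = a (f x)
      rw [hid hf x hx]
  · intro P f hP hf
    obtain ⟨a, ha, h1⟩ := exists_extension_of_abelian hS hF hab hf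
    exact ⟨a, fun x => x, ha, isMap_id _ hP, fun x hx => (h1 x hx).symm⟩
  · intro a ha
    have hle : S ⊔ centralizerIn S S ≤ S := sup_le le_rfl inf_le_left
    have heq : S ⊔ centralizerIn S S = S := le_antisymm hle le_sup_left
    refine ⟨fun x => x, ?_, fun x hx => (hid ha.isMap x hx).symm, fun c hc => ?_⟩
    · rw [heq]; exact isIso_id F le_rfl
    · rw [inv_mul_cancel]; exact Subgroup.one_mem _

end H87.Inner
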