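import Cfsg.Agent.Lib.H87.PPr4
set_option autoImplicit false

open Cfsg Cfsg.FusionSystem

namespace H87.NE
open H87.Base H87.Basic H87.Syl H87.Sat H87.Grow H87.Inv H87.Frat H87.Cut H87.PPow H87.Crit H87.PPr

variable {Ω : Type*} [Group Ω] {S T : Subgroup Ω} {F : FusionSystem S} {E D : FusionSystem T}
  {P Q R M U : Subgroup Ω} {f g h a b : Ω → Ω} {p : ℕ}

theorem sylIn_normal_le {X : Type*} [Group X] [Fact p.Prime] {V A N : Subgroup X} [Finite A] (h : SylIn p V A)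
    (hN : N ≤ A) (hn : ∀ a ∈ A, ∀ n ∈ N, a * n * a⁻¹ ∈ N) (hp : IsPGroup p N) : N ≤ V := by
  obtain ⟨a, ha, hc⟩ := h.conj hN hp
  intro n hnN
  have h1 := hc _ (hn a⁻¹ (Subgroup.inv_mem _ ha) n hnN)
  have h2 : a * (a⁻¹ * n * a⁻¹⁻¹) * a⁻¹ = n := by group
  rwa [h2] at h1

theorem fn_map_mul (α : MulAut U) {x y : Ω} (hx : x ∈ U) (hy : y ∈ U) : fn α (x * y) = fn α x * fn α y := by
  rw [fn_apply _ (U.mul_mem hx hy), fn_apply _ hx, fn_apply _ hy, ← Subgroup.coe_mul, ← map_mul]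
  rfl

/-- automorphisms of `M` trivial on `P` and moving elements of `M` modulo `P` trivially -/
noncomputable def stb (M P : Subgroup Ω) (hPM : P ≤ M) : Subgroup (MulAut M) where
  carrier := {κ | (∀ x ∈ P, fn κ x = x) ∧ ∀ x ∈ M, x⁻¹ * fn κ x ∈ P}
  mul_mem' := by
    rintro κ l ⟨h1, h2⟩ ⟨h3, h4⟩
    refine ⟨fun x hx => ?_, fun x hx => ?_⟩
    · rw [fn_mul _ _ (hPM hx), h3 x hx, h1 x hx]
    · rw [fn_mul _ _ hx]
      have h5 := h2 _ (fn_mem l hx)
      have : x⁻¹ * fn κ (fn l x) = (x⁻¹ * fn l x) * ((fn l x)⁻¹ * fn κ (fn l x)) := by group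
      rw [this]; exact P.mul_mem (h4 x hx) h5
  one_mem' := ⟨fun x hx => fn_one (hPM hx), fun x hx => by rw [fn_one hx, inv_mul_cancel]; exact P.one_mem⟩
  inv_mem' := by
    rintro κ ⟨h1, h2⟩
    refine ⟨fun x hx => ?_, fun x hx => ?_⟩
    · have := fn_inv_apply κ (hPM hx)
      rwa [h1 x hx] at this
    · have h3 := h2 _ (fn_mem κ⁻¹ hx)
      rw [fn_apply_inv κ hx] at h3
      have : x⁻¹ * fn κ⁻¹ x = ((fn κ⁻¹ x)⁻¹ * x)⁻¹ := by group
      rw [this]; exact P.inv_mem h3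

theorem mem_stb {hPM : P ≤ M} {κ : MulAut M} :
    κ ∈ stb M P hPM ↔ (∀ x ∈ P, fn κ x = x) ∧ ∀ x ∈ M, x⁻¹ * fn κ x ∈ P := Iff.rfl

theorem stb_pow {hPM : P ≤ M} {κ : MulAut M} (h : κ ∈ stb M P hPM) (m : ℕ) {x : Ω} (hx : x ∈ M) :
    fn (κ ^ m) x = x * (x⁻¹ * fn κ x) ^ m := by
  induction m with
  | zero => rw [pow_zero, pow_zero, fn_one hx, mul_one]
  | succ m ih =>
    have hz := h.2 x hx
    have hz' := pow_mem hz m
    have hP' : (x⁻¹ * fn κ x) ^ m ∈ M := hPM hz'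
    rw [fn_pow_succ κ m hx, ih]
    rw [fn_map_mul κ hx hP', h.1 _ hz', pow_succ']
    rw [← mul_assoc, ← mul_assoc, mul_inv_cancel, one_mul]

theorem pow_card_eq_one_of_mem [Finite P] {x : Ω} (hx : x ∈ P) : x ^ Nat.card P = 1 := by
  have : (⟨x, hx⟩ : P) ^ Nat.card P = 1 := pow_card_eq_one'
  have h2 := congrArg (fun z : P => (z : Ω)) this
  simpa only [Subgroup.coe_pow, Subgroup.coe_one] using h2

theorem stb_isPGroup [Fact p.Prime] {hPM : P ≤ M} [Finite P] (hp : IsPGroup p P) : IsPGroup p (stb M P hPM) := by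
  obtain ⟨k, hk⟩ := IsPGroup.iff_card.1 hp
  rintro ⟨κ, hκ⟩
  refine ⟨k, Subtype.ext ?_⟩
  rw [Subgroup.coe_pow]
  refine fn_ext fun x hx => ?_
  rw [stb_pow hκ _ hx, ← hk, pow_card_eq_one_of_mem (hκ.2 x hx), mul_one]
  exact (fn_one hx).symm

/-- a coprime automorphism in `stb` is trivial on `M`. -/
theorem stb_coprime [Fact p.Prime] {hPM : P ≤ M} [Finite P] (hp : IsPGroup p P) {κ : MulAut M}
    (hκ : κ ∈ stb M P hPM) (ho : (orderOf κ).Coprime p) : κ = 1 := by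
  obtain ⟨k, hk⟩ := IsPGroup.iff_card.1 hp
  have h1 : κ ^ p ^ k = 1 := by
    refine fn_ext fun x hx => ?_
    rw [stb_pow hκ _ hx, ← hk, pow_card_eq_one_of_mem (hκ.2 x hx), mul_one]
    exact (fn_one hx).symm
  have h2 : orderOf κ ∣ p ^ k := orderOf_dvd_of_pow_eq_one h1
  have h3 : orderOf κ = 1 := Nat.eq_one_of_dvd_coprimes (ho.pow_right k) dvd_rfl h2
  exact orderOf_eq_one_iff.1 h3

/-- `P ≤ T` with `C_T(Q) ≤ Q` for all `F`-conjugates `Q`. -/
def TC (F : FusionSystem S) (T P : Subgroup Ω) : Prop := P ≤ T ∧ ∀ Q f, IsIso F P Q f → centralizerIn T Q ≤ Q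

theorem TC.conj (hT : F.StronglyClosed T) (h : TC F T P) (hf : IsIso F P Q f) : TC F T Q :=
  ⟨conj_le_of_stronglyClosed hT hf.isConj h.1, fun R g hg => h.2 R _ (hf.comp hg)⟩

theorem TC.up (h : TC F T P) (hPQ : P ≤ Q) (hQ : Q ≤ T) : TC F T Q := by
  refine ⟨hQ, fun R f hf => ?_⟩
  have h1 := h.2 _ f (hf.restrict hPQ)
  have h2 : img P f ≤ R := by rw [← hf.eq_img]; exact img_mono hPQ
  intro x hx
  exact h2 (h1 (mem_centralizerIn.2 ⟨hx.1, fun y hy => (mem_centralizerIn.1 hx).2 y (h2 hy)⟩))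

theorem TC.le (h : TC F T P) (hTS : T ≤ S) : centralizerIn T P ≤ P := h.2 P _ (isIso_id F (h.1.trans hTS))

/-- `E`-centric subgroups are `TC` for `E` invariant. -/
theorem tc_of_centric (hE : E.IsInvariantIn F) (hP : E.IsCentric P) : TC F T P := by
  refine ⟨hP.1, fun Q f hf => ?_⟩
  obtain ⟨-, -, -, hFr⟩ := isInvariantIn_iff.1 hE
  obtain ⟨a, e, ha, he, h1⟩ := hFr P f hP.1 hf.isMap
  obtain ⟨ai, hai, a1, a2⟩ := ha.symm
  have h2 := hP.2 _ he.isIso.isConj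
  intro y hy
  have hy' := mem_centralizerIn.1 hy
  have hfT : ∀ x ∈ P, f x ∈ T := fun x hx => by rw [h1 x hx]; exact ha.mem (he.mem hx)
  have h3 : ai y ∈ centralizerIn T (img P e) := by
    rw [mem_centralizerIn]
    refine ⟨hai.mem hy'.1, fun z hz => ?_⟩
    obtain ⟨x, hx, rfl⟩ := (mem_img he).1 hz
    have h4 : e x = ai (f x) := by rw [h1 x hx, a1 _ (he.mem hx)]
    rw [h4, ← hai.isMap.map_mul (hfT x hx) hy'.1, ← hai.isMap.map_mul hy'.1 (hfT x hx),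
      hy'.2 _ (hf.mem hx)]
  obtain ⟨x, hx, e1⟩ := (mem_img he).1 (h2 h3)
  have h6 : y = f x := by rw [h1 x hx, e1, a2 y hy'.1]
  rw [h6]; exact hf.mem hx

theorem centric_of_tc (hE : E.IsSubsystemOf F) (hP : TC F T P) : E.IsCentric P := by
  rw [isCentric_iff]
  exact ⟨hP.1, fun Q f hf => hP.2 Q f (isIso_of_sub hE hf)⟩

/-- `C_S(P)` meets `T` inside `P`. -/
theorem TC.mem (h : TC F T P) (hTS : T ≤ S) {c : Ω} (hc : c ∈ T) (h' : ∀ x ∈ P, x * c = c * x) : c ∈ P :=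
  h.le hTS (mem_centralizerIn.2 ⟨hc, h'⟩)

/-- the extension property: `f : P → P` extends to `P C_S(P)` acting trivially on `C_S(P)` modulo `P`. -/
def NEx (F : FusionSystem S) (P : Subgroup Ω) (f : Ω → Ω) : Prop :=
  ∃ g, IsMap F (P ⊔ centralizerIn S P) g ∧ (∀ x ∈ P, g x = f x) ∧ ∀ c ∈ centralizerIn S P, c⁻¹ * g c ∈ P

theorem NEx.congr (h : NEx F P f) (e : ∀ x ∈ P, f x = g x) : NEx F P g := by
  obtain ⟨k, hk, k1, k2⟩ := h
  exact ⟨k, hk, fun x hx => by rw [k1 x hx, e x hx], k2⟩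

theorem map_centralizer (hg : IsMap F U g) (hP : P ≤ U) (hgP : IsIso F P Q g) {c : Ω} (hcU : c ∈ U)
    (hc : c ∈ centralizerIn S P) : g c ∈ centralizerIn S Q := by
  rw [mem_centralizerIn]
  refine ⟨hg.mem hcU, fun y hy => ?_⟩
  obtain ⟨x, hx, rfl⟩ := hgP.surj hy
  rw [← hg.map_mul (hP hx) hcU, (mem_centralizerIn.1 hc).2 x hx, hg.map_mul hcU (hP hx)]

/-- transport of the extension property from a conjugate with bigger centralizer -/
theorem NEx.transport (hU : P ⊔ centralizerIn S P ≤ U) (hχ : IsMap F U h) (hi : IsIso F P Q h)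
    (hg : NEx F Q g) (hf : ∀ x ∈ P, f x ∈ P) (e : ∀ x ∈ P, g (h x) = h (f x)) : NEx F P f := by
  obtain ⟨k, hk, k1, k2⟩ := hg
  have hPU : P ≤ U := le_sup_left.trans hU
  have hCU : centralizerIn S P ≤ U := le_sup_right.trans hU
  obtain ⟨l, hl, l1, l2⟩ := hχ.isIso.symm
  have hm1 : ∀ x ∈ P ⊔ centralizerIn S P, h x ∈ Q ⊔ centralizerIn S Q := by
    refine mem_of_sup (hχ.mono hU) (fun x hx => Subgroup.mem_sup_left (hi.mem hx)) fun c hc => ?_
    exact Subgroup.mem_sup_right (map_centralizer hχ hPU hi (hCU hc) hc)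
  have hkh : IsMap F (P ⊔ centralizerIn S P) (k ∘ h) := (hχ.mono hU).comp hk hm1
  have hval : ∀ c ∈ centralizerIn S P, ∃ x ∈ P, k (h c) = h (c * x) := by
    intro c hc
    have h1 := k2 _ (map_centralizer hχ hPU hi (hCU hc) hc)
    obtain ⟨x, hx, hx'⟩ := hi.surj h1
    refine ⟨x, hx, ?_⟩
    rw [hχ.map_mul (hCU hc) (hPU hx), hx']
    group
  have hm2 : ∀ x ∈ P ⊔ centralizerIn S P, (k ∘ h) x ∈ img U h := by
    refine mem_of_sup hkh (fun x hx => ?_) fun c hc => ?_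
    · show k (h x) ∈ _
      rw [k1 _ (hi.mem hx), e x hx]
      exact apply_mem_img (hPU (hf x hx))
    · obtain ⟨x, hx, hx'⟩ := hval c hc
      show k (h c) ∈ _
      rw [hx']
      exact apply_mem_img (U.mul_mem (hCU hc) (hPU hx))
  refine ⟨l ∘ (k ∘ h), hkh.comp hl.isMap hm2, fun x hx => ?_, fun c hc => ?_⟩
  · show l (k (h x)) = f x
    rw [k1 _ (hi.mem hx), e x hx, l1 _ (hPU (hf x hx))]
  · show c⁻¹ * l (k (h c)) ∈ P
    obtain ⟨x, hx, hx'⟩ := hval c hc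
    rw [hx', l1 _ (U.mul_mem (hCU hc) (hPU hx))]
    have : c⁻¹ * (c * x) = x := by group
    rw [this]; exact hx

theorem NEx.comp (hf : IsIso F P P f) (hg : IsIso F P P g) (h1 : NEx F P f) (h2 : NEx F P g) : NEx F P (g ∘ f) := by
  obtain ⟨k, hk, k1, k2⟩ := h1
  obtain ⟨l, hl, l1, l2⟩ := h2
  have hkP : IsIso F P P k := hf.congr fun x hx => (k1 x hx).symm
  have hm : ∀ x ∈ P ⊔ centralizerIn S P, k x ∈ P ⊔ centralizerIn S P := by
    refine mem_of_sup hk (fun x hx => Subgroup.mem_sup_left (hkP.mem hx)) fun c hc => ?_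
    exact Subgroup.mem_sup_right (map_centralizer hk le_sup_left hkP (Subgroup.mem_sup_right hc) hc)
  refine ⟨l ∘ k, hk.comp hl hm, fun x hx => ?_, fun c hc => ?_⟩
  · show l (k x) = g (f x)
    rw [k1 x hx, l1 _ (hf.mem hx)]
  · show c⁻¹ * l (k c) ∈ P
    have hz := k2 c hc
    have h3 : k c = c * (c⁻¹ * k c) := by group
    rw [h3, hl.map_mul (Subgroup.mem_sup_right hc) (Subgroup.mem_sup_left hz), ← mul_assoc, l1 _ hz]
    exact P.mul_mem (l2 c hc) (hg.mem hz)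

theorem NEx.symm (hf : IsIso F P P f) (hg : IsIso F P P g) (e : ∀ x ∈ P, f (g x) = x) (h1 : NEx F P f)
    [Finite S] : NEx F P g := by
  obtain ⟨k, hk, k1, k2⟩ := h1
  have hkP : IsIso F P P k := hf.congr fun x hx => (k1 x hx).symm
  have hm : ∀ x ∈ P ⊔ centralizerIn S P, k x ∈ P ⊔ centralizerIn S P := by
    refine mem_of_sup hk (fun x hx => Subgroup.mem_sup_left (hkP.mem hx)) fun c hc => ?_
    exact Subgroup.mem_sup_right (map_centralizer hk le_sup_left hkP (Subgroup.mem_sup_right hc) hc)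
  obtain ⟨l, hl, l1, l2⟩ := (H87.ConstrEq.isIso_of_self hk hm).symm
  have hlP : ∀ x ∈ P, l x = g x := by
    intro x hx
    have h2 : k (g x) = x := by rw [k1 _ (hg.mem hx), e x hx]
    have h3 := l1 (g x) (Subgroup.mem_sup_left (hg.mem hx))
    rw [h2] at h3
    exact h3
  refine ⟨l, hl.isMap, hlP, fun c hc => ?_⟩
  have hcm := Subgroup.mem_sup_right (S := P) hc
  have hz := k2 c hc
  have h3 : c = l c * l (c⁻¹ * k c) := by
    rw [← hl.isMap.map_mul hcm (Subgroup.mem_sup_left hz)]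
    have : c * (c⁻¹ * k c) = k c := by group
    rw [this, l1 c hcm]
  have h4 : c⁻¹ * l c = (l (c⁻¹ * k c))⁻¹ := by
    have h5 : l c = c * (l (c⁻¹ * k c))⁻¹ := by rw [eq_mul_inv_iff_mul_eq]; exact h3.symm
    rw [h5]; group
  rw [h4, hlP _ hz]
  exact P.inv_mem (hg.mem hz)

/-- a `t ∈ T` normalizing `P` moves `C_S(P)` inside `P`. -/
theorem comm_mem (hT : F.StronglyClosed T) (hP : TC F T P) {t c : Ω} (ht : t ∈ normalizerIn T P)
    (hc : c ∈ centralizerIn S P) : c⁻¹ * (t * c * t⁻¹) ∈ P := by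
  have hTS := hT.1
  refine hP.mem hTS ?_ fun x hx => ?_
  · have h1 : c⁻¹ * t * c⁻¹⁻¹ ∈ T := StronglyClosed.conj_mem hT (S.inv_mem hc.1) ht.1
    have : c⁻¹ * (t * c * t⁻¹) = (c⁻¹ * t * c⁻¹⁻¹) * t⁻¹ := by group
    rw [this]; exact T.mul_mem h1 (T.inv_mem ht.1)
  · have hcx := (mem_centralizerIn.1 hc).2
    have hx' : t⁻¹ * x * t ∈ P := by
      have := conj_mem_of_mem_normalizer (Subgroup.inv_mem _ ht.2) hx
      rwa [inv_inv] at this
    have h1 := hcx _ hx'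
    -- x commutes with t c t⁻¹ and with c
    have h2 : x * (t * c * t⁻¹) = (t * c * t⁻¹) * x := by
      calc x * (t * c * t⁻¹) = t * ((t⁻¹ * x * t) * c) * t⁻¹ := by group
        _ = t * (c * (t⁻¹ * x * t)) * t⁻¹ := by rw [h1]
        _ = _ := by group
    have h3 : x * c⁻¹ = c⁻¹ * x := by
      have := hcx x hx
      calc x * c⁻¹ = c⁻¹ * (c * x) * c⁻¹ := by group
        _ = c⁻¹ * (x * c) * c⁻¹ := by rw [this]
        _ = _ := by group
    calc x * (c⁻¹ * (t * c * t⁻¹)) = (x * c⁻¹) * (t * c * t⁻¹) := by group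
      _ = c⁻¹ * (x * (t * c * t⁻¹)) := by rw [h3]; group
      _ = _ := by rw [h2]; group

theorem nex_conj (hT : F.StronglyClosed T) (hP : TC F T P) {t : Ω} (ht : t ∈ normalizerIn T P) :
    NEx F P (fun x => t * x * t⁻¹) :=
  ⟨fun x => t * x * t⁻¹, isMap_conj F (sup_le (hP.1.trans hT.1) inf_le_left) (hT.1 ht.1), fun _ _ => rfl,
    fun c hc => comm_mem hT hP ht hc⟩

/-- `p`-elements of `Aut_E(P)` have the extension property. -/
theorem nex_of_pElement [Fact p.Prime] [Finite S] (hS : IsPGroup p S) (hE : E.IsWeaklyNormalIn F p)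
    (hP : TC F T P) {α : MulAut P} (hα : α ∈ E.autGroup P) (ho : ∃ k : ℕ, orderOf α = p ^ k) : NEx F P (fn α) := by
  obtain ⟨k, hk⟩ := ho
  have hT := hE.2.2.2.1
  have hTS : T ≤ S := hT.1
  have hTfin : Finite T := finite_of_le hTS
  have hTp : IsPGroup p T := hS.to_le hTS
  obtain ⟨Q, hPQ, hQ⟩ := exists_nice hE.2.1 (hP.1.trans hTS)
  have hQT : Q ≤ T := conj_le_of_stronglyClosed hT hPQ hP.1
  have hQfin : Finite Q := finite_of_le hQT
  have hfin : Finite (MulAut Q) := finite_mulAut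
  have hQE := H87.Bridge.nice_of_fn hTp hE.1 (H87.Bridge.fn_sub hS hE.2.1 hE.2.2.1 hE.2.2.2.1 hQT
    (H87.Bridge.fn_of_nice hS hQ))
  obtain ⟨χ, hχN, hχ⟩ := hQ.exists_map_normalizer hS hPQ
  have hIE := sinv_of_invariant hE.2.2
  have hαi : IsIso E P P (fn α) := fn_iso hP.1 hα
  obtain ⟨g, hg, hg'⟩ := hIE P P _ χ le_rfl hP.1 hαi.isMap (fun _ hx => hαi.mem hx) hχ.isMap
  rw [hχ.eq_img] at hg
  have h1 : IsIso.congrAut hχ α ∈ E.autGroup Q := by
    refine mem_autGroup_of_isMap hQT hg fun y => ?_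
    obtain ⟨x, hx, e⟩ := hχ.surj y.2
    rw [← fn_coe, ← e, fn_congrAut hχ α hx]
    exact (hg' x hx).symm
  have hord : orderOf (IsIso.congrAut hχ α) = p ^ k := by rw [← hk]; exact (IsIso.congrAut hχ).orderOf_eq α
  have hQc : TC F T Q := hP.conj hT hχ
  refine NEx.transport (g := fn (IsIso.congrAut hχ α)) (sup_le (le_normalizerIn (hP.1.trans hTS))
    centralizerIn_le_normalizerIn) hχN hχ ?_ (fun x hx => fn_mem α hx) fun x hx => fn_congrAut hχ α hx
  have hsyl := (isFullyAutomized_iff.1 hQE.1).2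
  have hpg : IsPGroup p (Subgroup.zpowers (IsIso.congrAut hχ α)) := by
    rw [IsPGroup.iff_card]
    exact ⟨k, by rw [Nat.card_zpowers, hord]⟩
  obtain ⟨β, hβ, hc⟩ := hsyl.conj (Subgroup.zpowers_le.2 h1) hpg
  obtain ⟨t, ht, htx⟩ := fn_autInduced (hc _ (Subgroup.mem_zpowers _))
  have htN : t ∈ normalizerIn T Q := by
    refine ⟨ht, mem_normalizer_iff_of_finite.2 fun x hx => ?_⟩
    rw [← htx x hx]; exact fn_mem _ hx
  -- extend β
  have hβF := autGroup_mono hE.2.2.1 Q hβ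
  have hQS : Q ≤ S := hQT.trans hTS
  have hβi : IsIso F Q Q (fn β) := fn_iso hQS hβF
  obtain ⟨b, hb, hbe⟩ := receptive_ext_centralizer hQ.2 hβi
  have hbQ : IsIso F Q Q b := hβi.congr fun x hx => (hbe x hx).symm
  have hbm : ∀ x ∈ Q ⊔ centralizerIn S Q, b x ∈ Q ⊔ centralizerIn S Q := by
    refine mem_of_sup hb (fun x hx => Subgroup.mem_sup_left (hbQ.mem hx)) fun c hc => ?_
    exact Subgroup.mem_sup_right (map_centralizer hb le_sup_left hbQ (Subgroup.mem_sup_right hc) hc)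
  obtain ⟨l, hl, l1, l2⟩ := (H87.ConstrEq.isIso_of_self hb hbm).symm
  have htm : ∀ x ∈ Q ⊔ centralizerIn S Q, t * x * t⁻¹ ∈ Q ⊔ centralizerIn S Q := by
    refine mem_of_sup (isMap_conj F (sup_le hQS inf_le_left) (hTS ht))
      (fun x hx => Subgroup.mem_sup_left (conj_mem_of_mem_normalizer htN.2 hx)) fun c hc => ?_
    have h3 := comm_mem hT hQc htN hc
    have : t * c * t⁻¹ = c * (c⁻¹ * (t * c * t⁻¹)) := by group
    rw [this]
    exact Subgroup.mul_mem _ (Subgroup.mem_sup_right hc) (Subgroup.mem_sup_left h3)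
  have hconj : IsMap F (Q ⊔ centralizerIn S Q) (fun x => t * x * t⁻¹) :=
    isMap_conj F (sup_le hQS inf_le_left) (hTS ht)
  refine ⟨fun x => l (t * b x * t⁻¹), ((hb.comp hconj hbm).comp hl.isMap fun x hx => htm _ (hbm x hx)),
    fun x hx => ?_, fun c hc => ?_⟩
  · show l (t * b x * t⁻¹) = _
    have h3 := htx (fn β x) (fn_mem β hx)
    rw [hbe x hx, ← h3]
    have h4 : fn (β * (IsIso.congrAut hχ) α * β⁻¹) (fn β x) = fn β (fn ((IsIso.congrAut hχ) α) x) := by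
      rw [fn_mul _ _ (fn_mem β hx), fn_inv_apply β hx, fn_mul _ _ hx]
    rw [h4, ← hbe _ (fn_mem _ hx), l1 _ (Subgroup.mem_sup_left (fn_mem _ hx))]
  · show c⁻¹ * l (t * b c * t⁻¹) ∈ Q
    have hcm := Subgroup.mem_sup_right (S := Q) hc
    have hbc : b c ∈ centralizerIn S Q := map_centralizer hb le_sup_left hbQ hcm hc
    have h3 := comm_mem hT hQc htN hbc
    have h4 : t * b c * t⁻¹ = b c * ((b c)⁻¹ * (t * b c * t⁻¹)) := by group
    rw [h4, hl.isMap.map_mul (Subgroup.mem_sup_right hbc) (Subgroup.mem_sup_left h3), l1 c hcm, ← mul_assoc,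
      inv_mul_cancel, one_mul]
    obtain ⟨x, hx, e⟩ := hbQ.surj h3
    rw [← e, l1 x (Subgroup.mem_sup_left hx)]
    exact hx

end H87.NE
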