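import Cfsg.Agent.Lib.H87.NE1
set_option autoImplicit false

open Cfsg Cfsg.FusionSystem

namespace H87.NE
open H87.Base H87.Basic H87.Syl H87.Sat H87.Grow H87.Inv H87.Frat H87.Cut H87.PPow H87.Crit H87.PPr

variable {Ω : Type*} [Group Ω] {S T : Subgroup Ω} {F : FusionSystem S} {E D : FusionSystem T}
  {P Q R M N U X : Subgroup Ω} {f g h a b ζ : Ω → Ω} {p : ℕ}

theorem congrAut_image_le [Fact p.Prime] [Finite S] (hζ : IsMap F (normalizerIn S M) ζ) (hi : IsIso F M N ζ)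
    (hN : IsNice F p N) {K : Subgroup (MulAut M)} (hK : K ≤ F.autGroup M)
    (hKn : ∀ a ∈ F.autGroup M, ∀ k ∈ K, a * k * a⁻¹ ∈ K) (hKp : IsPGroup p K) {α : MulAut M}
    (hα : α ∈ autInducedBy S M ⊔ K) : IsIso.congrAut hi α ∈ autInducedBy S N := by
  have hfinN : Finite N := finite_of_le hi.le'
  have hfin : Finite (MulAut N) := finite_mulAut
  have h1 : autInducedBy S M ⊔ K ≤ (autInducedBy S N).comap (IsIso.congrAut hi).toMonoidHom := by
    refine sup_le (fun c hc => ?_) fun κ hκ => ?_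
    · obtain ⟨s, hs, e⟩ := fn_autInduced hc
      have hfinM : Finite M := finite_of_le hi.le
      have hsN : s ∈ normalizerIn S M := ⟨hs, mem_normalizer_iff_of_finite.2 fun x hx => by
        rw [← e x hx]; exact fn_mem c hx⟩
      refine mem_autInduced_of_fn (hζ.mem hsN) fun y hy => ?_
      obtain ⟨x, hx, rfl⟩ := hi.surj hy
      show fn (IsIso.congrAut hi c) (ζ x) = _
      rw [fn_congrAut hi c hx, e x hx, hζ.map_conj hsN (le_normalizerIn hi.le hx)]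
    · have h2 : K.map (IsIso.congrAut hi).toMonoidHom ≤ autInducedBy S N := by
        refine sylIn_normal_le (isFullyAutomized_iff.1 hN.1).2 ?_ ?_ (hKp.map _)
        · rintro _ ⟨k, hk, rfl⟩
          exact IsIso.congrAut_mem hi (hK hk)
        · rintro a ha _ ⟨k, hk, rfl⟩
          obtain ⟨hi', e⟩ : ∃ a' ∈ F.autGroup M, (IsIso.congrAut hi) a' = a := by
            obtain ⟨l, hl, l1, l2⟩ := hi.symm
            have hai := fn_iso hi.le' ha
            have h3 : IsIso F M M (l ∘ (fn a ∘ ζ)) := (hi.comp hai).comp hl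
            refine ⟨h3.aut, h3.aut_mem, fn_ext fun y hy => ?_⟩
            obtain ⟨x, hx, rfl⟩ := hi.surj hy
            rw [fn_congrAut hi _ hx, fn_aut h3 hx]
            show ζ (l (fn a (ζ x))) = _
            rw [l2 _ (fn_mem a (hi.mem hx))]
          refine ⟨hi' * k * hi'⁻¹, hKn _ e.1 k hk, ?_⟩
          show (IsIso.congrAut hi) (hi' * k * hi'⁻¹) = a * (IsIso.congrAut hi) k * a⁻¹
          rw [map_mul, map_mul, map_inv, e.2]
      exact h2 ⟨κ, hκ, rfl⟩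
  exact h1 hα

/-- Extending `δ ∈ Aut_F(M)` to `X ≤ N_S(M)`, up to moving `M` to a nice conjugate. -/
theorem ext_basic [Fact p.Prime] [Finite S] (hS : IsPGroup p S) (hF : F.IsSaturated p) {δ : MulAut M}
    (hδ : δ ∈ F.autGroup M) (hM : M ≤ S) (hX : X ≤ normalizerIn S M)
    {K : Subgroup (MulAut M)} (hK : K ≤ F.autGroup M)
    (hKn : ∀ a ∈ F.autGroup M, ∀ k ∈ K, a * k * a⁻¹ ∈ K) (hKp : IsPGroup p K)
    (hx : ∀ x ∈ X, ∃ α ∈ autInducedBy S M ⊔ K, ∀ m ∈ M, fn δ (x * m * x⁻¹) = fn α (fn δ m)) :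
    ∃ ζ N g, IsNice F p N ∧ IsMap F (normalizerIn S M) ζ ∧ IsIso F M N ζ ∧ IsMap F (M ⊔ X) g ∧
      ∀ m ∈ M, g m = ζ (fn δ m) := by
  obtain ⟨N, hMN, hN⟩ := exists_nice hF hM
  obtain ⟨ζ, hζ, hi⟩ := hN.exists_map_normalizer hS hMN
  have hδi : IsIso F M M (fn δ) := fn_iso hM hδ
  have hcomp : IsIso F M N (ζ ∘ fn δ) := hδi.comp hi
  obtain ⟨g, hg, hge⟩ := (isReceptive_iff.1 hN.2).2 M _ hcomp
  refine ⟨ζ, N, g, hN, hζ, hi, hg.mono (sup_le (le_nphi hcomp.isMap) fun x hxX => ?_), hge⟩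
  have hxN := hX hxX
  obtain ⟨α, hα, e⟩ := hx x hxX
  obtain ⟨s, hs, e'⟩ := fn_autInduced (congrAut_image_le hζ hi hN hK hKn hKp hα)
  rw [mem_nphi]
  refine ⟨hxN.1, hxN.2, s, hs, fun m hm => ?_⟩
  simp only [Function.comp_apply]
  rw [e m hm, ← e' _ (hi.mem (fn_mem δ hm)), fn_congrAut hi α (fn_mem δ hm)]

theorem stb_normal {hPM : P ≤ M} (h : ∀ a ∈ F.autGroup M, ∀ x ∈ P, fn a x ∈ P) :
    ∀ a ∈ F.autGroup M, ∀ k ∈ stb M P hPM ⊓ F.autGroup M, a * k * a⁻¹ ∈ stb M P hPM ⊓ F.autGroup M := by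
  rintro a ha k ⟨hk, hkF⟩
  have hai := Subgroup.inv_mem _ ha
  refine ⟨⟨fun x hx => ?_, fun x hx => ?_⟩, Subgroup.mul_mem _ (Subgroup.mul_mem _ ha hkF) hai⟩
  · rw [fn_mul _ _ (hPM hx), fn_mul _ _ (fn_mem _ (hPM hx)), hk.1 _ (h _ hai x hx), fn_apply_inv a (hPM hx)]
  · rw [fn_mul _ _ hx, fn_mul _ _ (fn_mem _ hx)]
    have h1 := hk.2 _ (fn_mem a⁻¹ hx)
    have h2 : fn k (fn a⁻¹ x) = fn a⁻¹ x * ((fn a⁻¹ x)⁻¹ * fn k (fn a⁻¹ x)) := by group
    rw [h2, fn_map_mul a (fn_mem _ hx) (hPM h1), fn_apply_inv a hx, ← mul_assoc, inv_mul_cancel, one_mul]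
    exact h _ ha _ h1

theorem mem_commute_sup {A B : Subgroup Ω} (hc : ∀ x ∈ A, ∀ y ∈ B, x * y = y * x) {y : Ω} (hy : y ∈ A ⊔ B) :
    ∃ x ∈ A, ∃ t ∈ B, x * t = y :=
  (mem_sup_of_conj (P := A) (T := B) fun x hx t ht => by
    rw [hc x hx t ht, mul_inv_cancel_right]; exact ht).1 hy

/-- (H): a `p'`-automorphism of `P C_S(T)` trivial on `P` extends to one of `T C_S(T)` trivial on `T`. -/
theorem ext_H [Fact p.Prime] [Finite S] (hS : IsPGroup p S) (hF : F.IsSaturated p) (hT : F.StronglyClosed T) :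
    ∀ P, TC F T P → ∀ δ ∈ F.autGroup (P ⊔ centralizerIn S T), (orderOf δ).Coprime p → (∀ x ∈ P, fn δ x = x) →
      ∃ δ' ∈ F.autGroup (T ⊔ centralizerIn S T), (∀ x ∈ T, fn δ' x = x) ∧
        ∀ c ∈ centralizerIn S T, fn δ' c = fn δ c := by
  have hTS := hT.1
  have hTfin : Finite T := finite_of_le hTS
  have hTp : IsPGroup p T := hS.to_le hTS
  intro P hP
  obtain ⟨n, hn⟩ : ∃ n, Nat.card T - Nat.card P = n := ⟨_, rfl⟩
  induction n using Nat.strong_induction_on generalizing P with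
  | _ n ih =>
  intro δ hδ ho hδP
  by_cases hPT : P = T
  · subst hPT
    exact ⟨δ, hδ, hδP, fun _ _ => rfl⟩
  have hlt : P < T := lt_of_le_of_ne hP.1 hPT
  have hNlt := lt_normalizerIn hTp hlt
  set R := normalizerIn T P with hR
  have hRT : R ≤ T := inf_le_left
  have hPS : P ≤ S := hP.1.trans hTS
  have hCS : centralizerIn S T ≤ S := inf_le_left
  have hTC : ∀ x ∈ T, ∀ c ∈ centralizerIn S T, x * c = c * x := fun x hx c hc => (mem_centralizerIn.1 hc).2 x hx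
  have hM : P ⊔ centralizerIn S T ≤ S := sup_le hPS hCS
  have hMfin : Finite ↥(P ⊔ centralizerIn S T) := finite_of_le hM
  have hPfin : Finite P := finite_of_le hPS
  have hRfin : Finite R := finite_of_le (hRT.trans hTS)
  -- M ∩ T = P
  have hMT : ∀ x ∈ P ⊔ centralizerIn S T, x ∈ T → x ∈ P := by
    intro x hx hxT
    obtain ⟨u, hu, c, hc, rfl⟩ := mem_commute_sup (fun x hx c hc => hTC x (hP.1 hx) c hc) hx
    refine P.mul_mem hu (hP.mem hTS ?_ fun y hy => hTC y (hP.1 hy) c hc)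
    have := T.mul_mem (T.inv_mem (hP.1 hu)) hxT
    rwa [inv_mul_cancel_left] at this
  -- P invariant under Aut_F(M)
  have hPinv : ∀ a ∈ F.autGroup (P ⊔ centralizerIn S T), ∀ x ∈ P, fn a x ∈ P := by
    intro a ha x hx
    refine hMT _ (fn_mem a (Subgroup.mem_sup_left hx)) ?_
    exact mem_of_stronglyClosed hT (fn_iso hM ha).isMap (Subgroup.mem_sup_left hx) (hP.1 hx)
  let K := stb (P ⊔ centralizerIn S T) P le_sup_left ⊓ F.autGroup (P ⊔ centralizerIn S T)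
  have hKp : IsPGroup p K := (stb_isPGroup (hS.to_le hPS)).to_le inf_le_left
  -- R normalizes M
  have hRM : ∀ r ∈ R, ∀ x ∈ P ⊔ centralizerIn S T, r * x * r⁻¹ ∈ P ⊔ centralizerIn S T := by
    intro r hr
    refine mem_of_sup (isMap_conj F hM (hTS (hRT hr)))
      (fun x hx => Subgroup.mem_sup_left (conj_mem_of_mem_normalizer hr.2 hx)) fun c hc => ?_
    rw [hTC r (hRT hr) c hc, mul_inv_cancel_right]
    exact Subgroup.mem_sup_right hc
  have hRN : R ≤ normalizerIn S (P ⊔ centralizerIn S T) := fun r hr =>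
    ⟨hTS (hRT hr), mem_normalizer_iff_of_finite.2 (hRM r hr)⟩
  have hδi : IsIso F _ _ (fn δ) := fn_iso hM hδ
  obtain ⟨ζ, N, g, hN, hζ, hi, hg, hge⟩ := ext_basic (X := R) hS hF hδ hM hRN inf_le_right (stb_normal hPinv) hKp (by
    intro r hr
    have hrN := hRN hr
    have hc := cj_mem (K := S) hrN.2 hrN.1
    have hcF : cj (P ⊔ centralizerIn S T) hrN.2 ∈ F.autGroup (P ⊔ centralizerIn S T) :=
      autInducedBy_le_autGroup F hM hc
    -- α = δ c δ⁻¹ = c (c⁻¹ δ c δ⁻¹)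
    refine ⟨δ * cj _ hrN.2 * δ⁻¹, ?_, fun m hm => ?_⟩
    · have h1 : δ * cj _ hrN.2 * δ⁻¹ = cj _ hrN.2 * ((cj _ hrN.2)⁻¹ * δ * cj _ hrN.2 * δ⁻¹) := by group
      rw [h1]
      refine Subgroup.mul_mem _ (Subgroup.mem_sup_left hc) (Subgroup.mem_sup_right ⟨⟨fun x hx => ?_, fun x hx => ?_⟩, ?_⟩)
      · have hxM := Subgroup.mem_sup_left (T := centralizerIn S T) hx
        have hδx : fn δ⁻¹ x = x := by
          have := fn_inv_apply δ hxM
          rwa [hδP x hx] at this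
        have hcx : fn (cj _ hrN.2) x ∈ P := by
          rw [fn_cj _ hxM]; exact conj_mem_of_mem_normalizer hr.2 hx
        rw [fn_mul _ _ hxM, fn_mul _ _ (fn_mem _ hxM), fn_mul _ _ (fn_mem _ (fn_mem _ hxM)), hδx, hδP _ hcx,
          fn_inv_apply _ hxM]
      · -- modulo P, both act trivially
        obtain ⟨u, hu, c, hc', rfl⟩ := mem_commute_sup (fun x hx c hc => hTC x (hP.1 hx) c hc) hx
        have key : ∀ y ∈ P ⊔ centralizerIn S T, y⁻¹ * (r * y * r⁻¹) ∈ P := by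
          intro y hy
          obtain ⟨v, hv, d, hd, rfl⟩ := mem_commute_sup (fun x hx c hc => hTC x (hP.1 hx) c hc) hy
          have h2 : (v * d)⁻¹ * (r * (v * d) * r⁻¹) = d⁻¹ * (v⁻¹ * (r * v * r⁻¹)) * (r * d * r⁻¹) := by group
          have h3 : r * d * r⁻¹ = d := by rw [hTC r (hRT hr) d hd, mul_inv_cancel_right]
          have h4 : v⁻¹ * (r * v * r⁻¹) ∈ P := P.mul_mem (P.inv_mem hv) (conj_mem_of_mem_normalizer hr.2 hv)
          have h5 := hTC _ (hP.1 h4) d hd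
          rw [h2, h3, mul_assoc, h5, ← mul_assoc, inv_mul_cancel, one_mul]
          exact h4
        have hcmod : ∀ y ∈ P ⊔ centralizerIn S T, y⁻¹ * fn (cj _ hrN.2) y ∈ P := fun y hy => by
          rw [fn_cj _ hy]; exact key y hy
        have hcimod : ∀ y ∈ P ⊔ centralizerIn S T, y⁻¹ * fn (cj _ hrN.2)⁻¹ y ∈ P := fun y hy => by
          have h2 := hcmod _ (fn_mem (cj _ hrN.2)⁻¹ hy)
          rw [fn_apply_inv _ hy] at h2
          have : y⁻¹ * fn (cj _ hrN.2)⁻¹ y = ((fn (cj _ hrN.2)⁻¹ y)⁻¹ * y)⁻¹ := by group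
          rw [this]; exact P.inv_mem h2
        set y := u * c with hy
        have e1 := fn_mem δ⁻¹ hx
        have e2 := fn_mem (cj _ hrN.2) e1
        have e3 := fn_mem δ e2
        rw [fn_mul _ _ hx, fn_mul _ _ e1, fn_mul _ _ e2]
        -- step 1
        have s1 := hcmod _ e1
        have s2 : fn δ (fn (cj _ hrN.2) (fn δ⁻¹ y)) = y * fn δ ((fn δ⁻¹ y)⁻¹ * fn (cj _ hrN.2) (fn δ⁻¹ y)) := by
          have h6 : fn (cj _ hrN.2) (fn δ⁻¹ y) = fn δ⁻¹ y * ((fn δ⁻¹ y)⁻¹ * fn (cj _ hrN.2) (fn δ⁻¹ y)) := by group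
          conv_lhs => rw [h6]
          rw [fn_map_mul δ e1 (Subgroup.mem_sup_left s1), fn_apply_inv δ hx]
        have s3 := hPinv δ hδ _ s1
        have s4 := hcimod _ e3
        have h7 : y⁻¹ * fn (cj _ hrN.2)⁻¹ (fn δ (fn (cj _ hrN.2) (fn δ⁻¹ y))) =
            (y⁻¹ * fn δ (fn (cj _ hrN.2) (fn δ⁻¹ y))) * ((fn δ (fn (cj _ hrN.2) (fn δ⁻¹ y)))⁻¹ *
              fn (cj _ hrN.2)⁻¹ (fn δ (fn (cj _ hrN.2) (fn δ⁻¹ y)))) := by group
        rw [h7]
        refine P.mul_mem ?_ s4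
        rw [s2, ← mul_assoc, inv_mul_cancel, one_mul]
        exact s3
      · exact Subgroup.mul_mem _ (Subgroup.mul_mem _ (Subgroup.mul_mem _ (Subgroup.inv_mem _ hcF) hδ) hcF)
          (Subgroup.inv_mem _ hδ)
    · rw [fn_mul _ _ (fn_mem _ hm), fn_mul _ _ (fn_mem _ (fn_mem _ hm)), fn_inv_apply δ hm, fn_cj _ hm])
  -- the larger group
  have hXle : R ⊔ centralizerIn S T ≤ (P ⊔ centralizerIn S T) ⊔ R :=
    sup_le le_sup_right (le_sup_right.trans le_sup_left)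
  have hXN : R ⊔ centralizerIn S T ≤ normalizerIn S (P ⊔ centralizerIn S T) :=
    sup_le hRN (le_sup_right.trans (le_normalizerIn hM))
  have hPR : P ≤ R := hNlt.le
  have hgX : IsMap F (R ⊔ centralizerIn S T) g := hg.mono hXle
  have hζX : IsMap F (R ⊔ centralizerIn S T) ζ := hζ.mono hXN
  have hPζ : TC F T (img P ζ) := hP.conj hT ((hi.restrict (le_sup_left : P ≤ _)))
  -- g(X) ≤ ζ(X)
  have hgR : ∀ r ∈ R, ∃ u ∈ P, g r = ζ (r * u) := by
    intro r hr
    have hrX := Subgroup.mem_sup_left (T := centralizerIn S T) hr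
    have h1 : (ζ r)⁻¹ * g r ∈ img P ζ := by
      refine hPζ.mem hTS (T.mul_mem (T.inv_mem (mem_of_stronglyClosed hT hζX hrX (hRT hr)))
        (mem_of_stronglyClosed hT hgX hrX (hRT hr))) fun y hy => ?_
      obtain ⟨u, hu, rfl⟩ := (mem_img (hζX.mono (hPR.trans le_sup_left))).1 hy
      have huX := Subgroup.mem_sup_left (T := centralizerIn S T) (hPR hu)
      have hgu : ∀ v ∈ P, g v = ζ v := fun v hv => by
        rw [hge v (Subgroup.mem_sup_left hv), hδP v hv]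
      have h2 := hgX.map_conj hrX huX
      rw [hgu u hu, hgu _ (conj_mem_of_mem_normalizer hr.2 hu), hζX.map_conj hrX huX] at h2
      calc ζ u * ((ζ r)⁻¹ * g r) = (ζ r)⁻¹ * (ζ r * ζ u * (ζ r)⁻¹) * g r := by group
        _ = (ζ r)⁻¹ * (g r * ζ u * (g r)⁻¹) * g r := by rw [h2]
        _ = _ := by group
    obtain ⟨u, hu, e⟩ := (mem_img (hζX.mono (hPR.trans le_sup_left))).1 h1
    refine ⟨u, hu, ?_⟩
    rw [hζX.map_mul hrX (Subgroup.mem_sup_left (hPR hu)), e]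
    group
  have hgm : ∀ x ∈ R ⊔ centralizerIn S T, g x ∈ img (R ⊔ centralizerIn S T) ζ := by
    refine mem_of_sup hgX (fun r hr => ?_) fun c hc => ?_
    · obtain ⟨u, hu, e⟩ := hgR r hr
      rw [e]; exact apply_mem_img (Subgroup.mem_sup_left (R.mul_mem hr (hPR hu)))
    · rw [hge c (Subgroup.mem_sup_right hc)]
      have h1 := fn_mem δ (Subgroup.mem_sup_right (S := P) hc)
      exact apply_mem_img ((sup_le_sup_right hPR _) h1)
  obtain ⟨l, hl, l1, l2⟩ := hζX.isIso.symm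
  have hδ₁ : IsMap F (R ⊔ centralizerIn S T) (l ∘ g) := hgX.comp hl.isMap hgm
  have hδ₁i : IsIso F (R ⊔ centralizerIn S T) (R ⊔ centralizerIn S T) (l ∘ g) :=
    H87.ConstrEq.isIso_of_self hδ₁ fun x hx => hl.mem (hgm x hx)
  have hδ₁M : ∀ m ∈ P ⊔ centralizerIn S T, (l ∘ g) m = fn δ m := by
    intro m hm
    show l (g m) = _
    rw [hge m hm, l1 _ ((sup_le_sup_right hPR _) (fn_mem δ hm))]
  have hδ₁R : ∀ r ∈ R, r⁻¹ * (l ∘ g) r ∈ P := by
    intro r hr
    obtain ⟨u, hu, e⟩ := hgR r hr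
    show r⁻¹ * l (g r) ∈ P
    rw [e, l1 _ (Subgroup.mem_sup_left (R.mul_mem hr (hPR hu))), ← mul_assoc, inv_mul_cancel, one_mul]
    exact hu
  have hXS : R ⊔ centralizerIn S T ≤ S := hδ₁.le
  have hXfin : Finite ↥(R ⊔ centralizerIn S T) := finite_of_le hXS
  obtain ⟨k, hk1, hk2⟩ := exists_coprime_power (Q := P ⊔ centralizerIn S T) (sup_le_sup_right hPR _)
    (α := hδ₁i.aut) (β := δ) (fun x hx => by rw [hδ₁i.aut_apply, hδ₁M x hx, fn_apply δ hx]) ho
  have hγF : hδ₁i.aut ^ k ∈ F.autGroup (R ⊔ centralizerIn S T) := Subgroup.pow_mem _ hδ₁i.aut_mem k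
  have hγM : ∀ m ∈ P ⊔ centralizerIn S T, fn (hδ₁i.aut ^ k) m = fn δ m := fun m hm => by
    rw [fn_apply _ ((sup_le_sup_right hPR _) hm), fn_apply δ hm]
    exact (hk2 m hm).symm
  -- trivial on R
  have hγR : ∀ j : ℕ, ∀ r ∈ R, r⁻¹ * fn (hδ₁i.aut ^ j) r ∈ P := by
    intro j
    induction j with
    | zero => intro r hr; rw [pow_zero, fn_one (Subgroup.mem_sup_left hr), inv_mul_cancel]; exact P.one_mem
    | succ j ihj =>
      intro r hr
      have hrX := Subgroup.mem_sup_left (T := centralizerIn S T) hr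
      have h1 := ihj r hr
      rw [fn_pow_succ _ j hrX]
      have h2 : fn (hδ₁i.aut ^ j) r = r * (r⁻¹ * fn (hδ₁i.aut ^ j) r) := by group
      rw [h2, fn_map_mul _ hrX (Subgroup.mem_sup_left (hPR h1)), fn_aut hδ₁i hrX,
        fn_aut hδ₁i (Subgroup.mem_sup_left (hPR h1)), ← mul_assoc]
      refine P.mul_mem (hδ₁R r hr) ?_
      rw [hδ₁M _ (Subgroup.mem_sup_left h1), hδP _ h1]
      exact h1
  have hγR1 : ∀ r ∈ R, fn (hδ₁i.aut ^ k) r = r := by
    have hmem : ∀ r ∈ R, fn (hδ₁i.aut ^ k) r ∈ R := fun r hr => by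
      have h1 := R.mul_mem hr (hPR (hγR k r hr))
      rwa [mul_inv_cancel_left] at h1
    have hres : IsIso F R R (fn (hδ₁i.aut ^ k)) :=
      H87.ConstrEq.isIso_of_self ((fn_iso hXS hγF).isMap.mono le_sup_left) hmem
    have h1 : hres.aut ∈ stb R P hPR := by
      refine ⟨fun x hx => ?_, fun x hx => ?_⟩
      · rw [fn_aut hres (hPR hx), hγM x (Subgroup.mem_sup_left hx), hδP x hx]
      · rw [fn_aut hres hx]; exact hγR k x hx
    have h2 : (orderOf hres.aut).Coprime p := by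
      refine Nat.Coprime.coprime_dvd_left ?_ hk1
      exact orderOf_restrict_dvd (Q := R) (P := R ⊔ centralizerIn S T) le_sup_left fun x hx => by
        rw [hres.aut_apply, ← fn_apply]
    have h3 := stb_coprime (hS.to_le hPS) h1 h2
    intro r hr
    have h4 := fn_aut hres hr
    rw [h3, fn_one hr] at h4
    exact h4.symm
  have hc1 : Nat.card P < Nat.card R := card_lt' (hRT.trans hTS) hNlt
  have hc2 : Nat.card R ≤ Nat.card T := Nat.card_le_card_of_injective _ (Subgroup.inclusion_injective hRT)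
  obtain ⟨δ', hδ', d1, d2⟩ := ih (Nat.card T - Nat.card R) (by omega) R (hP.up hPR hRT) rfl _ hγF hk1 hγR1
  exact ⟨δ', hδ', d1, fun c hc => by rw [d2 c hc, hγM c (Subgroup.mem_sup_right hc)]⟩

end H87.NE
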