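import Cfsg.Agent.Lib.H87.NE2
set_option autoImplicit false

open Cfsg Cfsg.FusionSystem

namespace H87.NE
open H87.Base H87.Basic H87.Syl H87.Sat H87.Grow H87.Inv H87.Frat H87.Cut H87.PPow H87.Crit H87.PPr

variable {Ω : Type*} [Group Ω] {S T : Subgroup Ω} {F : FusionSystem S} {E D E₀ : FusionSystem T}
  {P Q R M N U X : Subgroup Ω} {f g h a b ζ : Ω → Ω} {p : ℕ}

def CExt (F : FusionSystem S) (T P : Subgroup Ω) (f : Ω → Ω) : Prop :=
  ∃ g, IsMap F (P ⊔ centralizerIn S T) g ∧ (∀ x ∈ P, g x = f x) ∧ ∀ c ∈ centralizerIn S T, c⁻¹ * g c ∈ T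

theorem centralizerIn_anti (h : P ≤ Q) : centralizerIn S Q ≤ centralizerIn S P := by
  intro c hc
  rw [mem_centralizerIn] at hc ⊢
  exact ⟨hc.1, fun x hx => hc.2 x (h hx)⟩

theorem CExt.of_nex (hP : P ≤ T) (h : NEx F P f) : CExt F T P f := by
  obtain ⟨g, hg, g1, g2⟩ := h
  exact ⟨g, hg.mono (sup_le_sup_left (centralizerIn_anti hP) _), g1, fun c hc => hP (g2 c (centralizerIn_anti hP hc))⟩

/-- for `g` extending `f : P → Q` to `P C_S(T)`, the correction on `C_S(T)` lies in `Q`. -/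
theorem cext_mem (hT : F.StronglyClosed T) (hQ : TC F T Q) (hP : P ≤ T) (hg : IsMap F (P ⊔ centralizerIn S T) g)
    (hi : IsIso F P Q g) {c : Ω} (hc : c ∈ centralizerIn S T) (h : c⁻¹ * g c ∈ T) : c⁻¹ * g c ∈ Q := by
  refine hQ.mem hT.1 h fun y hy => ?_
  have hcP : c ∈ centralizerIn S P := centralizerIn_anti hP hc
  have h1 := map_centralizer hg le_sup_left hi (Subgroup.mem_sup_right hc) hcP
  have h2 := (mem_centralizerIn.1 h1).2 y hy
  have h3 := (mem_centralizerIn.1 hc).2 y (hQ.1 hy)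
  have h4 : y * c⁻¹ = c⁻¹ * y := by
    calc y * c⁻¹ = c⁻¹ * (c * y) * c⁻¹ := by group
      _ = c⁻¹ * (y * c) * c⁻¹ := by rw [h3]
      _ = _ := by group
  rw [← mul_assoc, h4, mul_assoc, h2, mul_assoc]

theorem exists_J (hE : E.IsSubsystemOf F) (hT : F.StronglyClosed T) : ∃ J : FusionSystem T, ∀ P f, IsMap J P f ↔
    IsMap E P f ∧ (TC F T P → CExt F T P f) := by
  have hTS := hT.1
  obtain ⟨J, hJ⟩ := exists_cut E le_rfl (fun P f => TC F T P → CExt F T P f)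
    (by
      intro P f g hP hf hfT e h hP'
      obtain ⟨k, hk, k1, k2⟩ := h hP'
      exact ⟨k, hk, fun x hx => by rw [k1 x hx, e x hx], k2⟩)
    (by
      intro P hP t ht hP'
      refine ⟨fun x => t * x * t⁻¹, isMap_conj F (sup_le (hP.trans hTS) inf_le_left) (hTS ht), fun _ _ => rfl,
        fun c hc => ?_⟩
      show c⁻¹ * (t * c * t⁻¹) ∈ T
      rw [(mem_centralizerIn.1 hc).2 t ht, mul_inv_cancel_right, inv_mul_cancel]
      exact T.one_mem)
    (by
      intro P Q f g hP hQ hf hg hfQ hgT h1 h2 hP'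
      obtain ⟨k, hk, k1, k2⟩ := h1 hP'
      have hfF := isMap_of_sub hE hf
      have hkP : IsIso F P (img P f) k := (hfF.isIso).congr fun x hx => (k1 x hx).symm
      have hfP : TC F T (img P f) := hP'.conj hT hfF.isIso
      have him : img P f ≤ Q := by
        intro y hy
        obtain ⟨x, hx, rfl⟩ := (mem_img hf).1 hy
        exact hfQ x hx
      obtain ⟨l, hl, l1, l2⟩ := h2 (hfP.up him hQ)
      have hm : ∀ x ∈ P ⊔ centralizerIn S T, k x ∈ Q ⊔ centralizerIn S T := by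
        refine mem_of_sup hk (fun x hx => Subgroup.mem_sup_left (him (hkP.mem hx))) fun c hc => ?_
        have h3 := cext_mem hT hfP hP hk hkP hc (k2 c hc)
        have h4 : k c = c * (c⁻¹ * k c) := by group
        rw [h4]
        exact Subgroup.mul_mem _ (Subgroup.mem_sup_right hc) (Subgroup.mem_sup_left (him h3))
      refine ⟨l ∘ k, hk.comp hl hm, fun x hx => ?_, fun c hc => ?_⟩
      · show l (k x) = g (f x)
        rw [k1 x hx, l1 _ (hfQ x hx)]
      · show c⁻¹ * l (k c) ∈ T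
        have h3 := him (cext_mem hT hfP hP hk hkP hc (k2 c hc))
        have h4 : k c = c * (c⁻¹ * k c) := by group
        rw [h4, hl.map_mul (Subgroup.mem_sup_right hc) (Subgroup.mem_sup_left h3), ← mul_assoc, l1 _ h3]
        exact T.mul_mem (l2 c hc) (hgT _ h3))
    (by
      intro P Q f g hP hQ hf hg e1 e2 h hQ'
      have hfF := isIso_of_sub hE hf
      have hgF := isIso_of_sub hE hg
      obtain ⟨k, hk, k1, k2⟩ := h (hQ'.conj hT hgF)
      have hkP : IsIso F P Q k := hfF.congr fun x hx => (k1 x hx).symm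
      obtain ⟨l, hl, l1, l2⟩ := hk.isIso.symm
      have hval : ∀ c ∈ centralizerIn S T, ∃ x ∈ P, k (c * x) = c := by
        intro c hc
        have h3 := cext_mem hT hQ' hP hk hkP hc (k2 c hc)
        obtain ⟨x, hx, e⟩ := hkP.surj (Q.inv_mem h3)
        refine ⟨x, hx, ?_⟩
        rw [hk.map_mul (Subgroup.mem_sup_right hc) (Subgroup.mem_sup_left hx), e]
        group
      have hle : Q ⊔ centralizerIn S T ≤ img (P ⊔ centralizerIn S T) k := by
        refine sup_le (fun y hy => ?_) fun c hc => ?_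
        · obtain ⟨x, hx, rfl⟩ := hkP.surj hy
          exact apply_mem_img (Subgroup.mem_sup_left hx)
        · obtain ⟨x, hx, e⟩ := hval c hc
          rw [← e]
          exact apply_mem_img (Subgroup.mul_mem _ (Subgroup.mem_sup_right hc) (Subgroup.mem_sup_left hx))
      refine ⟨l, hl.isMap.mono hle, fun y hy => ?_, fun c hc => ?_⟩
      · obtain ⟨x, hx, rfl⟩ := hkP.surj hy
        rw [l1 x (Subgroup.mem_sup_left hx), k1 x hx, e1 x hx]
      · obtain ⟨x, hx, e⟩ := hval c hc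
        have h5 : l c = c * x := by
          have := l1 (c * x) (Subgroup.mul_mem _ (Subgroup.mem_sup_right hc) (Subgroup.mem_sup_left hx))
          rwa [e] at this
        rw [h5, ← mul_assoc, inv_mul_cancel, one_mul]
        exact hP hx)
  refine ⟨J, fun P f => ?_⟩
  rw [hJ]
  exact ⟨fun h => ⟨h.1, h.2.2.2⟩, fun h => ⟨h.1, h.1.le, fun x hx => h.1.mem hx, h.2⟩⟩

theorem extC_of_nex [Finite S] (hT : T ≤ S) {α : MulAut T} (hα : α ∈ F.autGroup T) (h : NEx F T (fn α)) :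
    ExtC F T (fn α) := by
  obtain ⟨g, hg, g1, g2⟩ := h
  have hi : IsIso F T T g := (fn_iso hT hα).congr fun x hx => (g1 x hx).symm
  have hC : ∀ c ∈ centralizerIn S T, g c ∈ centralizerIn S T := fun c hc =>
    map_centralizer hg le_sup_left hi (Subgroup.mem_sup_right hc) hc
  have hm : ∀ x ∈ T ⊔ centralizerIn S T, g x ∈ T ⊔ centralizerIn S T :=
    mem_of_sup hg (fun x hx => Subgroup.mem_sup_left (hi.mem hx)) fun c hc => Subgroup.mem_sup_right (hC c hc)
  refine ⟨g, H87.ConstrEq.isIso_of_self hg hm, g1, fun c hc => ⟨g2 c hc, ?_⟩⟩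
  exact Subgroup.mul_mem _ (Subgroup.inv_mem _ hc.2) (hC c hc).2

/-- the key step: a `p'`-automorphism of `T` whose restriction to some `P` extends well, extends well. -/
theorem extC_of_cext [Fact p.Prime] [Finite S] (hS : IsPGroup p S) (hF : F.IsSaturated p) (hT : F.StronglyClosed T)
    (hP : TC F T P) {α : MulAut T} (hα : α ∈ F.autGroup T) (ho : (orderOf α).Coprime p) (hc : CExt F T P (fn α)) :
    ExtC F T (fn α) := by
  have hTS := hT.1
  have hCS : centralizerIn S T ≤ S := inf_le_left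
  have hTCS : T ⊔ centralizerIn S T ≤ S := sup_le hTS hCS
  have hTCfin : Finite ↥(T ⊔ centralizerIn S T) := finite_of_le hTCS
  obtain ⟨b, hb, hbT, hbC⟩ := exists_ext_TC hS hF hT (fn_iso hTS hα)
  obtain ⟨k, hk1, hk2⟩ := exists_coprime_power (Q := T) (P := T ⊔ centralizerIn S T) le_sup_left
    (α := hb.aut) (β := α) (fun x hx => by rw [hb.aut_apply, hbT x hx, fn_apply α hx]) ho
  set γ := hb.aut ^ k with hγ
  have hγF : γ ∈ F.autGroup (T ⊔ centralizerIn S T) := Subgroup.pow_mem _ hb.aut_mem k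
  have hγT : ∀ x ∈ T, fn γ x = fn α x := fun x hx => by
    rw [fn_apply _ (Subgroup.mem_sup_left hx), fn_apply α hx]; exact (hk2 x hx).symm
  have hγiF := Subgroup.inv_mem _ hγF
  have hγiT : ∀ x ∈ T, fn γ⁻¹ (fn α x) = x := fun x hx => by
    rw [← hγT x hx, fn_inv_apply γ (Subgroup.mem_sup_left hx)]
  have hγii : IsIso F T T (fn γ⁻¹) := by
    obtain ⟨l, hl, l1, l2⟩ := (fn_iso hTS hα).symm
    refine hl.congr fun y hy => ?_
    obtain ⟨x, hx, rfl⟩ := (fn_iso hTS hα).surj hy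
    rw [l1 x hx, hγiT x hx]
  have hγiC : ∀ c ∈ centralizerIn S T, fn γ⁻¹ c ∈ centralizerIn S T := fun c hc =>
    map_centralizer (fn_iso hTCS hγiF).isMap le_sup_left hγii (Subgroup.mem_sup_right hc) hc
  obtain ⟨g, hg, g1, g2⟩ := hc
  have hPS := hP.1.trans hTS
  have hPC : P ⊔ centralizerIn S T ≤ T ⊔ centralizerIn S T := sup_le_sup_right hP.1 _
  have hPCS : P ⊔ centralizerIn S T ≤ S := hPC.trans hTCS
  have hPCfin : Finite ↥(P ⊔ centralizerIn S T) := finite_of_le hPCS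
  have hgP : IsIso F P (img P (fn α)) g :=
    (((fn_iso hTS hα).isMap.mono hP.1).isIso).congr fun x hx => (g1 x hx).symm
  have hQ : TC F T (img P (fn α)) := hP.conj hT ((fn_iso hTS hα).isMap.mono hP.1).isIso
  have hgC : ∀ c ∈ centralizerIn S T, ∃ u ∈ P, g c = c * fn α u := by
    intro c hc
    obtain ⟨u, hu, e⟩ := (mem_img ((fn_iso (F := F) hTS hα).isMap.mono hP.1)).1 (cext_mem hT hQ hP.1 hg hgP hc (g2 c hc))
    exact ⟨u, hu, by rw [e]; group⟩
  have hgm : ∀ x ∈ P ⊔ centralizerIn S T, g x ∈ T ⊔ centralizerIn S T := by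
    refine mem_of_sup hg (fun x hx => ?_) fun c hc => ?_
    · rw [g1 x hx]; exact Subgroup.mem_sup_left (fn_mem α (hP.1 hx))
    · obtain ⟨u, hu, e⟩ := hgC c hc
      rw [e]
      exact Subgroup.mul_mem _ (Subgroup.mem_sup_right hc) (Subgroup.mem_sup_left (fn_mem α (hP.1 hu)))
  have hδ₀ : IsMap F (P ⊔ centralizerIn S T) (fn γ⁻¹ ∘ g) := hg.comp (fn_iso hTCS hγiF).isMap hgm
  have hδP : ∀ x ∈ P, (fn γ⁻¹ ∘ g) x = x := fun x hx => by
    show fn γ⁻¹ (g x) = x
    rw [g1 x hx, hγiT x (hP.1 hx)]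
  have hδC : ∀ c ∈ centralizerIn S T, ∃ u ∈ P, (fn γ⁻¹ ∘ g) c = fn γ⁻¹ c * u := by
    intro c hc
    obtain ⟨u, hu, e⟩ := hgC c hc
    refine ⟨u, hu, ?_⟩
    show fn γ⁻¹ (g c) = _
    rw [e, fn_map_mul _ (Subgroup.mem_sup_right hc) (Subgroup.mem_sup_left (fn_mem α (hP.1 hu))), hγiT u (hP.1 hu)]
  have hδi : IsIso F (P ⊔ centralizerIn S T) (P ⊔ centralizerIn S T) (fn γ⁻¹ ∘ g) := by
    refine H87.ConstrEq.isIso_of_self hδ₀ (mem_of_sup hδ₀ (fun x hx => ?_) fun c hc => ?_)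
    · rw [hδP x hx]; exact Subgroup.mem_sup_left hx
    · obtain ⟨u, hu, e⟩ := hδC c hc
      rw [e]
      exact Subgroup.mul_mem _ (Subgroup.mem_sup_right (hγiC c hc)) (Subgroup.mem_sup_left hu)
  set δ := hδi.aut with hδ
  have hδF : δ ∈ F.autGroup (P ⊔ centralizerIn S T) := hδi.aut_mem
  have hfinA : Finite (MulAut ↥(P ⊔ centralizerIn S T)) := finite_mulAut
  obtain ⟨j, hj, m, hm, hjm⟩ := exists_exponent' (p := p) (orderOf γ) (orderOf δ) hk1 (orderOf_pos δ)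
  have hδj : (orderOf (δ ^ j)).Coprime p := by
    refine Nat.Coprime.coprime_dvd_left (orderOf_dvd_of_pow_eq_one ?_) hm
    rw [← pow_mul]
    exact orderOf_dvd_iff_pow_eq_one.1 hjm
  have hpow : ∀ i : ℕ, (∀ x ∈ P, fn (δ ^ i) x = x) ∧ ∀ c ∈ centralizerIn S T, ∃ u ∈ P,
      fn (δ ^ i) c = fn (γ⁻¹ ^ i) c * u := by
    intro i
    induction i with
    | zero =>
      refine ⟨fun x hx => by rw [pow_zero, fn_one (Subgroup.mem_sup_left hx)], fun c hc => ⟨1, P.one_mem, ?_⟩⟩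
      rw [pow_zero, pow_zero, fn_one (Subgroup.mem_sup_right hc), fn_one (Subgroup.mem_sup_right hc), mul_one]
    | succ i ihi =>
      refine ⟨fun x hx => ?_, fun c hc => ?_⟩
      · rw [fn_pow_succ δ i (Subgroup.mem_sup_left hx), ihi.1 x hx, fn_aut hδi (Subgroup.mem_sup_left hx), hδP x hx]
      · obtain ⟨u, hu, e⟩ := ihi.2 c hc
        have hic : fn (γ⁻¹ ^ i) c ∈ centralizerIn S T := by
          clear e ihi
          induction i with
          | zero => rw [pow_zero, fn_one (Subgroup.mem_sup_right hc)]; exact hc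
          | succ i ihi => rw [fn_pow_succ γ⁻¹ i (Subgroup.mem_sup_right hc)]; exact hγiC _ ihi
        obtain ⟨v, hv, e'⟩ := hδC _ hic
        refine ⟨v * u, P.mul_mem hv hu, ?_⟩
        have hfm : ∀ {x y : Ω}, x ∈ P ⊔ centralizerIn S T → y ∈ P ⊔ centralizerIn S T →
            fn δ (x * y) = fn δ x * fn δ y := fun hx hy => fn_map_mul δ hx hy
        rw [fn_pow_succ δ i (Subgroup.mem_sup_right hc), e, hfm (Subgroup.mem_sup_right hic) (Subgroup.mem_sup_left hu),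
          fn_aut hδi (Subgroup.mem_sup_right hic), e', fn_aut hδi (Subgroup.mem_sup_left hu), hδP u hu,
          fn_pow_succ γ⁻¹ i (Subgroup.mem_sup_right hc), mul_assoc]
  have hγj : γ⁻¹ ^ j = γ⁻¹ := by
    refine H87.Stancu.pow_eq_of_modEq ?_ hj
    rw [inv_pow, pow_orderOf_eq_one, inv_one]
  obtain ⟨δ', hδ', d1, d2⟩ := ext_H hS hF hT P hP (δ ^ j) (Subgroup.pow_mem _ hδF j) hδj (hpow j).1
  have hβ : γ * δ' ∈ F.autGroup (T ⊔ centralizerIn S T) := Subgroup.mul_mem _ hγF hδ'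
  have hβi := fn_iso hTCS hβ
  have hβT : ∀ x ∈ T, fn (γ * δ') x = fn α x := fun x hx => by
    rw [fn_mul _ _ (Subgroup.mem_sup_left hx), d1 x hx, hγT x hx]
  have hβTi : IsIso F T T (fn (γ * δ')) := (fn_iso hTS hα).congr fun x hx => (hβT x hx).symm
  refine ⟨fn (γ * δ'), hβi, hβT, fun c hc => ?_⟩
  have hcm := Subgroup.mem_sup_right (S := T) hc
  obtain ⟨u, hu, e⟩ := (hpow j).2 c hc
  rw [hγj] at e
  have h1 : fn (γ * δ') c = c * fn α u := by
    rw [fn_mul _ _ hcm, d2 c hc, e, fn_map_mul _ (fn_mem _ hcm) (Subgroup.mem_sup_left (hP.1 hu)),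
      fn_apply_inv γ hcm, hγT u (hP.1 hu)]
  refine ⟨?_, ?_⟩
  · rw [h1, ← mul_assoc, inv_mul_cancel, one_mul]; exact fn_mem α (hP.1 hu)
  · exact Subgroup.mul_mem _ (Subgroup.inv_mem _ hc.2) (map_centralizer hβi.isMap le_sup_left hβTi hcm hc).2

/-- the automorphisms with the extension property form a subgroup -/
def extGrp (F : FusionSystem S) (T : Subgroup Ω) (hTS : T ≤ S) : Subgroup (MulAut T) where
  carrier := {α | α ∈ F.autGroup T ∧ ExtC F T (fn α)}
  mul_mem' := by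
    rintro α β ⟨h1, h2⟩ ⟨h3, h4⟩
    refine ⟨Subgroup.mul_mem _ h1 h3, ?_⟩
    exact (h4.comp h2 (fn_iso hTS h3) (fn_iso hTS h1)).congr fun x hx => (fn_mul α β hx).symm
  one_mem' := ⟨Subgroup.one_mem _, (extC_inner hTS T.one_mem).congr fun x hx => by
    rw [fn_one hx, one_mul, inv_one, mul_one]⟩
  inv_mem' := by
    rintro α ⟨h1, h2⟩
    have h1' := Subgroup.inv_mem _ h1
    exact ⟨h1', h2.symm (fn_iso hTS h1') fun y hy => fn_apply_inv α hy⟩

theorem autGroup_congr {E E' : FusionSystem T} (h : ∀ P f, IsMap E P f ↔ IsMap E' P f) (hP : P ≤ T) :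
    E.autGroup P = E'.autGroup P := by
  ext α
  rw [mem_autGroup_iff hP, mem_autGroup_iff hP, h]

theorem ainv_E0 [Finite S] (hE : E.IsWeaklyNormalIn F p) (hE₀ : IsE0 E p E₀) : AInv F E₀ := by
  have hTS := hE.2.2.2.1.1
  have hEF := hE.2.2.1
  obtain ⟨E₁, hE₁, hA₁⟩ := exists_inv_core (F := F) (E := E₀) (fun P => (hE₀.sub P).trans (hEF P))
  have h1 : E₁.IsSubsystemOf E := isSubsystemOf_iff.2 fun P f hf => isMap_of_sub hE₀.sub ((hE₁ P f).1 hf).1
  have h2 := hE₀.least E₁ h1 fun P hP α hα ho => by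
    refine mem_autGroup_of_isMap (f := extFun (P.subtype.comp α.toMonoidHom)) hP.1 ?_ fun x => by rw [extFun_coe]; rfl
    rw [hE₁]
    refine ⟨(isIso_of_mem_autGroup hP.1 (hE₀.hasP P hP α hα ho)).isMap, fun a ha => ?_⟩
    refine tw_of_hasP (sinv_of_invariant hE.2.2) hTS hEF ha hP.1 (hE₀.hasP _ ?_) hα ho
    exact centric_of_tc hEF ((tc_of_centric hE.2.2 hP).conj hE.2.2.2.1 ((ha.isMap.mono hP.1).isIso))
  intro P f a hf ha
  obtain ⟨g, hg, e⟩ := hA₁ P f a (isMap_of_sub h2 hf) ha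
  exact ⟨g, ((hE₁ _ _).1 hg).1, e⟩

theorem isMap_pow (hTS : T ≤ S) (hA : AInv F E₀) {α : MulAut T} (hα : α ∈ F.autGroup T) (h : IsMap E₀ P (fn α)) (m : ℕ) :
    IsMap E₀ P (fn (α ^ m)) := by
  have hP := h.le
  induction m with
  | zero => exact (isMap_id E₀ hP).congr fun x hx => by rw [pow_zero, fn_one (hP hx)]
  | succ m ih =>
    have hαm : α ^ m ∈ F.autGroup T := Subgroup.pow_mem _ hα m
    obtain ⟨g, hg, e⟩ := hA P _ _ h (fn_iso hTS hαm)
    refine (ih.comp hg fun x hx => apply_mem_img hx).congr fun x hx => ?_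
    show g (fn (α ^ m) x) = _
    rw [e x hx, ← fn_mul _ _ (hP hx), ← pow_succ]

/-- S5141 -/
theorem residual_normal [Fact p.Prime] [Finite S] (hS : IsPGroup p S) (hE : E.IsWeaklyNormalIn F p)
    (hD : E.IsPPrimeResidual p D) : D.IsNormalIn F p := by
  have hT := hE.2.2.2.1
  have hTS : T ≤ S := hT.1
  have hEF := hE.2.2.1
  have hTfin : Finite T := finite_of_le hTS
  have hTp : IsPGroup p T := hS.to_le hTS
  have hfinA : Finite (MulAut T) := finite_mulAut
  obtain ⟨E₀, hE₀⟩ := exists_E0 E p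
  obtain ⟨E', hE', hEaut, hEm⟩ := exists_residual hTp hE.1 hE₀
  have hDE' := residual_unique hD hE'
  have hspec : ∀ P f, IsMap D P f ↔ AMap E₀ (A0 E E₀) P f := fun P f => (hDE' P f).trans (hEm P f)
  have hDaut : D.autGroup T = A0 E E₀ := (autGroup_congr hDE' le_rfl).trans hEaut
  have hDE := (hasPrimeToPIndexIn_iff.1 hD.2.1).1
  have hDF : D.IsSubsystemOf F := fun P => (hDE P).trans (hEF P)
  have hA0 := ainv_E0 hE hE₀
  obtain ⟨J, hJ⟩ := exists_J hEF hT
  have hJE : J.IsSubsystemOf E := isSubsystemOf_iff.2 fun P f hf => ((hJ P f).1 hf).1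
  have hE₀J := hE₀.least J hJE fun P hP α hα ho => by
    have h1 : IsIso E P P (fn α) := fn_iso hP.1 hα
    have h2 := nex_of_pElement hS hE (tc_of_centric hE.2.2 hP) hα ho
    exact mem_autGroup_of_isMap hP.1 ((hJ _ _).2 ⟨h1.isMap, fun _ => CExt.of_nex hP.1 h2⟩) fun x => (fn_coe α x).symm
  -- generators of A0
  have hgen : A0 E E₀ ≤ extGrp F T hTS := by
    refine (Subgroup.closure_le _).2 fun α ⟨hα, P, hP, hm⟩ => ?_
    have hαF := autGroup_mono hEF T hα
    have hPt := tc_of_centric hE.2.2 hP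
    obtain ⟨j, r, hr, hjr⟩ := Nat.exists_eq_pow_mul_and_not_dvd (orderOf_pos α).ne' p (Fact.out : p.Prime).ne_one
    have hcop' : Nat.Coprime r p := ((Nat.Prime.coprime_iff_not_dvd Fact.out).2 hr).symm
    have hcop : IsCoprime (r : ℤ) ((p ^ j : ℕ) : ℤ) := Nat.isCoprime_iff_coprime.2 (Nat.Coprime.pow_right _ hcop')
    obtain ⟨u, v, huv⟩ := hcop
    have h1 : α ^ r ∈ extGrp F T hTS := by
      have h2 : orderOf (α ^ r) ∣ p ^ j := by
        rw [orderOf_dvd_iff_pow_eq_one, ← pow_mul, mul_comm, ← hjr, pow_orderOf_eq_one]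
      obtain ⟨i, -, hi⟩ := (Nat.dvd_prime_pow Fact.out).1 h2
      have h3 := nex_of_pElement hS hE (hPt.up hP.1 le_rfl) (Subgroup.pow_mem _ hα r) ⟨i, hi⟩
      exact ⟨Subgroup.pow_mem _ hαF r, extC_of_nex hTS (Subgroup.pow_mem _ hαF r) h3⟩
    have h2 : α ^ p ^ j ∈ extGrp F T hTS := by
      refine ⟨Subgroup.pow_mem _ hαF _, ?_⟩
      have h3 : (orderOf (α ^ p ^ j)).Coprime p := by
        refine Nat.Coprime.coprime_dvd_left (orderOf_dvd_of_pow_eq_one ?_) hcop'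
        rw [← pow_mul, ← hjr, pow_orderOf_eq_one]
      have h4 := isMap_pow hTS hA0 hαF hm (p ^ j)
      exact extC_of_cext hS hE.2.1 hT hPt (Subgroup.pow_mem _ hαF _) h3 (((hJ _ _).1 (isMap_of_sub hE₀J h4)).2 hPt)
    have h3 : α = (α ^ r) ^ u * (α ^ p ^ j) ^ v := by
      rw [← zpow_natCast α r, ← zpow_natCast α (p ^ j), ← zpow_mul, ← zpow_mul, ← zpow_add, mul_comm (r : ℤ) u,
        mul_comm ((p ^ j : ℕ) : ℤ) v, huv, zpow_one]
    rw [h3]
    exact Subgroup.mul_mem _ (Subgroup.zpow_mem _ h1 u) (Subgroup.zpow_mem _ h2 v)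
  -- A0 normalized by Aut_F(T)
  have hnorm : ∀ a ∈ F.autGroup T, ∀ β ∈ A0 E E₀, a * β * a⁻¹ ∈ A0 E E₀ := by
    intro a ha β hβ
    refine Subgroup.closure_induction (p := fun β _ => a * β * a⁻¹ ∈ A0 E E₀) ?_ ?_ ?_ ?_ hβ
    · rintro β ⟨hβE, P, hP, hm⟩
      have hai : IsIso F T T (fn a) := fn_iso hTS ha
      obtain ⟨g, hg, e⟩ := hA0 P _ _ hm hai
      refine Subgroup.subset_closure ⟨(sinv_of_invariant hE.2.2).aut_normal hTS hEF le_rfl a ha β hβE, img P (fn a),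
        centric_of_tc hEF ((tc_of_centric hE.2.2 hP).conj hT ((hai.isMap.mono hP.1).isIso)), hg.congr fun y hy => ?_⟩
      obtain ⟨x, hx, rfl⟩ := (mem_img (hai.isMap.mono hP.1)).1 hy
      have hxT := hP.1 hx
      rw [e x hx, fn_mul _ _ (fn_mem a hxT), fn_inv_apply a hxT, fn_mul _ _ hxT]
    · simp [Subgroup.one_mem]
    · intro x y _ _ hx hy
      have : a * (x * y) * a⁻¹ = (a * x * a⁻¹) * (a * y * a⁻¹) := by group
      rw [this]; exact Subgroup.mul_mem _ hx hy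
    · intro x _ hx
      have : a * x⁻¹ * a⁻¹ = (a * x * a⁻¹)⁻¹ := by group
      rw [this]; exact Subgroup.inv_mem _ hx
  rw [isNormalIn_iff]
  refine ⟨hD.1, hE.2.1, isInvariantIn_iff.2 ⟨hDF, hT, ?_, ?_⟩, ?_⟩
  · -- AInv F D
    intro P f a hf ha
    obtain ⟨β, hβ, f₀, hf₀, e⟩ := (hspec P f).1 hf
    obtain ⟨g₀, hg₀, e₀⟩ := hA0 P f₀ a hf₀ ha
    have h1 := hnorm ha.aut ha.aut_mem β hβ
    refine ⟨fn (ha.aut * β * ha.aut⁻¹) ∘ g₀, (hspec _ _).2 ⟨_, h1, g₀, hg₀, fun y _ => rfl⟩, fun x hx => ?_⟩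
    have hf₀T := hf₀.mem hx
    have hxT := hf.le hx
    have h2 : fn ha.aut (f₀ x) = a (f₀ x) := fn_aut ha hf₀T
    show fn (ha.aut * β * ha.aut⁻¹) (g₀ (a x)) = a (f x)
    rw [e₀ x hx, ← h2, fn_mul _ _ (fn_mem _ hf₀T), fn_inv_apply _ hf₀T, fn_mul _ _ hf₀T, fn_aut ha (fn_mem β hf₀T),
      e x hx]
  · -- Frattini
    intro P f hP hf
    obtain ⟨-, -, -, hFr⟩ := isInvariantIn_iff.1 hE.2.2
    obtain ⟨a, e, ha, he, h1⟩ := hFr P f hP hf
    obtain ⟨b, d, hb, hd, h2⟩ := (index_prime hTp hE.1 hDE fun P hP => (hasPrimeToPIndexIn_iff.1 hD.2.1).2 P hP.1).2.1 P e he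
    refine ⟨a ∘ b, d, (isIso_of_sub hEF hb).comp ha, hd, fun x hx => ?_⟩
    rw [h1 x hx, h2 x hx]
    rfl
  · intro a ha
    have h1 : ha.aut ∈ extGrp F T hTS := hgen (by rw [← hDaut]; exact ha.aut_mem)
    exact h1.2.congr fun x hx => fn_aut ha hx

end H87.NE
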