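import Cfsg.Agent.Lib.H87.NE3
import Cfsg.Agent.Lib.H87.CMap
set_option autoImplicit false

open Cfsg Cfsg.FusionSystem

namespace H87.NE
open H87.Base H87.Basic H87.Syl H87.Sat H87.Grow H87.Inv H87.Frat H87.Cut H87.PPow H87.Crit H87.PPr H87.CMap

variable {Ω : Type*} [Group Ω] {S T : Subgroup Ω} {F : FusionSystem S} {E D E₀ : FusionSystem T}
  {P Q R M N U X A : Subgroup Ω} {f g h a b ζ : Ω → Ω} {p : ℕ}

/-- automorphisms of `M` acting trivially modulo `P`. -/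
noncomputable def tr (M P : Subgroup Ω) : Subgroup (MulAut M) where
  carrier := {κ | ∀ x ∈ M, x⁻¹ * fn κ x ∈ P}
  mul_mem' := by
    rintro κ l h2 h4 x hx
    rw [fn_mul _ _ hx]
    have h5 := h2 _ (fn_mem l hx)
    have : x⁻¹ * fn κ (fn l x) = (x⁻¹ * fn l x) * ((fn l x)⁻¹ * fn κ (fn l x)) := by group
    rw [this]; exact P.mul_mem (h4 x hx) h5
  one_mem' := fun x hx => by rw [fn_one hx, inv_mul_cancel]; exact P.one_mem
  inv_mem' := by
    rintro κ h2 x hx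
    have h3 := h2 _ (fn_mem κ⁻¹ hx)
    rw [fn_apply_inv κ hx] at h3
    have : x⁻¹ * fn κ⁻¹ x = ((fn κ⁻¹ x)⁻¹ * x)⁻¹ := by group
    rw [this]; exact P.inv_mem h3

theorem mem_tr {κ : MulAut M} : κ ∈ tr M P ↔ ∀ x ∈ M, x⁻¹ * fn κ x ∈ P := Iff.rfl

theorem tr_conj (hPM : P ≤ M) {a κ : MulAut M} (ha : ∀ x ∈ P, fn a x ∈ P) (hκ : κ ∈ tr M P) :
    a * κ * a⁻¹ ∈ tr M P := by
  intro x hx
  rw [fn_mul _ _ hx, fn_mul _ _ (fn_mem _ hx)]
  have h1 := hκ _ (fn_mem a⁻¹ hx)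
  have h2 : fn κ (fn a⁻¹ x) = fn a⁻¹ x * ((fn a⁻¹ x)⁻¹ * fn κ (fn a⁻¹ x)) := by group
  rw [h2, fn_map_mul a (fn_mem _ hx) (hPM h1), fn_apply_inv a hx, ← mul_assoc, inv_mul_cancel, one_mul]
  exact ha _ h1

theorem fn_map_pow (κ : MulAut M) {z : Ω} (hz : z ∈ M) (m : ℕ) : fn κ (z ^ m) = fn κ z ^ m := by
  induction m with
  | zero => rw [pow_zero, pow_zero, fn_apply κ M.one_mem]; exact congrArg Subtype.val (map_one κ)
  | succ m ih => rw [pow_succ, fn_map_mul κ (pow_mem hz m) hz, ih, pow_succ]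

theorem fn_pow_formula {κ : MulAut M} {x : Ω} (hx : x ∈ M) (h : fn κ (x⁻¹ * fn κ x) = x⁻¹ * fn κ x) (m : ℕ) :
    fn (κ ^ m) x = x * (x⁻¹ * fn κ x) ^ m := by
  have hz : x⁻¹ * fn κ x ∈ M := M.mul_mem (M.inv_mem hx) (fn_mem κ hx)
  induction m with
  | zero => rw [pow_zero, pow_zero, fn_one hx, mul_one]
  | succ m ih =>
    rw [fn_pow_succ κ m hx, ih, fn_map_mul κ hx (pow_mem hz m), fn_map_pow κ hz, h, pow_succ']
    rw [← mul_assoc, ← mul_assoc, mul_inv_cancel, one_mul]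

/-- chain stabilizer -/
noncomputable def chn (M R P : Subgroup Ω) (hPR : P ≤ R) (hRM : R ≤ M) : Subgroup (MulAut M) where
  carrier := {κ | (∀ x ∈ P, fn κ x = x) ∧ (∀ x ∈ R, x⁻¹ * fn κ x ∈ P) ∧ ∀ x ∈ M, x⁻¹ * fn κ x ∈ R}
  mul_mem' := by
    rintro κ l ⟨h1, h2, h3⟩ ⟨k1, k2, k3⟩
    have hR : ∀ x ∈ R, fn l x ∈ R := fun x hx => by
      have := R.mul_mem hx (hPR (k2 x hx)); rwa [mul_inv_cancel_left] at this
    refine ⟨fun x hx => ?_, fun x hx => ?_, fun x hx => ?_⟩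
    · rw [fn_mul _ _ (hRM (hPR hx)), k1 x hx, h1 x hx]
    · rw [fn_mul _ _ (hRM hx)]
      have : x⁻¹ * fn κ (fn l x) = (x⁻¹ * fn l x) * ((fn l x)⁻¹ * fn κ (fn l x)) := by group
      rw [this]; exact P.mul_mem (k2 x hx) (h2 _ (hR x hx))
    · rw [fn_mul _ _ hx]
      have : x⁻¹ * fn κ (fn l x) = (x⁻¹ * fn l x) * ((fn l x)⁻¹ * fn κ (fn l x)) := by group
      rw [this]; exact R.mul_mem (k3 x hx) (h3 _ (fn_mem l hx))
  one_mem' := ⟨fun x hx => fn_one (hRM (hPR hx)), fun x hx => by rw [fn_one (hRM hx), inv_mul_cancel]; exact P.one_mem,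
    fun x hx => by rw [fn_one hx, inv_mul_cancel]; exact R.one_mem⟩
  inv_mem' := by
    rintro κ ⟨h1, h2, h3⟩
    have key : ∀ x ∈ M, x⁻¹ * fn κ⁻¹ x ∈ R := (tr M R).inv_mem h3
    have hR : ∀ x ∈ R, fn κ⁻¹ x ∈ R := fun x hx => by
      have := R.mul_mem hx (key x (hRM hx)); rwa [mul_inv_cancel_left] at this
    refine ⟨fun x hx => ?_, fun x hx => ?_, key⟩
    · have := fn_inv_apply κ (hRM (hPR hx))
      rwa [h1 x hx] at this
    · have h4 := h2 _ (hR x hx)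
      rw [fn_apply_inv κ (hRM hx)] at h4
      have : x⁻¹ * fn κ⁻¹ x = ((fn κ⁻¹ x)⁻¹ * x)⁻¹ := by group
      rw [this]; exact P.inv_mem h4

theorem chn_isPGroup [Fact p.Prime] {hPR : P ≤ R} {hRM : R ≤ M} [Finite P] [Finite R] (hp : IsPGroup p R) :
    IsPGroup p (chn M R P hPR hRM) := by
  obtain ⟨k, hk⟩ := IsPGroup.iff_card.1 (hp.to_le hPR)
  obtain ⟨m, hm⟩ := IsPGroup.iff_card.1 hp
  rintro ⟨κ, hκ⟩
  refine ⟨k + m, Subtype.ext ?_⟩
  rw [Subgroup.coe_pow]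
  have h1 : ∀ x ∈ R, fn (κ ^ p ^ k) x = x := by
    intro x hx
    have hz := hκ.2.1 x hx
    rw [fn_pow_formula (hRM hx) (hκ.1 _ hz), ← hk, pow_card_eq_one_of_mem hz, mul_one]
  have h2 : κ ^ p ^ k ∈ stb M R hRM := ⟨h1, (tr M R).pow_mem hκ.2.2 _⟩
  show κ ^ p ^ (k + m) = 1
  rw [pow_add, pow_mul]
  refine fn_ext fun x hx => ?_
  rw [stb_pow h2 _ hx, ← hm, pow_card_eq_one_of_mem (h2.2 x hx), mul_one]
  exact (fn_one hx).symm

theorem nmap_of (hP : P ≤ A) (hA : A ≤ normalizerIn S P) (h : IsMap F A f) (hfP : IsIso F P P f) : NMap F P A f := by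
  refine ⟨hA, fun x hx => ?_, f, ?_, fun _ _ => rfl, fun x hx => hfP.mem hx⟩
  · have hxn := Subgroup.mem_normalizer_iff.1 (hA hx).2
    refine ⟨h.mem hx, Subgroup.mem_normalizer_iff.2 fun y => ?_⟩
    constructor
    · intro hy
      obtain ⟨z, hz, rfl⟩ := hfP.surj hy
      rw [← h.map_conj hx (hP hz)]
      exact hfP.mem ((hxn z).1 hz)
    · intro hy
      obtain ⟨z, hz, e⟩ := hfP.surj hy
      have h1 : x⁻¹ * z * x ∈ P := by
        refine (hxn _).2 ?_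
        have : x * (x⁻¹ * z * x) * x⁻¹ = z := by group
        rw [this]; exact hz
      have h2 : y = f (x⁻¹ * z * x) := by
        have h3 : f (x * (x⁻¹ * z * x) * x⁻¹) = f x * f (x⁻¹ * z * x) * (f x)⁻¹ := h.map_conj hx (hP h1)
        have h4 : x * (x⁻¹ * z * x) * x⁻¹ = z := by group
        rw [h4, e] at h3
        exact mul_left_cancel (mul_right_cancel h3)
      rw [h2]; exact hfP.mem h1
  · rwa [sup_eq_left.2 hP]

theorem mem_of_pow_mem [Fact p.Prime] {d : Ω} {n e : ℕ} (hd : d ^ p ^ e = 1) (hn : n.Coprime p) (h : d ^ n ∈ P) :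
    d ∈ P := by
  obtain ⟨u, v, huv⟩ := Nat.isCoprime_iff_coprime.2 (Nat.Coprime.pow_right e hn)
  have h1 : d = (d ^ n) ^ u := by
    have h2 : (d ^ p ^ e) ^ v = 1 := by rw [hd, one_zpow]
    calc d = d ^ (1 : ℤ) := (zpow_one d).symm
      _ = (d ^ n) ^ u * (d ^ p ^ e) ^ v := by
        rw [← huv, zpow_add, mul_comm u, mul_comm v, zpow_mul, zpow_mul, zpow_natCast, zpow_natCast]
      _ = _ := by rw [h2, mul_one]
  rw [h1]
  exact P.zpow_mem h u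

theorem ne_step [Fact p.Prime] [Finite S] (hS : IsPGroup p S) (hE : E.IsWeaklyNormalIn F p) (hP : TC F T P)
    (hPn : F.IsFullyNormalized P) (hR : R = normalizerIn T P) {γ : MulAut R} (hγ : γ ∈ E.autGroup R)
    (ho : (orderOf γ).Coprime p) (hγP : ∀ x ∈ P, fn γ x ∈ P) (hNR : NEx F R (fn γ)) :
    NEx F P (fn γ) := by
  have hT := hE.2.2.2.1
  have hTS : T ≤ S := hT.1
  have hEF := hE.2.2.1
  have hF := hE.2.1
  have hPS : P ≤ S := hP.1.trans hTS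
  have hPR : P ≤ R := hR ▸ le_normalizerIn hP.1
  have hRT : R ≤ T := hR ▸ inf_le_left
  have hRmem : ∀ {x : Ω}, x ∈ R ↔ x ∈ normalizerIn T P := fun {x} => by rw [hR]
  have hRS : R ≤ S := hRT.trans hTS
  have hRc : TC F T R := hP.up hPR hRT
  obtain ⟨N, hN⟩ := exists_normalizerSystem F hPS
  have hNs : N.IsSaturated p := H89.KSat3.normalizer_saturated hS hF hPn hN
  have hPfin : Finite P := finite_of_le hPS
  have hRfin : Finite R := finite_of_le hRS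
  have hNm : ∀ {A : Subgroup Ω} {f : Ω → Ω}, IsMap N A f ↔ NMap F P A f := fun {A f} => isMap_normalizer_iff hN
  have hNF : N.IsSubsystemOf F := isSubsystemOf_iff.2 fun A f hf => (hNm.1 hf).isMap
  have hNSfin : Finite (normalizerIn S P) := finite_of_le inf_le_left
  have hNp : IsPGroup p (normalizerIn S P) := hS.to_le inf_le_left
  have hRN : R ≤ normalizerIn S P := fun x hx => ⟨hTS (hRT hx), (hRmem.1 hx).2⟩
  set W := R ⊔ centralizerIn S R with hW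
  have hCR : centralizerIn S R ≤ centralizerIn S P := centralizerIn_anti hPR
  have hWN : W ≤ normalizerIn S P := sup_le hRN (hCR.trans centralizerIn_le_normalizerIn)
  have hWS : W ≤ S := hWN.trans inf_le_left
  have hWfin : Finite W := finite_of_le hWS
  have hRW : R ≤ W := le_sup_left
  have hPW : P ≤ W := hPR.trans hRW
  -- N_S(P) normalizes R and W
  have hsR : ∀ s ∈ normalizerIn S P, ∀ x ∈ R, s * x * s⁻¹ ∈ R := by
    intro s hs x hx
    exact hRmem.2 ⟨StronglyClosed.conj_mem hT hs.1 (hRT hx),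
      Subgroup.mul_mem _ (Subgroup.mul_mem _ hs.2 (hRmem.1 hx).2) (Subgroup.inv_mem _ hs.2)⟩
  have hsR' : ∀ s ∈ normalizerIn S P, ∀ x ∈ R, s⁻¹ * x * s ∈ R := by
    intro s hs x hx
    have := hsR s⁻¹ (Subgroup.inv_mem _ hs) x hx
    rwa [inv_inv] at this
  have hsC : ∀ s ∈ normalizerIn S P, ∀ c ∈ centralizerIn S R, s * c * s⁻¹ ∈ centralizerIn S R := by
    intro s hs c hc
    rw [mem_centralizerIn] at hc ⊢
    refine ⟨S.mul_mem (S.mul_mem hs.1 hc.1) (S.inv_mem hs.1), fun x hx => ?_⟩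
    have h1 := hc.2 _ (hsR' s hs x hx)
    calc x * (s * c * s⁻¹) = s * ((s⁻¹ * x * s) * c) * s⁻¹ := by group
      _ = s * (c * (s⁻¹ * x * s)) * s⁻¹ := by rw [h1]
      _ = _ := by group
  have hsW : ∀ s ∈ normalizerIn S P, ∀ x ∈ W, s * x * s⁻¹ ∈ W := by
    intro s hs
    exact mem_of_sup (isMap_conj F hWS hs.1) (fun x hx => Subgroup.mem_sup_left (hsR s hs x hx))
      fun c hc => Subgroup.mem_sup_right (hsC s hs c hc)
  have hNW : normalizerIn S P ≤ normalizerIn (normalizerIn S P) W := fun s hs =>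
    ⟨hs, mem_normalizer_iff_of_finite.2 (hsW s hs)⟩
  -- R strongly closed in N
  have hRsc : N.StronglyClosed R := by
    rw [stronglyClosed_iff]
    refine ⟨hRN, fun A f hA hf x hx => ?_⟩
    have h1 := hNm.1 hf
    exact hRmem.2 ⟨mem_of_stronglyClosed hT h1.isMap hx (hRT (hA hx)), (h1.2.1 x hx).2⟩
  -- the extension of γ to W
  obtain ⟨g₀, hg₀, hg₀R, hg₀C⟩ := hNR
  have hγFR := autGroup_mono hEF R hγ
  have hγi : IsIso F R R (fn γ) := fn_iso hRS hγFR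
  have hg₀i : IsIso F R R g₀ := hγi.congr fun x hx => (hg₀R x hx).symm
  have hγPi : IsIso F P P (fn γ) := H87.ConstrEq.isIso_of_self (hγi.isMap.mono hPR) hγP
  have hg₀P : IsIso F P P g₀ := hγPi.congr fun x hx => (hg₀R x (hPR hx)).symm
  have hg₀W : ∀ x ∈ W, g₀ x ∈ W := mem_of_sup hg₀ (fun x hx => Subgroup.mem_sup_left (hg₀i.mem hx)) fun c hc =>
    Subgroup.mem_sup_right (map_centralizer hg₀ le_sup_left hg₀i (Subgroup.mem_sup_right hc) hc)
  have hg₀N : IsMap N W g₀ := hNm.2 (nmap_of hPW hWN hg₀ hg₀P)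
  have hg₀Ni : IsIso N W W g₀ := H87.ConstrEq.isIso_of_self hg₀N hg₀W
  have hWel : ∀ x ∈ W, ∃ r ∈ R, ∃ c ∈ centralizerIn S R, r * c = x := fun x hx =>
    mem_commute_sup (fun x hx c hc => (mem_centralizerIn.1 hc).2 x hx) hx
  have hβ₀tr : hg₀Ni.aut ∈ tr W R := by
    intro x hx
    rw [fn_aut hg₀Ni hx]
    obtain ⟨r, hr, c, hc, rfl⟩ := hWel x hx
    have h1 : (r * c)⁻¹ * g₀ (r * c) = c⁻¹ * (r⁻¹ * fn γ r) * g₀ c := by
      rw [hg₀.map_mul (hRW hr) (Subgroup.mem_sup_right hc), hg₀R r hr]; group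
    have h2 : r⁻¹ * fn γ r ∈ R := R.mul_mem (R.inv_mem hr) (fn_mem γ hr)
    have h3 := (mem_centralizerIn.1 hc).2 _ h2
    have h4 : c⁻¹ * (r⁻¹ * fn γ r) * g₀ c = (r⁻¹ * fn γ r) * (c⁻¹ * g₀ c) := by
      have : c⁻¹ * (r⁻¹ * fn γ r) = (r⁻¹ * fn γ r) * c⁻¹ := by
        calc c⁻¹ * (r⁻¹ * fn γ r) = c⁻¹ * ((r⁻¹ * fn γ r) * c) * c⁻¹ := by group
          _ = c⁻¹ * (c * (r⁻¹ * fn γ r)) * c⁻¹ := by rw [h3]
          _ = _ := by group
      rw [this]; group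
    rw [h1, h4]
    exact R.mul_mem h2 (hg₀C c hc)
  obtain ⟨k, hk1, hk2⟩ := exists_coprime_power (Q := R) (P := W) hRW (α := hg₀Ni.aut) (β := γ)
    (fun x hx => by rw [hg₀Ni.aut_apply, hg₀R x hx, fn_apply γ hx]) ho
  set β := hg₀Ni.aut ^ k with hβdef
  have hβN : β ∈ N.autGroup W := Subgroup.pow_mem _ hg₀Ni.aut_mem k
  have hβtr : β ∈ tr W R := Subgroup.pow_mem _ hβ₀tr k
  have hβR : ∀ x ∈ R, fn β x = fn γ x := fun x hx => by
    rw [fn_apply _ (hRW hx), fn_apply γ hx]; exact (hk2 x hx).symm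
  have hβiR : ∀ x ∈ R, fn β⁻¹ x = fn γ⁻¹ x := fun x hx => by
    have h1 := hβR _ (fn_mem γ⁻¹ hx)
    rw [fn_apply_inv γ hx] at h1
    have h2 := fn_inv_apply β (hRW (fn_mem γ⁻¹ hx))
    rw [h1] at h2
    exact h2
  have hγiP : ∀ x ∈ P, fn γ⁻¹ x ∈ P := by
    intro x hx
    obtain ⟨y, hy, e⟩ := hγPi.surj hx
    rw [← e, fn_inv_apply γ (hPR hy)]; exact hy
  -- N-automorphisms of W preserve P and R
  have haP : ∀ a ∈ N.autGroup W, ∀ x ∈ P, fn a x ∈ P := by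
    intro a ha x hx
    obtain ⟨-, -, g, hg, h1, h2⟩ := hNm.1 (fn_iso hWN ha).isMap
    rw [← h1 x (hPW hx)]; exact h2 x hx
  have haR : ∀ a ∈ N.autGroup W, ∀ x ∈ R, fn a x ∈ R := fun a ha x hx =>
    mem_of_stronglyClosed hRsc (fn_iso hWN ha).isMap (hRW hx) hx
  set K := chn W R P hPR hRW ⊓ N.autGroup W with hK
  have hKp : IsPGroup p K := (chn_isPGroup (hS.to_le hRS)).to_le inf_le_left
  have hKn : ∀ a ∈ N.autGroup W, ∀ κ ∈ K, a * κ * a⁻¹ ∈ K := by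
    rintro a ha κ ⟨⟨h1, h2, h3⟩, hκN⟩
    have hai := Subgroup.inv_mem _ ha
    refine ⟨⟨fun x hx => ?_, fun x hx => ?_, tr_conj hRW (haR a ha) h3⟩,
      Subgroup.mul_mem _ (Subgroup.mul_mem _ ha hκN) hai⟩
    · rw [fn_mul _ _ (hPW hx), fn_mul _ _ (fn_mem _ (hPW hx)), h1 _ (haP _ hai x hx), fn_apply_inv a (hPW hx)]
    · have hxW := hRW hx
      rw [fn_mul _ _ hxW, fn_mul _ _ (fn_mem _ hxW)]
      have h4 := h2 _ (haR _ hai x hx)
      have h5 : fn κ (fn a⁻¹ x) = fn a⁻¹ x * ((fn a⁻¹ x)⁻¹ * fn κ (fn a⁻¹ x)) := by group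
      rw [h5, fn_map_mul a (fn_mem _ hxW) (hPW h4), fn_apply_inv a hxW, ← mul_assoc, inv_mul_cancel, one_mul]
      exact haP a ha _ h4
  set C := centralizerIn S P with hC
  have hCN : C ≤ normalizerIn S P := centralizerIn_le_normalizerIn
  -- C acts trivially on R modulo P
  have hCRP : ∀ c ∈ C, ∀ r ∈ R, r⁻¹ * (c * r * c⁻¹) ∈ P := by
    intro c hc r hr
    have h1 := comm_mem hT hP (hRmem.1 (R.inv_mem hr)) (C.inv_mem hc)
    have h2 : r⁻¹ * (c * r * c⁻¹) = (c⁻¹⁻¹ * (r⁻¹ * c⁻¹ * r⁻¹⁻¹))⁻¹ := by group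
    rw [h2]; exact P.inv_mem h1
  obtain ⟨ζ, N₁, g, hN₁, hζ, hi, hg, hge⟩ := ext_basic (X := C) hNp hNs hβN hWN (hCN.trans hNW) inf_le_right hKn hKp (by
    intro c hc
    have hcN := hNW (hCN hc)
    have hcc := cj_mem (K := normalizerIn S P) hcN.2 hcN.1
    have hcF : cj W hcN.2 ∈ N.autGroup W := autInducedBy_le_autGroup N hWN hcc
    refine ⟨β * cj _ hcN.2 * β⁻¹, ?_, fun m hm => ?_⟩
    · have h1 : β * cj _ hcN.2 * β⁻¹ = cj _ hcN.2 * ((cj _ hcN.2)⁻¹ * β * cj _ hcN.2 * β⁻¹) := by group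
      rw [h1]
      refine Subgroup.mul_mem _ (Subgroup.mem_sup_left hcc) (Subgroup.mem_sup_right ⟨⟨fun x hx => ?_, fun x hx => ?_, ?_⟩, ?_⟩)
      · have hxW := hPW hx
        have e1 : fn β⁻¹ x ∈ P := by rw [hβiR x (hPR hx)]; exact hγiP x hx
        have e2 : fn (cj _ hcN.2) (fn β⁻¹ x) = fn β⁻¹ x := by
          rw [fn_cj _ (fn_mem _ hxW), ← (mem_centralizerIn.1 hc).2 _ e1, mul_inv_cancel_right]
        have e3 : fn (cj _ hcN.2) x = x := by
          rw [fn_cj _ hxW, ← (mem_centralizerIn.1 hc).2 _ hx, mul_inv_cancel_right]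
        rw [fn_mul _ _ hxW, fn_mul _ _ (fn_mem _ hxW), fn_mul _ _ (fn_mem _ (fn_mem _ hxW)), e2, fn_apply_inv β hxW]
        have := fn_inv_apply (cj W hcN.2) hxW
        rwa [e3] at this
      · have hxW := hRW hx
        have hcmod : ∀ y ∈ R, y⁻¹ * fn (cj _ hcN.2) y ∈ P := fun y hy => by
          rw [fn_cj _ (hRW hy)]; exact hCRP c hc y hy
        have hcR : ∀ y ∈ R, fn (cj _ hcN.2) y ∈ R := fun y hy => haR _ hcF y hy
        have hciR : ∀ y ∈ R, fn (cj _ hcN.2)⁻¹ y ∈ R := fun y hy => haR _ (Subgroup.inv_mem _ hcF) y hy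
        have hcimod : ∀ y ∈ R, y⁻¹ * fn (cj _ hcN.2)⁻¹ y ∈ P := fun y hy => by
          have h2 := hcmod _ (hciR y hy)
          rw [fn_apply_inv _ (hRW hy)] at h2
          have : y⁻¹ * fn (cj _ hcN.2)⁻¹ y = ((fn (cj _ hcN.2)⁻¹ y)⁻¹ * y)⁻¹ := by group
          rw [this]; exact P.inv_mem h2
        have e1 : fn β⁻¹ x ∈ R := haR _ (Subgroup.inv_mem _ hβN) x hx
        have e2 := hcR _ e1
        have e3 : fn β (fn (cj _ hcN.2) (fn β⁻¹ x)) ∈ R := haR _ hβN _ e2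
        rw [fn_mul _ _ hxW, fn_mul _ _ (hRW e1), fn_mul _ _ (hRW e2)]
        have s1 := hcmod _ e1
        have s2 : fn β (fn (cj _ hcN.2) (fn β⁻¹ x)) = x * fn β ((fn β⁻¹ x)⁻¹ * fn (cj _ hcN.2) (fn β⁻¹ x)) := by
          have h6 : fn (cj _ hcN.2) (fn β⁻¹ x) = fn β⁻¹ x * ((fn β⁻¹ x)⁻¹ * fn (cj _ hcN.2) (fn β⁻¹ x)) := by group
          conv_lhs => rw [h6]
          rw [fn_map_mul β (hRW e1) (hPW s1), fn_apply_inv β hxW]
        have s3 := haP β hβN _ s1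
        have s4 := hcimod _ e3
        have h7 : x⁻¹ * fn (cj _ hcN.2)⁻¹ (fn β (fn (cj _ hcN.2) (fn β⁻¹ x))) =
            (x⁻¹ * fn β (fn (cj _ hcN.2) (fn β⁻¹ x))) * ((fn β (fn (cj _ hcN.2) (fn β⁻¹ x)))⁻¹ *
              fn (cj _ hcN.2)⁻¹ (fn β (fn (cj _ hcN.2) (fn β⁻¹ x)))) := by group
        rw [h7]
        refine P.mul_mem ?_ s4
        rw [s2, ← mul_assoc, inv_mul_cancel, one_mul]
        exact s3
      · have h2 : (cj _ hcN.2)⁻¹ * β * cj _ hcN.2 = (cj _ hcN.2)⁻¹ * β * (cj W hcN.2)⁻¹⁻¹ := by rw [inv_inv]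
        have h3 := tr_conj hRW (fun x hx => haR _ (Subgroup.inv_mem _ hcF) x hx) hβtr
        rw [h2]
        exact (tr W R).mul_mem h3 ((tr W R).inv_mem hβtr)
      · exact Subgroup.mul_mem _ (Subgroup.mul_mem _ (Subgroup.mul_mem _ (Subgroup.inv_mem _ hcF) hβN) hcF)
          (Subgroup.inv_mem _ hβN)
    · rw [fn_mul _ _ (fn_mem _ hm), fn_mul _ _ (fn_mem _ (fn_mem _ hm)), fn_inv_apply β hm, fn_cj _ hm])
  -- ζ is an automorphism of N_S(P)
  have hζS : IsMap N (normalizerIn S P) ζ := hζ.mono hNW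
  have hζi : IsIso N (normalizerIn S P) (normalizerIn S P) ζ :=
    H87.ConstrEq.isIso_of_self hζS fun x hx => hζS.mem hx
  obtain ⟨l, hl, l1, l2⟩ := hζi.symm
  have hY : IsMap N (W ⊔ C) (l ∘ g) := hg.comp hl.isMap fun x hx => hg.mem hx
  have hYW : ∀ m ∈ W, (l ∘ g) m = fn β m := fun m hm => by
    show l (g m) = _
    rw [hge m hm, l1 _ (hWN (fn_mem β hm))]
  have hYF : IsMap F (W ⊔ C) (l ∘ g) := isMap_of_sub hNF hY
  have hYP : IsIso F P P (l ∘ g) := hγPi.congr fun x hx => by rw [hYW x (hPW hx), hβR x (hPR hx)]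
  have hYC : ∀ c ∈ C, (l ∘ g) c ∈ C := fun c hc =>
    map_centralizer hYF (hPW.trans le_sup_left) hYP (Subgroup.mem_sup_right hc) hc
  have hYm : ∀ x ∈ W ⊔ C, (l ∘ g) x ∈ W ⊔ C := mem_of_sup hYF
    (fun x hx => by rw [hYW x hx]; exact Subgroup.mem_sup_left (fn_mem β hx)) fun c hc =>
      Subgroup.mem_sup_right (hYC c hc)
  have hYi : IsIso F (W ⊔ C) (W ⊔ C) (l ∘ g) := H87.ConstrEq.isIso_of_self hYF hYm
  have hYfin : Finite ↥(W ⊔ C) := finite_of_le hYF.le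
  obtain ⟨k', hk1', hk2'⟩ := exists_coprime_power (Q := W) (P := W ⊔ C) le_sup_left (α := hYi.aut) (β := β)
    (fun x hx => by rw [hYi.aut_apply, hYW x hx, fn_apply β hx]) hk1
  set δ := hYi.aut ^ k' with hδdef
  have hδF : δ ∈ F.autGroup (W ⊔ C) := Subgroup.pow_mem _ hYi.aut_mem k'
  have hδi := fn_iso hYF.le hδF
  have hδW : ∀ x ∈ W, fn δ x = fn β x := fun x hx => by
    rw [fn_apply _ (Subgroup.mem_sup_left hx), fn_apply β hx]; exact (hk2' x hx).symm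
  have hδR : ∀ x ∈ R, fn δ x = fn γ x := fun x hx => by rw [hδW x (hRW hx), hβR x hx]
  have hδP : IsIso F P P (fn δ) := hγPi.congr fun x hx => (hδR x (hPR hx)).symm
  have hδC : ∀ c ∈ C, fn δ c ∈ C := fun c hc =>
    map_centralizer hδi.isMap (hPW.trans le_sup_left) hδP (Subgroup.mem_sup_right hc) hc
  have hcen := centric_of_tc hEF hP
  have hTfin : Finite T := finite_of_le hTS
  have hTp : IsPGroup p T := hS.to_le hTS
  have key : ∀ c ∈ C, c⁻¹ * fn δ c ∈ P := by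
    intro c hc
    have hcY := Subgroup.mem_sup_right (S := W) hc
    -- κ_R = c⁻¹ γ c γ⁻¹ on R
    have hcRn : c ∈ Subgroup.normalizer (R : Set Ω) := mem_normalizer_iff_of_finite.2 (hsR c (hCN hc))
    have hcRF : cj R hcRn ∈ F.autGroup R := autInducedBy_le_autGroup F hRS (cj_mem hcRn hc.1)
    have hκE : (cj R hcRn)⁻¹ * γ * cj R hcRn * γ⁻¹ ∈ E.autGroup R := by
      refine Subgroup.mul_mem _ ?_ (Subgroup.inv_mem _ hγ)
      have h1 := (sinv_of_invariant hE.2.2).aut_normal hTS hEF hRT _ (Subgroup.inv_mem _ hcRF) γ hγ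
      rwa [inv_inv] at h1
    have hκP : ∀ x ∈ P, fn ((cj R hcRn)⁻¹ * γ * cj R hcRn * γ⁻¹) x = x := by
      intro x hx
      have hxR := hPR hx
      have e1 := hγiP x hx
      have e2 : fn (cj R hcRn) (fn γ⁻¹ x) = fn γ⁻¹ x := by
        rw [fn_cj _ (hPR e1), ← (mem_centralizerIn.1 hc).2 _ e1, mul_inv_cancel_right]
      have e3 : fn (cj R hcRn) x = x := by
        rw [fn_cj _ hxR, ← (mem_centralizerIn.1 hc).2 _ hx, mul_inv_cancel_right]
      rw [fn_mul _ _ hxR, fn_mul _ _ (fn_mem _ hxR), fn_mul _ _ (fn_mem _ (fn_mem _ hxR)), e2, fn_apply_inv γ hxR]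
      have := fn_inv_apply (cj R hcRn) hxR
      rwa [e3] at this
    obtain ⟨z, hz, -, hzy⟩ := H87.Strict.exists_conj_of_eq_on' hTp hE.1 hcen hPR (fn_iso hRT hκE).isMap hκP
    -- δ(c) = c z d
    have hzR := hPR hz
    have hd : (c * z)⁻¹ * fn δ c ∈ centralizerIn S R := by
      rw [mem_centralizerIn]
      refine ⟨S.mul_mem (S.inv_mem (S.mul_mem hc.1 (hPS hz))) (hδC c hc).1, fun r hr => ?_⟩
      -- δ(c) r δ(c)⁻¹ = c (z r z⁻¹) c⁻¹
      have h1 : fn δ c * r * (fn δ c)⁻¹ = c * (z * r * z⁻¹) * c⁻¹ := by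
        have h2 := hδi.isMap.map_conj hcY (Subgroup.mem_sup_left (hRW (fn_mem γ⁻¹ hr)))
        have h3 : c * fn γ⁻¹ r * c⁻¹ ∈ R := hsR c (hCN hc) _ (fn_mem γ⁻¹ hr)
        rw [hδR _ h3, hδR _ (fn_mem γ⁻¹ hr), fn_apply_inv γ hr] at h2
        rw [← h2]
        have h4 := hzy r hr
        have h5 : fn γ (fn (cj R hcRn) (fn γ⁻¹ r)) = fn (cj R hcRn) (z * r * z⁻¹) := by
          rw [← h4, fn_mul _ _ hr, fn_mul _ _ (fn_mem _ hr), fn_mul _ _ (fn_mem _ (fn_mem _ hr)),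
            fn_apply_inv (cj R hcRn) (fn_mem _ (fn_mem _ (fn_mem _ hr)))]
        rw [fn_cj hcRn (fn_mem γ⁻¹ hr), fn_cj hcRn (R.mul_mem (R.mul_mem hzR hr) (R.inv_mem hzR))] at h5
        exact h5
      have h6 : fn δ c * r = c * (z * r * z⁻¹) * c⁻¹ * fn δ c := by
        rw [← h1]; group
      calc r * ((c * z)⁻¹ * fn δ c) = (c * z)⁻¹ * (c * (z * r * z⁻¹) * c⁻¹ * fn δ c) := by group
        _ = (c * z)⁻¹ * (fn δ c * r) := by rw [h6]
        _ = _ := by group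
    obtain ⟨d, hd, hcd⟩ : ∃ d ∈ centralizerIn S R, fn δ c = c * z * d := ⟨_, hd, by group⟩
    have hdR := (mem_centralizerIn.1 hd).2
    have hdW : d ∈ W := Subgroup.mem_sup_right hd
    have hδd : d⁻¹ * fn δ d ∈ P := by
      have h1 : d⁻¹ * fn δ d ∈ R := by rw [hδW d hdW]; exact hβtr d hdW
      refine hP.mem hTS (hRT h1) fun x hx => ?_
      have h2 : fn δ d ∈ C := hδC d (hCR hd)
      have h3 := (mem_centralizerIn.1 h2).2 x hx
      have h4 := hdR x (hPR hx)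
      have h5 : x * d⁻¹ = d⁻¹ * x := by
        calc x * d⁻¹ = d⁻¹ * (d * x) * d⁻¹ := by group
          _ = d⁻¹ * (x * d) * d⁻¹ := by rw [h4]
          _ = _ := by group
      rw [← mul_assoc, h5, mul_assoc, h3, mul_assoc]
    obtain ⟨u₁, hu₁, hdu⟩ : ∃ u₁ ∈ P, fn δ d = d * u₁ := ⟨_, hδd, by group⟩
    have hpow : ∀ m : ℕ, ∃ u ∈ P, fn (δ ^ m) c = c * d ^ m * u := by
      intro m
      induction m with
      | zero => exact ⟨1, P.one_mem, by rw [pow_zero, pow_zero, fn_one hcY, mul_one, mul_one]⟩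
      | succ m ih =>
        obtain ⟨u, hu, e⟩ := ih
        have huW := hPW hu
        have hdm : d ^ m ∈ W := pow_mem hdW m
        have hfu : fn δ u ∈ P := hδP.mem hu
        refine ⟨z * u₁ ^ m * fn δ u, P.mul_mem (P.mul_mem hz (pow_mem hu₁ m)) hfu, ?_⟩
        have hm' : ∀ {x y : Ω}, x ∈ W ⊔ C → y ∈ W ⊔ C → fn δ (x * y) = fn δ x * fn δ y := fun hx hy =>
          fn_map_mul δ hx hy
        have hcomm1 : Commute d u₁ := (hdR u₁ (hPR hu₁)).symm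
        have hcomm2 : Commute z (d ^ m.succ) := Commute.pow_right (hdR z hzR) _
        rw [fn_pow_succ δ m hcY, e, hm' (Subgroup.mul_mem _ hcY (Subgroup.mem_sup_left hdm)) (Subgroup.mem_sup_left huW),
          hm' hcY (Subgroup.mem_sup_left hdm), fn_map_pow δ (Subgroup.mem_sup_left hdW), hdu, hcomm1.mul_pow, hcd]
        calc c * z * d * (d ^ m * u₁ ^ m) * fn δ u = c * (z * d ^ (m + 1)) * u₁ ^ m * fn δ u := by
              rw [pow_succ']; group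
          _ = c * (d ^ (m + 1) * z) * u₁ ^ m * fn δ u := by rw [hcomm2.eq]
          _ = _ := by group
    obtain ⟨u, hu, e⟩ := hpow (orderOf δ)
    rw [pow_orderOf_eq_one, fn_one hcY] at e
    have hdn : d ^ orderOf δ ∈ P := by
      have h1 : d ^ orderOf δ = u⁻¹ := by
        have h2 : c * (d ^ orderOf δ * u) = c * 1 := by rw [mul_one, ← mul_assoc]; exact e.symm
        exact eq_inv_of_mul_eq_one_left (mul_left_cancel h2)
      rw [h1]; exact P.inv_mem hu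
    obtain ⟨i, hi'⟩ := hS ⟨d, hd.1⟩
    have hdP : d ∈ P := mem_of_pow_mem (e := i) (by
      have := congrArg (fun x : S => (x : Ω)) hi'
      simpa using this) hk1' hdn
    rw [hcd]
    have : c⁻¹ * (c * z * d) = z * d := by group
    rw [this]; exact P.mul_mem hz hdP
  exact ⟨fn δ, hδi.isMap.mono (sup_le (hPW.trans le_sup_left) le_sup_right), fun x hx => hδR x (hPR hx), key⟩

end H87.NE
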