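import Cfsg.Agent.Lib.H87.NE4
set_option autoImplicit false

open Cfsg Cfsg.FusionSystem

namespace H87.NE
open H87.Base H87.Basic H87.Syl H87.Sat H87.Grow H87.Inv H87.Frat H87.Cut H87.PPow H87.Crit H87.PPr H87.CMap

variable {Ω : Type*} [Group Ω] {S T : Subgroup Ω} {F : FusionSystem S} {E D E₀ : FusionSystem T}
  {P Q R M N U X A : Subgroup Ω} {f g h a b ζ : Ω → Ω} {p : ℕ}

theorem nex_id (hP : P ≤ S) : NEx F P (fun x => x) :=
  ⟨fun x => x, isMap_id F (sup_le hP inf_le_left), fun _ _ => rfl, fun c _ => by rw [inv_mul_cancel]; exact P.one_mem⟩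

/-- the subgroup of `Aut_F(P)` of automorphisms with the extension property -/
noncomputable def nexGrp [Finite S] (F : FusionSystem S) (P : Subgroup Ω) (hP : P ≤ S) : Subgroup (MulAut P) where
  carrier := {α | α ∈ F.autGroup P ∧ NEx F P (fn α)}
  mul_mem' := by
    rintro α β ⟨h1, h2⟩ ⟨h3, h4⟩
    exact ⟨Subgroup.mul_mem _ h1 h3, (NEx.comp (fn_iso hP h3) (fn_iso hP h1) h4 h2).congr
      fun x hx => (fn_mul α β hx).symm⟩
  one_mem' := ⟨Subgroup.one_mem _, (nex_id hP).congr fun x hx => (fn_one hx).symm⟩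
  inv_mem' := by
    rintro α ⟨h1, h2⟩
    have h1' := Subgroup.inv_mem _ h1
    exact ⟨h1', NEx.symm (fn_iso hP h1) (fn_iso hP h1') (fun x hx => fn_apply_inv α hx) h2⟩

/-- powers of an automorphism restrict to powers -/
theorem restrict_pow (hPR : P ≤ R) {γ : MulAut R} {α : MulAut P} (h : ∀ x ∈ P, fn γ x = fn α x) (m : ℕ) :
    ∀ x ∈ P, fn (γ ^ m) x = fn (α ^ m) x := by
  induction m with
  | zero => intro x hx; rw [pow_zero, pow_zero, fn_one (hPR hx), fn_one hx]
  | succ m ih =>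
    intro x hx
    rw [fn_pow_succ γ m (hPR hx), fn_pow_succ α m hx, ih x hx, h _ (fn_mem _ hx)]

theorem exists_parts [Fact p.Prime] {X : Type*} [Group X] [Finite X] (α : X) : ∃ r j : ℕ, ∃ u v : ℤ,
    orderOf α = p ^ j * r ∧ r.Coprime p ∧ α = (α ^ r) ^ u * (α ^ p ^ j) ^ v := by
  obtain ⟨j, r, hr, hjr⟩ := Nat.exists_eq_pow_mul_and_not_dvd (orderOf_pos α).ne' p (Fact.out : p.Prime).ne_one
  have hcop' : Nat.Coprime r p := ((Nat.Prime.coprime_iff_not_dvd Fact.out).2 hr).symm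
  obtain ⟨u, v, huv⟩ := Nat.isCoprime_iff_coprime.2 (Nat.Coprime.pow_right j hcop')
  refine ⟨r, j, u, v, hjr, hcop', ?_⟩
  rw [← zpow_natCast α r, ← zpow_natCast α (p ^ j), ← zpow_mul, ← zpow_mul, ← zpow_add, mul_comm (r : ℤ) u,
    mul_comm ((p ^ j : ℕ) : ℤ) v, huv, zpow_one]

/-- (NE): every element of `Aut_E(P)`, `P` `E`-centric, has the extension property. -/
theorem ne_all [Fact p.Prime] [Finite S] (hS : IsPGroup p S) (hE : E.IsNormalIn F p) :
    ∀ P, TC F T P → ∀ α ∈ E.autGroup P, NEx F P (fn α) := by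
  have hEw := hE.1
  have hT := hEw.2.2.2.1
  have hTS : T ≤ S := hT.1
  have hEF := hEw.2.2.1
  have hF := hEw.2.1
  have hI := sinv_of_invariant hEw.2.2
  have hTfin : Finite T := finite_of_le hTS
  have hTp : IsPGroup p T := hS.to_le hTS
  intro P hP
  obtain ⟨n, hn⟩ : ∃ n, Nat.card T - Nat.card P = n := ⟨_, rfl⟩
  induction n using Nat.strong_induction_on generalizing P with
  | _ n ih =>
  intro α hα
  by_cases hPT : P = T
  · subst hPT
    obtain ⟨-, -, -, h⟩ := isNormalIn_iff.1 hE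
    obtain ⟨b, hb, b1, b2⟩ := h _ (fn_iso le_rfl hα)
    exact ⟨b, hb.isMap, b1, fun c hc => (b2 c hc).1⟩
  have hlt : P < T := lt_of_le_of_ne hP.1 hPT
  have hPS := hP.1.trans hTS
  obtain ⟨Q, hPQ, hQ⟩ := exists_nice hF hPS
  obtain ⟨χ, hχN, hχ⟩ := hQ.exists_map_normalizer hS hPQ
  have hQc : TC F T Q := hP.conj hT hχ
  have hQT := hQc.1
  have hQS := hQT.trans hTS
  have hQn := H87.Bridge.fn_of_nice hS hQ
  have hQE := H87.Bridge.nice_of_fn hTp hEw.1 (H87.Bridge.fn_sub hS hF hEF hT hQT hQn)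
  have hcard := conj_card hPQ
  have hαi : IsIso E P P (fn α) := fn_iso hP.1 hα
  obtain ⟨g₁, hg₁, hg₁'⟩ := hI P P _ χ le_rfl hP.1 hαi.isMap (fun _ hx => hαi.mem hx) hχ.isMap
  rw [hχ.eq_img] at hg₁
  set α' := IsIso.congrAut hχ α with hα'
  have h1 : α' ∈ E.autGroup Q := by
    refine mem_autGroup_of_isMap hQT hg₁ fun y => ?_
    obtain ⟨x, hx, e⟩ := hχ.surj y.2
    rw [← fn_coe, ← e, fn_congrAut hχ α hx]
    exact (hg₁' x hx).symm
  refine NEx.transport (g := fn α') (sup_le (le_normalizerIn hPS)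
    centralizerIn_le_normalizerIn) hχN hχ ?_ (fun x hx => fn_mem α hx) fun x hx => fn_congrAut hχ α hx
  have hQlt : Q < T := lt_of_le_of_ne hQT fun e => by
    have h1 := card_lt' hTS hlt
    rw [hcard, e] at h1
    exact lt_irrefl _ h1
  have hNlt := lt_normalizerIn hTp hQlt
  have hRT : normalizerIn T Q ≤ T := inf_le_left
  have hQR : Q ≤ normalizerIn T Q := hNlt.le
  have hQfin : Finite Q := finite_of_le hQS
  -- opp
  have hopp : opp E p Q ≤ nexGrp F Q hQS := (Subgroup.closure_le _).2 fun β hβ =>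
    ⟨autGroup_mono hEF Q hβ.1, nex_of_pElement hS hEw hQc hβ.1 hβ.2⟩
  have hoE : opp E p Q ≤ E.autGroup Q := opp_le
  have hα'i : IsIso E Q Q (fn α') := fn_iso hQT h1
  obtain ⟨k, hk, hD⟩ := hQE.frattini hoE opp_normal h1
  obtain ⟨g, hg, hgx⟩ := hD (normalizerIn T Q) inf_le_left (by
    intro d hd
    obtain ⟨c, hc, e⟩ := exists_induced (S := T) hd
    exact ⟨c, Subgroup.subset_closure ⟨autInducedBy_le_autGroup E hQT hc,
      orderOf_pow_of_isPGroup (isPGroup_autInducedBy hTp) hc⟩, e⟩)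
  have hgR : IsMap E (normalizerIn T Q) g := hg.mono le_sup_right
  have hkα : k * α' ∈ E.autGroup Q := Subgroup.mul_mem _ (hoE hk) h1
  have hgval : ∀ x ∈ Q, g x = fn (k * α') x := fun x hx => by rw [fn_apply _ hx]; exact hgx x hx
  have hgQ : IsIso E Q Q g := (fn_iso hQT hkα).congr fun x hx => (hgval x hx).symm
  have hgi : IsIso E (normalizerIn T Q) (normalizerIn T Q) g :=
    H87.ConstrEq.isIso_of_self hgR fun x hx => H87.Bridge.map_mem_normalizerIn hgR hgQ hx
  have hRfin : Finite (normalizerIn T Q) := finite_of_le (hRT.trans hTS)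
  have hfinA : Finite (MulAut (normalizerIn T Q)) := finite_mulAut
  set γ := hgi.aut with hγ
  have hγE : γ ∈ E.autGroup (normalizerIn T Q) := hgi.aut_mem
  have hγQ : ∀ x ∈ Q, fn γ x = fn (k * α') x := fun x hx => by rw [fn_aut hgi (hQR hx), hgval x hx]
  obtain ⟨r, j, u, v, hord, hr, hparts⟩ := exists_parts (p := p) γ
  have hres := restrict_pow hQR hγQ
  have hp1 : (k * α') ^ r ∈ nexGrp F Q hQS := by
    have h2 : orderOf ((k * α') ^ r) ∣ p ^ j := by
      rw [orderOf_dvd_iff_pow_eq_one, ← pow_mul, mul_comm, ← hord]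
      refine fn_ext fun x hx => ?_
      rw [← hres _ x hx, pow_orderOf_eq_one, fn_one (hQR hx)]
      exact (fn_one hx).symm
    obtain ⟨i, -, hi⟩ := (Nat.dvd_prime_pow Fact.out).1 h2
    have h3 := Subgroup.pow_mem _ hkα r
    exact ⟨autGroup_mono hEF Q h3, nex_of_pElement hS hEw hQc h3 ⟨i, hi⟩⟩
  have hp2 : (k * α') ^ p ^ j ∈ nexGrp F Q hQS := by
    have hγj := Subgroup.pow_mem _ hγE (p ^ j)
    have hcop : (orderOf (γ ^ p ^ j)).Coprime p := by
      refine Nat.Coprime.coprime_dvd_left (orderOf_dvd_of_pow_eq_one ?_) hr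
      rw [← pow_mul, ← hord, pow_orderOf_eq_one]
    have hc1 : Nat.card Q < Nat.card (normalizerIn T Q) := card_lt' (hRT.trans hTS) hNlt
    have hc2 : Nat.card (normalizerIn T Q) ≤ Nat.card T :=
      Nat.card_le_card_of_injective _ (Subgroup.inclusion_injective hRT)
    have hNR := ih (Nat.card T - Nat.card (normalizerIn T Q)) (by omega) _ (hQc.up hQR hRT) rfl _ hγj
    have h4 := ne_step hS hEw hQc hQn rfl hγj hcop (fun x hx => by rw [hres _ x hx]; exact fn_mem _ hx) hNR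
    exact ⟨autGroup_mono hEF Q (Subgroup.pow_mem _ hkα _), h4.congr fun x hx => hres _ x hx⟩
  have hp3 : k * α' ∈ nexGrp F Q hQS := by
    have h5 : k * α' = ((k * α') ^ r) ^ u * ((k * α') ^ p ^ j) ^ v := by
      have huv : (r : ℤ) * u + ((p ^ j : ℕ) : ℤ) * v ≡ 1 [ZMOD orderOf γ] := by
        have h6 : γ ^ ((r : ℤ) * u + ((p ^ j : ℕ) : ℤ) * v) = γ ^ (1 : ℤ) := by
          rw [zpow_one, zpow_add, zpow_mul, zpow_mul, zpow_natCast, zpow_natCast]
          exact hparts.symm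
        rwa [zpow_eq_zpow_iff_modEq] at h6
      have h7 : (k * α') ^ ((r : ℤ) * u + ((p ^ j : ℕ) : ℤ) * v) = (k * α') ^ (1 : ℤ) := by
        rw [zpow_eq_zpow_iff_modEq]
        refine huv.of_dvd ?_
        rw [Int.natCast_dvd_natCast]
        refine orderOf_dvd_of_pow_eq_one (fn_ext fun x hx => ?_)
        rw [← hres _ x hx, pow_orderOf_eq_one, fn_one (hQR hx)]
        exact (fn_one hx).symm
      rw [zpow_one, zpow_add, zpow_mul, zpow_mul, zpow_natCast, zpow_natCast] at h7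
      exact h7.symm
    rw [h5]
    exact Subgroup.mul_mem _ (Subgroup.zpow_mem _ hp1 u) (Subgroup.zpow_mem _ hp2 v)
  have h8 : α' = k⁻¹ * (k * α') := by group
  rw [h8]
  exact (Subgroup.mul_mem _ (Subgroup.inv_mem _ (hopp hk)) hp3 : k⁻¹ * (k * α') ∈ nexGrp F Q hQS).2

end H87.NE
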