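import Cfsg.Agent.Lib.H87.CE8
import Cfsg.Agent.Lib.H87.Crit5
set_option autoImplicit false

open Cfsg Cfsg.FusionSystem

namespace H87.NM
open H87.Base H87.Basic H87.Syl H87.Sat H87.Grow H87.Inv H87.Frat H87.Cut H87.PPow H87.Crit H87.PPr H87.CMap H87.NE
open H87.ConstrEq H87.CE

variable {Ω : Type*} [Group Ω] {S T : Subgroup Ω} {F : FusionSystem S} {E D : FusionSystem T}
  {P Q R M N U V X Z W P₀ : Subgroup Ω} {f g h a b κ : Ω → Ω} {p : ℕ}
  {Fm : Subgroup Ω → Prop} {A : ∀ P : Subgroup Ω, Subgroup (MulAut P)}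

/-- A normal map: candidate automorphism groups of a normal subsystem over `T`. -/
structure NorMap (F : FusionSystem S) (T : Subgroup Ω) (p : ℕ) (Fm : Subgroup Ω → Prop)
    (A : ∀ P : Subgroup Ω, Subgroup (MulAut P)) : Prop where
  le : ∀ P, Fm P → P ≤ T
  top : Fm T
  conj : ∀ P Q f, Fm P → IsIso F P Q f → Fm Q
  up : ∀ P Q, Fm P → P ≤ Q → Q ≤ T → Fm Q
  sub : ∀ P, Fm P → A P ≤ F.autGroup P
  inv : ∀ P Q f (hf : IsIso F P Q f), Fm P → ∀ α ∈ A P, IsIso.congrAut hf α ∈ A Q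
  syl : ∀ P, Fm P → IsNice F p P → SylIn p (autInducedBy T P) (A P)
  res : ∀ P Q, Fm P → P ≤ Q → Q ≤ normalizerIn T P → ∀ α ∈ A Q, ∀ β : MulAut P, (∀ x ∈ P, fn α x = fn β x) →
    β ∈ A P
  ext : ∀ P, Fm P → P ≠ T → IsNice F p P → ∀ α ∈ A P, ∀ g, IsIso F (normalizerIn T P) (normalizerIn T P) g →
    (∀ x ∈ P, g x = fn α x) → ∃ β ∈ A (normalizerIn T P), ∀ x ∈ P, fn β x = fn α x
  out : ∀ Q, Q ≤ T → ¬ Fm Q → IsNice F p Q → ∀ f, IsIso F Q Q f → ∃ R g, Q < R ∧ R ≤ T ∧ IsMap F R g ∧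
    ∀ x ∈ Q, g x = f x

/-- the least system over `T` with the given automorphism groups -/
structure IsGen (F : FusionSystem S) (Fm : Subgroup Ω → Prop) (A : ∀ P : Subgroup Ω, Subgroup (MulAut P))
    (E : FusionSystem T) : Prop where
  sub : E.IsSubsystemOf F
  mem : ∀ P, Fm P → A P ≤ E.autGroup P
  least : ∀ D : FusionSystem T, (∀ P, Fm P → A P ≤ D.autGroup P) → E.IsSubsystemOf D

theorem exists_gen (hTS : T ≤ S) (hle : ∀ P, Fm P → P ≤ T) (hA : ∀ P, Fm P → A P ≤ F.autGroup P) :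
    ∃ E : FusionSystem T, IsGen F Fm A E := by
  obtain ⟨F₀, hF₀⟩ := exists_cut F hTS (fun _ _ => True) (fun _ _ _ _ _ _ _ _ => trivial) (fun _ _ _ _ => trivial)
    (fun _ _ _ _ _ _ _ _ _ _ _ _ => trivial) (fun _ _ _ _ _ _ _ _ _ _ _ => trivial)
  let Fam : FusionSystem T → Prop := fun D => ∀ P, Fm P → A P ≤ D.autGroup P
  have hFam : Fam F₀ := by
    intro P hP α hα
    have h1 := fn_iso ((hle P hP).trans hTS) (hA P hP hα)
    refine mem_autGroup_of_isMap (f := fn α) (hle P hP) ?_ fun x => (fn_coe α x).symm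
    rw [hF₀]
    exact ⟨h1.isMap, hle P hP, fun x hx => hle P hP (h1.mem hx), trivial⟩
  obtain ⟨E, hE⟩ := exists_cut F hTS (fun P f => ∀ D, Fam D → IsMap D P f)
    (fun P f g hP hf hfT e h D hD => (h D hD).congr e)
    (fun P hP t ht D hD => isMap_conj D hP ht)
    (fun P Q f g hP hQ hf hg hfQ hgT h1 h2 D hD => (h1 D hD).comp (h2 D hD) hfQ)
    (fun P Q f g hP hQ hf hg e1 e2 h D hD => by
      obtain ⟨l, hl, l1, l2⟩ := (h D hD).isIso.symm
      rw [hf.eq_img] at hl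
      refine hl.isMap.congr fun y hy => ?_
      obtain ⟨x, hx, rfl⟩ := hf.surj hy
      rw [l1 x hx, e1 x hx])
  refine ⟨E, ?_, ?_, ?_⟩
  · rw [isSubsystemOf_iff]
    exact fun P f hf => ((hE P f).1 hf).1
  · intro P hP α hα
    have h1 := fn_iso ((hle P hP).trans hTS) (hA P hP hα)
    refine mem_autGroup_of_isMap (f := fn α) (hle P hP) ?_ fun x => (fn_coe α x).symm
    rw [hE]
    exact ⟨h1.isMap, hle P hP, fun x hx => hle P hP (h1.mem hx), fun D hD =>
      (fn_iso (hle P hP) (hD P hP hα)).isMap⟩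
  · intro D hD
    rw [isSubsystemOf_iff]
    exact fun P f hf => ((hE P f).1 hf).2.2.2 D hD

namespace NorMap

theorem autT_le [Fact p.Prime] [Finite S] (hS : IsPGroup p S) (hF : F.IsSaturated p) (hT : F.StronglyClosed T)
    (h : NorMap F T p Fm A) (hP : Fm P) : autInducedBy T P ≤ A P := by
  have hTS := hT.1
  have hPT := h.le P hP
  have hPS := hPT.trans hTS
  obtain ⟨Q, hPQ, hQ⟩ := exists_nice hF hPS
  obtain ⟨χ, hχN, hχ⟩ := hQ.exists_map_normalizer hS hPQ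
  have hQFm := h.conj _ _ _ hP hχ
  have hfin : Finite Q := finite_of_le hQ.1.1
  intro α hα
  obtain ⟨t, ht, e⟩ := fn_autInduced hα
  have htN : t ∈ normalizerIn S P := by
    have : Finite P := finite_of_le hPS
    exact mem_normalizerIn_iff.2 ⟨hTS ht, fun y hy => by rw [← e y hy]; exact fn_mem _ hy⟩
  have htQ : χ t ∈ T := mem_of_stronglyClosed hT hχN htN ht
  have hPN : P ≤ normalizerIn S P := le_normalizerIn hPS
  have h1 : IsIso.congrAut hχ α ∈ A Q := by
    refine (h.syl Q hQFm hQ).le (mem_autInduced_of_fn htQ fun y hy => ?_)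
    obtain ⟨x, hx, rfl⟩ := hχ.surj hy
    rw [fn_congrAut hχ α hx, e x hx, hχN.map_conj htN (hPN hx)]
  obtain ⟨l, hl, l1, l2⟩ := hχ.symm
  have h2 := h.inv _ _ _ hl hQFm _ h1
  have h3 : IsIso.congrAut hl (IsIso.congrAut hχ α) = α := by
    refine fn_ext fun x hx => ?_
    have h4 := fn_congrAut hl (IsIso.congrAut hχ α) (hχ.mem hx)
    rw [l1 x hx, fn_congrAut hχ α hx, l1 _ (fn_mem α hx)] at h4
    exact h4
  rwa [h3] at h2

/-- `A P` is normal in `Aut_F(P)`. -/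
theorem norm (hTS : T ≤ S) (h : NorMap F T p Fm A) (hP : Fm P) : ∀ a ∈ F.autGroup P, ∀ k ∈ A P, a * k * a⁻¹ ∈ A P := by
  intro a ha k hk
  have hPS := (h.le P hP).trans hTS
  have hai := fn_iso hPS ha
  have h1 := h.inv _ _ _ hai hP k hk
  have h2 : IsIso.congrAut hai k = a * k * a⁻¹ := by
    refine fn_ext fun y hy => ?_
    obtain ⟨x, hx, rfl⟩ := hai.surj hy
    rw [fn_congrAut hai k hx, fn_mul _ _ (fn_mem a hx), fn_inv_apply a hx, fn_mul _ _ hx]
  rwa [h2] at h1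

theorem ainv [Finite S] (hTS : T ≤ S) (h : NorMap F T p Fm A) (hE : IsGen F Fm A E) : AInv F E := by
  obtain ⟨E₀, hE₀, hA₀⟩ := exists_inv_core hE.sub
  have hle : E.IsSubsystemOf E₀ := by
    refine hE.least E₀ fun P hP α hα => ?_
    have hPT := h.le P hP
    refine mem_autGroup_of_isMap (f := fn α) hPT ?_ fun x => (fn_coe α x).symm
    rw [hE₀]
    refine ⟨(fn_iso hPT (hE.mem P hP hα)).isMap, fun a ha => ?_⟩
    have haP := ha.restrict hPT
    have h1 := h.inv _ _ _ haP hP α hα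
    have hQ := h.conj _ _ _ hP haP
    exact ⟨_, (fn_iso (h.le _ hQ) (hE.mem _ hQ h1)).isMap, fun x hx => fn_congrAut haP α hx⟩
  intro P f a hf ha
  obtain ⟨g, hg, e⟩ := hA₀ P f a (isMap_of_sub hle hf) ha
  exact ⟨g, ((hE₀ _ _).1 hg).1, e⟩

/-- the Frattini condition -/
theorem fg [Fact p.Prime] [Finite S] (hS : IsPGroup p S) (hF : F.IsSaturated p) (hT : F.StronglyClosed T)
    (h : NorMap F T p Fm A) (hE : IsGen F Fm A E) : ∀ P f, P ≤ T → IsMap F P f → FG F E P f := by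
  have hTS := hT.1
  have hA := h.ainv hTS hE
  refine alp hS hF hT _ (fun P f g _ _ e h => h.congr e) (fun P Q f _ _ hQ h => h.mono hQ) ?_ ?_ ?_ ?_
  · intro P Q f g _ hf _ h1 h2
    exact FG.comp hA hTS hf h1 h2
  · intro P Q f g _ hf _ e _ h
    exact FG.symm hA hf h e
  · intro f hf
    exact ⟨f, fun x => x, hf, isMap_id E le_rfl, fun _ _ => rfl⟩
  · intro Q hQ hQne hnice ih f hf
    by_cases hFm : Fm Q
    · have hQS := hQ.trans hTS
      have hQfin : Finite Q := finite_of_le hQS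
      have hfinA : Finite (MulAut Q) := finite_mulAut
      obtain ⟨k, hk, hex⟩ := hnice.frattini (h.sub Q hFm) (h.norm hTS hFm) hf.aut_mem
      have hTfin : Finite T := finite_of_le hTS
      have hlt := lt_normalizerIn (hS.to_le hTS) (lt_of_le_of_ne hQ hQne)
      obtain ⟨g, hg, e⟩ := hex (normalizerIn T Q) (inf_le_left.trans hTS) (by
        intro d hd
        exact ⟨cj Q hd.2, h.autT_le hS hF hT hFm (cj_mem hd.2 hd.1), fun x => rfl⟩)
      have hfg := ih (normalizerIn T Q) g inf_le_left (card_lt' (inf_le_left.trans hTS) hlt) (hg.mono le_sup_right)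
      have hfgQ := hfg.mono hlt.le
      have hkf : FG F E Q (fn (k * hf.aut)) := hfgQ.congr fun x hx => by rw [e x hx, fn_apply _ hx]
      have hmem : k * hf.aut ∈ fgGrp F E hA hTS Q hQ := ⟨Subgroup.mul_mem _ (h.sub Q hFm hk) hf.aut_mem, hkf⟩
      have hk' : k ∈ fgGrp F E hA hTS Q hQ :=
        ⟨h.sub Q hFm hk, fg_of_E hTS (fn_iso hQ (hE.mem Q hFm hk)).isMap⟩
      have h2 : hf.aut ∈ fgGrp F E hA hTS Q hQ := by
        have := Subgroup.mul_mem _ (Subgroup.inv_mem _ hk') hmem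
        simpa using this
      exact h2.2.congr fun x hx => fn_aut hf hx
    · obtain ⟨R, g, hQR, hRT, hg, e⟩ := h.out Q hQ hFm hnice f hf
      exact ((ih R g hRT (card_lt' (hRT.trans hTS) hQR) hg).mono hQR.le).congr e

end NorMap

end H87.NM
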