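import Cfsg.Agent.Lib.H87.NM1
set_option autoImplicit false

open Cfsg Cfsg.FusionSystem

namespace H87.NM
open H87.Base H87.Basic H87.Syl H87.Sat H87.Grow H87.Inv H87.Frat H87.Cut H87.PPow H87.Crit H87.PPr H87.CMap H87.NE
open H87.ConstrEq H87.CE

section
variable {Ω : Type*} [Group Ω] {S : Subgroup Ω} {F : FusionSystem S} {P Q R R₂ U : Subgroup Ω}
  {f g h : Ω → Ω} {p : ℕ}

/-- The path lemma, with control on the difference. -/
theorem path' [Fact p.Prime] [Finite S] (hS : IsPGroup p S) (hU : IsNice F p U) (hg : IsIso F R R₂ g)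
    (hc : F.IsConj R₂ U) (hPR : P ≤ R) (hPQ : IsIso F P Q g) :
    ∃ P₃ σ θ l, IsMap F (R ⊔ (normalizerIn S P ⊓ normalizerIn S R)) σ ∧ IsIso F P P₃ σ ∧
      IsMap F (R₂ ⊔ (normalizerIn S Q ⊓ normalizerIn S R₂)) θ ∧ IsIso F Q P₃ θ ∧ l ∈ st F R₂ Q ∧
      ∀ z ∈ R, σ z = θ (fn l (g z)) := by
  obtain ⟨l, hl, θ, σ, hθ, hθ', hσ, hσe⟩ := ext_pair hS hU hg hc (M := st F R₂ Q) (L := st F R₂ Q)
    (X := normalizerIn S P ⊓ normalizerIn S R) (Y := normalizerIn S Q ⊓ normalizerIn S R₂)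
    (fun α hα => hα.1) (fun V hV _ m hm => ⟨1, V.one_mem, m, hm, (one_mul m).symm⟩) le_rfl inf_le_right
    inf_le_right (autInduced_le_st hg.le') (fun x hx => exists_mem_st hg hPR hPQ hx)
  have hQR₂ : Q ≤ R₂ := by
    intro y hy
    obtain ⟨x, hx, rfl⟩ := hPQ.surj hy
    exact hg.mem (hPR hx)
  have hθQ := hθ.restrict hQR₂
  refine ⟨img Q θ, σ, θ, l, hσ, ?_, hθ', hθQ, hl, hσe⟩
  refine (hσ.mono (hPR.trans le_sup_left)).isIso_of ?_ ?_
  · intro x hx
    rw [hσe x (hPR hx)]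
    exact hθQ.mem ((hl.2 _ (hg.mem (hPR hx))).1 (hPQ.mem hx))
  · intro y hy
    obtain ⟨z, hz, rfl⟩ := hθQ.surj hy
    have hz' : fn l⁻¹ z ∈ Q := ((Subgroup.inv_mem _ hl : l⁻¹ ∈ st F R₂ Q).2 z (hQR₂ hz)).1 hz
    obtain ⟨x, hx, e⟩ := hPQ.surj hz'
    refine ⟨x, hx, ?_⟩
    rw [hσe x (hPR hx), e, fn_apply_inv l (hQR₂ hz)]

end

variable {Ω : Type*} [Group Ω] {S T : Subgroup Ω} {F : FusionSystem S} {E D : FusionSystem T}
  {P Q R M N U V X Z W P₀ : Subgroup Ω} {f g h a b κ : Ω → Ω} {p : ℕ}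
  {Fm : Subgroup Ω → Prop} {A : ∀ P : Subgroup Ω, Subgroup (MulAut P)}

/-- refined reachability -/
def RR (E : FusionSystem T) (A : ∀ P : Subgroup Ω, Subgroup (MulAut P)) (P₀ Q : Subgroup Ω) (f : Ω → Ω) : Prop :=
  ∃ ρ, IsMap E (normalizerIn T Q) ρ ∧ IsIso E Q P₀ ρ ∧ ∃ a ∈ A P₀, ∀ x ∈ P₀, ρ (f x) = fn a x

theorem RR.congr (h : RR E A P₀ Q f) (e : ∀ x ∈ P₀, f x = g x) : RR E A P₀ Q g := by
  obtain ⟨ρ, h1, h2, a, ha, h3⟩ := h
  exact ⟨ρ, h1, h2, a, ha, fun x hx => by rw [← e x hx]; exact h3 x hx⟩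

theorem RR.right (h : RR E A P₀ Q f) {c : MulAut P₀} (hc : c ∈ A P₀) : RR E A P₀ Q (fun x => f (fn c x)) := by
  obtain ⟨ρ, h1, h2, a, ha, h3⟩ := h
  exact ⟨ρ, h1, h2, a * c, Subgroup.mul_mem _ ha hc, fun x hx => by
    show ρ (f (fn c x)) = _
    rw [h3 _ (fn_mem c hx), fn_mul _ _ hx]⟩

theorem RR.left (hNM : NorMap F T p Fm A) (hEF : E.IsSubsystemOf F) (hQ : Fm Q) (hf : IsIso E P₀ Q f)
    (h : RR E A P₀ Q f) {l : MulAut Q} (hl : l ∈ A Q) : RR E A P₀ Q (fun x => fn l (f x)) := by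
  obtain ⟨ρ, h1, h2, a, ha, h3⟩ := h
  have h4 := hNM.inv _ _ _ (isIso_of_sub hEF h2) hQ l hl
  refine ⟨ρ, h1, h2, _, Subgroup.mul_mem _ h4 ha, fun x hx => ?_⟩
  show ρ (fn l (f x)) = _
  rw [fn_mul _ _ hx, ← h3 x hx, fn_congrAut _ l (hf.mem hx)]

theorem RR.left_iff (hNM : NorMap F T p Fm A) (hEF : E.IsSubsystemOf F) (hQ : Fm Q) (hf : IsIso E P₀ Q f)
    {l : MulAut Q} (hl : l ∈ A Q) (hlE : l ∈ E.autGroup Q) (h : RR E A P₀ Q (fun x => fn l (f x))) :
    RR E A P₀ Q f := by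
  have hli := fn_iso (hNM.le Q hQ) hlE
  refine (RR.left hNM hEF hQ (hf.comp hli) h (Subgroup.inv_mem _ hl)).congr fun x hx => ?_
  show fn l⁻¹ (fn l (f x)) = f x
  rw [fn_inv_apply l (hf.mem hx)]

/-- moving along an edge, i.e. the restriction of a map of `E` on a larger subgroup. -/
theorem rr_edge [Fact p.Prime] [Finite T] (hT : IsPGroup p T) (hNM : NorMap F T p Fm A) (hEF : E.IsSubsystemOf F)
    (hG : ∀ R, Fm R → Nat.card P₀ < Nat.card R → ∃ U, E.IsConj R U ∧ IsNice E p U)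
    (hL : ∀ R, Fm R → Nat.card P₀ < Nat.card R → E.autGroup R ≤ A R)
    (hfn : E.IsFullyNormalized P₀) (hP₀ : Fm P₀) (hAE : ∀ P, Fm P → A P ≤ E.autGroup P) :
    ∀ (m : ℕ) (P Q R : Subgroup Ω) (f f₀ : Ω → Ω), Nat.card T - Nat.card R = m → P < R →
      R ≤ normalizerIn T P → IsMap E R f → IsIso E P Q f → IsIso E P₀ P f₀ → RR E A P₀ P f₀ →
      RR E A P₀ Q (fun x => f (f₀ x)) := by
  intro m
  induction m using Nat.strong_induction_on with
  | _ m ih =>
  have hFmc : ∀ {P Q : Subgroup Ω} {f : Ω → Ω}, Fm P → IsIso E P Q f → Fm Q := fun h1 h2 =>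
    hNM.conj _ _ _ h1 (isIso_of_sub hEF h2)
  have case1 : ∀ (P Q R : Subgroup Ω) (f f₀ : Ω → Ω), Nat.card T - Nat.card R = m → P < R →
      R < normalizerIn T P → IsMap E R f → IsIso E P Q f → img R f < normalizerIn T Q → IsIso E P₀ P f₀ →
      RR E A P₀ P f₀ → RR E A P₀ Q (fun x => f (f₀ x)) := by
    intro P Q R f f₀ hm hPR hRN hf hPQ hR₂ hf₀ hr
    have hcP : E.IsConj P₀ P := hf₀.isConj
    have hFP : Fm P := hFmc hP₀ hf₀
    have hg := hf.isIso
    have hRS : R ≤ T := hf.le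
    have hFR : Fm R := hNM.up _ _ hFP hPR.le hRS
    have hFR₂ : Fm (img R f) := hFmc hFR hg
    have hcR : Nat.card P₀ < Nat.card (img R f) := by
      rw [← hg.card_eq, conj_card hcP]
      exact card_lt_of_lt hPR hRS
    obtain ⟨U, hU, hUn⟩ := hG (img R f) hFR₂ hcR
    obtain ⟨P₃, σ, θ, l, hσ, hσi, hθ, hθi, hl, hle⟩ := path' hT hUn hg hU hPR.le hPQ
    have hA := lt_inf hT hRN
    have hB := lt_inf hT hR₂
    rw [sup_eq_right.2 hA.le] at hσ
    rw [sup_eq_right.2 hB.le] at hθ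
    have hAS : Nat.card (normalizerIn T P ⊓ normalizerIn T R : Subgroup Ω) ≤ Nat.card T := card_le_of_le hσ.le le_rfl
    have hAc := card_lt_of_lt hA hσ.le
    have hBS : Nat.card (normalizerIn T Q ⊓ normalizerIn T (img R f) : Subgroup Ω) ≤ Nat.card T :=
      card_le_of_le hθ.le le_rfl
    have hBc := card_lt_of_lt hB hθ.le
    have hcard : Nat.card R = Nat.card (img R f) := hg.card_eq
    -- first step
    have h1 : RR E A P₀ P₃ (fun x => σ (f₀ x)) :=
      ih _ (by omega) P P₃ _ σ f₀ rfl (hPR.trans hA) inf_le_left hσ hσi hf₀ hr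
    -- second step
    have hQR₂ : Q ≤ img R f := by
      intro y hy
      obtain ⟨x, hx, rfl⟩ := hPQ.surj hy
      exact apply_mem_img (hPR.le hx)
    have hθ' := hθ.isIso
    obtain ⟨k, hk, k1, k2⟩ := hθ'.symm
    have hQB := hQR₂.trans hB.le
    have hki := iso_symm_restrict hk k1 hθ' hQB hθi
    have hQlt : Q < normalizerIn T Q ⊓ normalizerIn T (img R f) := by
      refine lt_of_le_of_lt hQR₂ hB
    have hP₃le : P₃ ≤ img (normalizerIn T Q ⊓ normalizerIn T (img R f)) θ := by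
      intro y hy
      obtain ⟨x, hx, rfl⟩ := hθi.surj hy
      exact apply_mem_img (hQB hx)
    have hci := hθ'.card_eq
    have hcQ := hθi.card_eq
    have h2 : RR E A P₀ Q (fun x => k (σ (f₀ x))) := by
      refine ih _ ?_ P₃ Q _ k (fun x => σ (f₀ x)) rfl (lt_of_le_of_ne hP₃le fun e => ?_) ?_ hk.isMap hki
        (hf₀.comp hσi) h1
      · rw [← hci]; omega
      · have h3 := card_lt_of_lt hQlt hθ.le
        rw [← e] at hci
        omega
      · intro y hy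
        obtain ⟨x, hx, rfl⟩ := (mem_img hθ).1 hy
        exact map_mem_norm hθ inf_le_left hQB hθi hx
    -- the difference
    have hFQ : Fm Q := hFmc hFP hPQ
    have hlA : l ∈ A (img R f) := hL _ hFR₂ hcR hl.1
    have hl2 := fn_iso hg.le' hl.1
    have hlQ : IsIso E Q Q (fn l) := by
      refine isIso_of_self (hl2.isMap.mono hQR₂) fun x hx => (hl.2 x (hQR₂ hx)).1 hx
    have hlQA : hlQ.aut ∈ A Q := by
      refine hNM.res Q (img R f) hFQ hQR₂ ?_ l hlA _ fun x hx => (fn_aut hlQ hx).symm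
      intro y hy
      obtain ⟨x, hx, rfl⟩ := (mem_img hf).1 hy
      exact map_mem_norm hf hRN.le hPR.le hPQ hx
    refine RR.left_iff hNM hEF hFQ (hf₀.comp hPQ) hlQA hlQ.aut_mem (h2.congr fun x hx => ?_)
    have hx' := hf₀.mem hx
    show k (σ (f₀ x)) = fn hlQ.aut (f (f₀ x))
    rw [hle _ (hPR.le hx'), fn_aut hlQ (hPQ.mem hx'), k1 _ (hQB (hlQ.mem (hPQ.mem hx')))]
  intro P Q R f f₀ hm hPR hRN hf hPQ hf₀ hr
  have hg := hf.isIso
  have hR₂N : img R f ≤ normalizerIn T Q := by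
    intro y hy
    obtain ⟨x, hx, rfl⟩ := (mem_img hf).1 hy
    exact map_mem_norm hf hRN hPR.le hPQ hx
  rcases hR₂N.lt_or_eq with h2 | h2
  · rcases hRN.lt_or_eq with h1 | h1
    · exact case1 P Q R f f₀ hm hPR h1 hf hPQ h2 hf₀ hr
    · obtain ⟨g, hg', hgi, c, hc, ec⟩ := hr
      rw [← h1] at hg'
      have hg'' := hg'.isIso
      obtain ⟨k, hk, k1, k2⟩ := hg''.symm
      have hki := iso_symm_restrict hk k1 hg'' hPR.le hgi
      have hfk : IsMap E (img R g) (f ∘ k) := hk.isMap.comp hf fun x hx => hk.mem hx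
      have him : img (img R g) (f ∘ k) = img R f := by
        rw [← H87.Frat.img_img hk.isMap (by rw [hk.eq_img]; exact hf), hk.eq_img]
      have hgN : img R g ≤ normalizerIn T P₀ := by
        intro y hy
        obtain ⟨x, hx, rfl⟩ := (mem_img hg').1 hy
        exact map_mem_norm hg' hRN hPR.le hgi hx
      have hc1 := hg''.card_eq
      have hc2 := hg.card_eq
      have hc3 := card_lt_of_lt h2 normalizerIn_le
      have hcQ : E.IsConj P₀ Q := isConj_trans hf₀.isConj hPQ.isConj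
      have hc4 := hfn.2 Q hcQ
      have h5 : RR E A P₀ Q (fun x => (f ∘ k) x) := by
        refine case1 P₀ Q (img R g) (f ∘ k) (fun x => x) (by rw [← hc1]; exact hm) ?_ ?_ hfk
          (hki.comp hPQ) (by rw [him]; exact h2) (isIso_id E hfn.1)
          ⟨fun x => x, isMap_id E normalizerIn_le, isIso_id E hfn.1, 1, Subgroup.one_mem _, fun x hx => (fn_one hx).symm⟩
        · refine lt_of_le_of_ne ?_ fun e => ?_
          · intro y hy
            obtain ⟨x, hx, rfl⟩ := hgi.surj hy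
            exact apply_mem_img (hPR.le hx)
          · have h3 := card_lt_of_lt hPR hf.le
            have h4 := hgi.card_eq
            rw [← e] at hc1
            omega
        · refine lt_of_le_of_ne hgN fun e => ?_
          rw [e] at hc1
          omega
      refine (h5.right hc).congr fun x hx => ?_
      show f (k (fn c x)) = f (f₀ x)
      rw [← ec x hx, k1 _ (hPR.le (hf₀.mem hx))]
  · obtain ⟨k, hk, k1, k2⟩ := hg.symm
    have hki := iso_symm_restrict hk k1 hg hPR.le hPQ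
    rw [h2] at hk
    obtain ⟨ρ, h3, h4, c, hc, ec⟩ := hr
    refine ⟨fun x => ρ (k x), hk.isMap.comp' h3 fun x hx => hRN (hk.mem hx), hki.comp h4, c, hc, fun x hx => ?_⟩
    show ρ (k (f (f₀ x))) = _
    rw [k1 _ (hPR.le (hf₀.mem hx)), ec x hx]

end H87.NM
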