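import Cfsg.Agent.Lib.H87.NM2
set_option autoImplicit false

open Cfsg Cfsg.FusionSystem

namespace H87.NM
open H87.Base H87.Basic H87.Syl H87.Sat H87.Grow H87.Inv H87.Frat H87.Cut H87.PPow H87.Crit H87.PPr H87.CMap H87.NE
open H87.ConstrEq H87.CE

variable {Ω : Type*} [Group Ω] {S T : Subgroup Ω} {F : FusionSystem S} {E D : FusionSystem T}
  {P Q R M N U V X Z W P₀ : Subgroup Ω} {f g h a b κ : Ω → Ω} {p : ℕ}
  {Fm : Subgroup Ω → Prop} {A : ∀ P : Subgroup Ω, Subgroup (MulAut P)}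

theorem rr_id (hP₀ : P₀ ≤ T) : RR E A P₀ P₀ (fun x => x) :=
  ⟨fun x => x, isMap_id E normalizerIn_le, isIso_id E hP₀, 1, Subgroup.one_mem _, fun x hx => (fn_one hx).symm⟩

theorem rr_all [Fact p.Prime] [Finite T] (hT : IsPGroup p T) (hNM : NorMap F T p Fm A) (hE : IsGen F Fm A E)
    (hG : ∀ R, Fm R → Nat.card P₀ < Nat.card R → ∃ U, E.IsConj R U ∧ IsNice E p U)
    (hL : ∀ R, Fm R → Nat.card P₀ < Nat.card R → E.autGroup R ≤ A R)
    (hfn : E.IsFullyNormalized P₀) (hP₀ : Fm P₀) (hP₀T : P₀ ≠ T) :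
    ∀ Q f, IsIso E P₀ Q f → RR E A P₀ Q f := by
  have hEF := hE.sub
  have hedge := rr_edge hT hNM hEF hG hL hfn hP₀ hE.mem
  have hlt : ∀ {P : Subgroup Ω} {f : Ω → Ω}, IsIso E P₀ P f → P < T := by
    intro P f hf
    refine lt_of_le_of_ne hf.le' fun e => ?_
    have h1 := hf.card_eq
    rw [e] at h1
    exact hP₀T (Subgroup.eq_of_le_of_card_ge hf.le h1.ge)
  have hbig : ∀ (P R : Subgroup Ω) (g : Ω → Ω), P < R → IsMap E R g → ∀ f₁, IsIso E P₀ P f₁ →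
      (RR E A P₀ P f₁ ↔ RR E A P₀ (img P g) (fun x => g (f₁ x))) := by
    intro P R g hPR hg f₁ hf₁
    have hRT := hg.le
    have hRfin : Finite R := finite_of_le hRT
    have hlt2 := lt_normalizerIn (hT.to_le hRT) hPR
    have hR' : normalizerIn R P ≤ R := inf_le_left
    have hR'' : normalizerIn R P ≤ normalizerIn T P := fun x hx => ⟨hRT hx.1, hx.2⟩
    have hgR := hg.mono hR'
    have hgP : IsIso E P (img P g) g := (hg.mono hPR.le).isIso
    constructor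
    · intro h
      exact hedge _ P _ (normalizerIn R P) g f₁ rfl hlt2 hR'' hgR hgP hf₁ h
    · intro h
      have hgi := hgR.isIso
      obtain ⟨k, hk, k1, k2⟩ := hgi.symm
      have hki := iso_symm_restrict hk k1 hgi hlt2.le hgP
      have hlt3 : img P g < img (normalizerIn R P) g := by
        refine lt_of_le_of_ne (img_mono hlt2.le) fun e => ?_
        have h1 := hgi.card_eq
        rw [← e, ← hgP.card_eq] at h1
        exact hlt2.ne (Subgroup.eq_of_le_of_card_ge hlt2.le h1.le)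
      refine (hedge _ (img P g) P (img (normalizerIn R P) g) k (fun x => g (f₁ x)) rfl hlt3 ?_ hk.isMap hki
        (hf₁.comp hgP) h).congr fun x hx => k1 _ (hlt2.le (hf₁.mem hx))
      intro y hy
      obtain ⟨x, hx, rfl⟩ := (mem_img hgR).1 hy
      exact map_mem_norm hgR hR'' hlt2.le hgP hx
  obtain ⟨J, hJ⟩ := exists_cut E (T := T) le_rfl (fun P g => ∀ f₁, IsIso E P₀ P f₁ →
      (RR E A P₀ P f₁ ↔ RR E A P₀ (img P g) (fun x => g (f₁ x))))
    (fun P f g _ _ _ e h f₁ hf₁ => by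
      rw [h f₁ hf₁, img_congr e]
      exact ⟨fun h => h.congr fun x hx => e _ (hf₁.mem hx), fun h => h.congr fun x hx => (e _ (hf₁.mem hx)).symm⟩)
    (by
      intro P hP g hg f₁ hf₁
      exact hbig P T _ (hlt hf₁) (isMap_conj E le_rfl hg) f₁ hf₁)
    (by
      intro P Q f g hP hQ hf hg hfQ _ hCf hCg f₁ hf₁
      have hi := hf.isIso
      have hle : img P f ≤ Q := by
        intro y hy
        obtain ⟨x, hx, rfl⟩ := (mem_img hf).1 hy
        exact hfQ x hx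
      have h2 : RR E A P₀ (img P f) (fun x => f (f₁ x)) ↔
          RR E A P₀ (img (img P f) g) (fun x => g (f (f₁ x))) := by
        rcases hle.lt_or_eq with h2 | h2
        · exact hbig _ Q g h2 hg _ (hf₁.comp hi)
        · rw [h2] at hi ⊢
          exact hCg _ (hf₁.comp hi)
      rw [hCf f₁ hf₁, h2, H87.Frat.img_img hf (hg.mono hle)]
      exact Iff.rfl)
    (by
      intro P Q f g hP hQ hf hg e1 e2 hCf f₁ hf₁
      have h1 := hCf (fun x => g (f₁ x)) (hf₁.comp hg)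
      rw [hf.eq_img] at h1
      rw [hg.eq_img, h1]
      exact ⟨fun h => h.congr fun x hx => (e2 _ (hf₁.mem hx)).symm, fun h => h.congr fun x hx => e2 _ (hf₁.mem hx)⟩)
  have hsub : E.IsSubsystemOf J := by
    refine hE.least J fun P hP α hα => ?_
    have hPT := hNM.le P hP
    have hαE := hE.mem P hP hα
    have hi := fn_iso hPT hαE
    refine mem_autGroup_of_isMap (f := fn α) hPT ?_ fun x => (fn_coe α x).symm
    rw [hJ]
    refine ⟨hi.isMap, hPT, fun x hx => hi.isMap.mem hx, fun f₁ hf₁ => ?_⟩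
    rw [hi.eq_img]
    exact ⟨fun h => RR.left hNM hEF hP hf₁ h hα, fun h => RR.left_iff hNM hEF hP hf₁ hα hαE h⟩
  intro Q f hf
  have h1 := ((hJ _ _).1 (isMap_of_sub hsub hf.isMap)).2.2.2 (fun x => x) (isIso_id E hf.le)
  rw [hf.eq_img] at h1
  exact h1.1 (rr_id hf.le)

/-- the automorphism groups of the generated system, at nice subgroups -/
theorem lvl_aut [Fact p.Prime] [Finite T] (hT : IsPGroup p T) (hNM : NorMap F T p Fm A) (hE : IsGen F Fm A E)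
    (hL : ∀ R, Fm R → Nat.card P₀ < Nat.card R → E.autGroup R ≤ A R)
    (hrr : ∀ Q f, IsIso E P₀ Q f → RR E A P₀ Q f) (hP₀ : Fm P₀) (hP₀T : P₀ ≠ T) :
    E.autGroup P₀ ≤ A P₀ := by
  intro β hβ
  have hPT := hNM.le _ hP₀
  have hfin : Finite P₀ := finite_of_le hPT
  obtain ⟨ρ, hρ, hρi, c, hc, ec⟩ := hrr P₀ (fn β) (fn_iso hPT hβ)
  have hlt := lt_normalizerIn hT (lt_of_le_of_ne hPT hP₀T)
  have hcard := card_lt_of_lt hlt normalizerIn_le
  have hself : ∀ x ∈ normalizerIn T P₀, ρ x ∈ normalizerIn T P₀ := fun x hx => map_mem_norm hρ le_rfl hlt.le hρi hx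
  have hρ' : IsIso E _ _ ρ := isIso_of_self hρ hself
  have hN : Fm (normalizerIn T P₀) := hNM.up _ _ hP₀ hlt.le normalizerIn_le
  have h1 : hρi.aut ∈ A P₀ := hNM.res P₀ _ hP₀ hlt.le le_rfl _ (hL _ hN hcard hρ'.aut_mem) _ fun x hx => by
    rw [fn_aut hρ' (hlt.le hx), fn_aut hρi hx]
  have h2 : hρi.aut * β = c := fn_ext fun x hx => by
    rw [fn_mul _ _ hx, fn_aut hρi (fn_mem β hx), ec x hx]
  have h3 : β = hρi.aut⁻¹ * c := by rw [← h2]; group
  rw [h3]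
  exact Subgroup.mul_mem _ (Subgroup.inv_mem _ h1) hc

/-- nice subgroups of `F` are nice in `E`. -/
theorem lvl_nice [Fact p.Prime] [Finite S] (hS : IsPGroup p S) (hF : F.IsSaturated p) (hT : F.StronglyClosed T)
    (hNM : NorMap F T p Fm A) (hE : IsGen F Fm A E)
    (hrr : ∀ Q f, IsIso E P₀ Q f → RR E A P₀ Q f) (hP₀ : Fm P₀) (hP₀T : P₀ ≠ T) (hnice : IsNice F p P₀)
    (hL : E.autGroup P₀ ≤ A P₀) : IsNice E p P₀ := by
  have hTS := hT.1
  have hPT := hNM.le _ hP₀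
  have hPS := hPT.trans hTS
  have hTfin : Finite T := finite_of_le hTS
  have hTp : IsPGroup p T := hS.to_le hTS
  have hfin : Finite P₀ := finite_of_le hPT
  have hAE : E.autGroup P₀ = A P₀ := le_antisymm hL (hE.mem _ hP₀)
  have hlt := lt_normalizerIn hTp (lt_of_le_of_ne hPT hP₀T)
  -- extension of elements of `A P₀`
  have hext : ∀ c ∈ A P₀, ∃ ψ, IsMap E (nphi T P₀ (fn c)) ψ ∧ ∀ x ∈ P₀, ψ x = fn c x := by
    intro c hc
    have hcE := hE.mem _ hP₀ hc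
    have hci := fn_iso hPT hcE
    have hcF := fn_iso hPS (hNM.sub _ hP₀ hc)
    by_cases hN : nphi T P₀ (fn c) ≤ P₀
    · exact ⟨fn c, hci.isMap.mono hN, fun _ _ => rfl⟩
    have hNle : P₀ ≤ nphi T P₀ (fn c) := le_nphi hci.isMap
    have hNT : nphi T P₀ (fn c) ≤ T := nphi_le
    have hNN : nphi T P₀ (fn c) ≤ normalizerIn T P₀ := nphi_le_normalizerIn
    obtain ⟨c', hc', ec'⟩ := (isReceptive_iff.1 hnice.2).2 _ _ hcF
    have hNS : nphi T P₀ (fn c) ≤ nphi S P₀ (fn c) := by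
      intro x hx
      obtain ⟨h1, h2, k, hk, h3⟩ := mem_nphi.1 hx
      exact mem_nphi.2 ⟨hTS h1, h2, k, hTS hk, h3⟩
    obtain ⟨α, ε, hα, hε, eα⟩ := hNM.fg hS hF hT hE _ c' hNT (hc'.mono hNS)
    have hεP : IsIso E P₀ (img P₀ ε) ε := (hε.mono hNle).isIso
    obtain ⟨ρ, hρ, hρi, d, hd, ed⟩ := hrr _ ε hεP
    have hαε : ∀ x ∈ P₀, α (ε x) = fn c x := fun x hx => by rw [← eα x (hNle hx), ec' x hx]
    have hQ₁T : img P₀ ε ≤ T := hεP.le'
    have hQ₁fin : Finite ↥(img P₀ ε) := finite_of_le hQ₁T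
    have hαQ : IsIso F (img P₀ ε) P₀ α := by
      refine (hα.isMap.mono hQ₁T).isIso_of ?_ ?_
      · intro y hy
        obtain ⟨x, hx, rfl⟩ := hεP.surj hy
        rw [hαε x hx]; exact fn_mem _ hx
      · intro y hy
        exact ⟨ε (fn c⁻¹ y), hεP.mem (fn_mem _ hy), by rw [hαε _ (fn_mem _ hy), fn_apply_inv c hy]⟩
    -- `ρ` is onto `N_T(P₀)`
    have hρm : ∀ x ∈ normalizerIn T (img P₀ ε), ρ x ∈ normalizerIn T P₀ := fun x hx =>
      map_mem_norm hρ le_rfl (le_normalizerIn hQ₁T) hρi hx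
    obtain ⟨β, hβ, hβ1, hβ2⟩ := hα.symm
    have hβm : ∀ x ∈ normalizerIn T P₀, β x ∈ normalizerIn T (img P₀ ε) := by
      intro x hx
      refine mem_normalizerIn_iff.2 ⟨hβ.mem hx.1, fun y hy => ?_⟩
      have h1 : x * α y * x⁻¹ ∈ P₀ := conj_mem_of_mem_normalizer hx.2 (hαQ.mem hy)
      obtain ⟨z, hz, ez⟩ := hαQ.surj h1
      have h2 : β (x * α y * x⁻¹) = β x * y * (β x)⁻¹ := by
        rw [hβ.isMap.map_conj hx.1 (hPT (hαQ.mem hy)), hβ1 y (hQ₁T hy)]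
      rw [← h2, ← ez, hβ1 z (hQ₁T hz)]
      exact hz
    have hc1 : Nat.card (normalizerIn T P₀) ≤ Nat.card (normalizerIn T (img P₀ ε)) :=
      H87.Bridge.card_le_of_map (hβ.isMap.mono normalizerIn_le) (normalizerIn_le.trans hTS) hβm
    have hρimg : img (normalizerIn T (img P₀ ε)) ρ = normalizerIn T P₀ := by
      refine Subgroup.eq_of_le_of_card_ge ?_ ?_
      · intro y hy
        obtain ⟨x, hx, rfl⟩ := (mem_img hρ).1 hy
        exact hρm x hx
      · rw [← hρ.isIso.card_eq]; exact hc1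
    have hρI : IsIso E (normalizerIn T (img P₀ ε)) (normalizerIn T P₀) ρ := isIso_iff.2 ⟨hρ, hρimg⟩
    obtain ⟨k, hk, k1, k2⟩ := hρI.symm
    have hkF := isIso_of_sub hE.sub hk
    have hαm : ∀ x ∈ normalizerIn T (img P₀ ε), α x ∈ normalizerIn T P₀ := by
      intro x hx
      refine mem_normalizerIn_iff.2 ⟨hα.mem hx.1, fun y hy => ?_⟩
      obtain ⟨z, hz, rfl⟩ := hαQ.surj hy
      rw [← hα.isMap.map_conj hx.1 (hQ₁T hz)]
      exact hαQ.mem (conj_mem_of_mem_normalizer hx.2 hz)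
    have hgF : IsMap F (normalizerIn T P₀) (fun x => α (k x)) :=
      hkF.isMap.comp' hα.isMap fun x hx => normalizerIn_le (hk.mem hx)
    have hgI : IsIso F _ _ (fun x => α (k x)) := isIso_of_self hgF fun x hx => hαm _ (hk.mem hx)
    have hval : ∀ x ∈ P₀, α (k x) = fn (c * d⁻¹) x := by
      intro x hx
      rw [fn_mul _ _ hx]
      have h1 : x = ρ (ε (fn d⁻¹ x)) := by rw [ed _ (fn_mem _ hx), fn_apply_inv d hx]
      have h2 : ε (fn d⁻¹ x) ∈ normalizerIn T (img P₀ ε) := le_normalizerIn hQ₁T (hεP.mem (fn_mem _ hx))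
      have h3 : k x = ε (fn d⁻¹ x) := by rw [h1, k1 _ h2, ← h1]
      rw [h3, hαε _ (fn_mem _ hx)]
    obtain ⟨b₀, hb, eb⟩ := hNM.ext P₀ hP₀ hP₀T hnice (c * d⁻¹) (Subgroup.mul_mem _ hc (Subgroup.inv_mem _ hd))
      _ hgI hval
    have hNFm : Fm (normalizerIn T P₀) := hNM.up _ _ hP₀ hlt.le normalizerIn_le
    have hbi := fn_iso normalizerIn_le (hE.mem _ hNFm hb)
    have hεm : ∀ x ∈ nphi T P₀ (fn c), ε x ∈ normalizerIn T (img P₀ ε) := fun x hx =>
      map_mem_norm hε hNN hNle hεP hx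
    refine ⟨fun x => fn b₀ (ρ (ε x)), (hε.comp' hρ hεm).comp' hbi.isMap fun x hx => hρm _ (hεm x hx), fun x hx => ?_⟩
    show fn b₀ (ρ (ε x)) = fn c x
    rw [ed x hx, eb _ (fn_mem d hx), fn_mul _ _ (fn_mem d hx), fn_inv_apply d hx]
  refine ⟨isFullyAutomized_iff.2 ⟨hPT, by rw [hAE]; exact hNM.syl _ hP₀ hnice⟩, isReceptive_iff.2 ⟨hPT, ?_⟩⟩
  intro Q f hf
  obtain ⟨l, hl, l1, l2⟩ := hf.symm
  obtain ⟨ρ, hρ, hρi, d, hd, ed⟩ := hrr _ l hl
  have hQfin : Finite Q := finite_of_le hf.le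
  have hval : ∀ y ∈ Q, fn d⁻¹ (ρ y) = f y := by
    intro y hy
    have h1 := ed (f y) (hf.mem hy)
    rw [l1 y hy] at h1
    rw [h1, fn_inv_apply d (hf.mem hy)]
  obtain ⟨ψ, hψ, eψ⟩ := hext d⁻¹ (Subgroup.inv_mem _ hd)
  have hNQ : nphi T Q f ≤ normalizerIn T Q := nphi_le_normalizerIn
  have hQN : Q ≤ normalizerIn T Q := le_normalizerIn hf.le
  have hρN : ∀ z ∈ nphi T Q f, ρ z ∈ nphi T P₀ (fn d⁻¹) := by
    intro z hz
    obtain ⟨h1, h2, k, hk, h3⟩ := mem_nphi.1 hz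
    have h4 := map_mem_norm hρ le_rfl hQN hρi (hNQ hz)
    refine mem_nphi.2 ⟨h4.1, h4.2, k, hk, fun x hx => ?_⟩
    obtain ⟨y, hy, rfl⟩ := hρi.surj hx
    rw [← hρ.map_conj (hNQ hz) (hQN hy), hval _ (conj_mem_of_mem_normalizer h2 hy), h3 y hy, hval y hy]
  refine ⟨fun z => ψ (ρ z), (hρ.mono hNQ).comp' hψ hρN, fun x hx => ?_⟩
  show ψ (ρ x) = f x
  rw [eψ _ (hρi.mem hx), hval x hx]

end H87.NM
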