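import Cfsg.Agent.Lib.H87.NM3
set_option autoImplicit false

open Cfsg Cfsg.FusionSystem

namespace H87.NM
open H87.Base H87.Basic H87.Syl H87.Sat H87.Grow H87.Inv H87.Frat H87.Cut H87.PPow H87.Crit H87.PPr H87.CMap H87.NE
open H87.ConstrEq H87.CE

variable {Ω : Type*} [Group Ω] {S T : Subgroup Ω} {F : FusionSystem S} {E D : FusionSystem T}
  {P Q R M N U V X Z W P₀ : Subgroup Ω} {f g h a b κ : Ω → Ω} {p : ℕ}
  {Fm : Subgroup Ω → Prop} {A : ∀ P : Subgroup Ω, Subgroup (MulAut P)}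

theorem img_img' (hf : IsMap F P f) (hg : IsMap F (img P f) g) (e : ∀ x ∈ P, g (f x) = h x) :
    img (img P f) g = img P h := by
  rw [img_img hf hg]
  exact img_congr e

theorem congrAut_autInduced (ha : IsIso F T T a) (hP : P ≤ T) {α : MulAut P} (hα : α ∈ autInducedBy T P) :
    IsIso.congrAut (ha.restrict hP) α ∈ autInducedBy T (img P a) := by
  obtain ⟨t, ht, e⟩ := fn_autInduced hα
  refine mem_autInduced_of_fn (ha.mem ht) fun y hy => ?_
  obtain ⟨x, hx, rfl⟩ := (ha.restrict hP).surj hy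
  rw [fn_congrAut _ α hx, e x hx, ha.isMap.map_conj ht (hP hx)]

theorem congrAut_autGroup (hA : AInv F E) (ha : IsIso F T T a) (hP : P ≤ T) {α : MulAut P} (hα : α ∈ E.autGroup P) :
    IsIso.congrAut (ha.restrict hP) α ∈ E.autGroup (img P a) := by
  obtain ⟨g, hg, e⟩ := hA P (fn α) a (fn_iso hP hα).isMap ha
  refine mem_autGroup_of_isMap (f := g) hg.le hg fun y => ?_
  obtain ⟨x, hx, e'⟩ := (ha.restrict hP).surj y.2
  rw [← fn_coe, ← e', fn_congrAut _ α hx, e x hx]

theorem nice_transport [Fact p.Prime] [Finite T] (hA : AInv F E) (ha : IsIso F T T a)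
    (hb : IsIso F T T b) (h1 : ∀ x ∈ T, b (a x) = x) (h2 : ∀ y ∈ T, a (b y) = y) (hP : P ≤ T)
    (h : IsNice E p P) : IsNice E p (img P a) := by
  have haP := ha.restrict hP
  have hPfin : Finite P := finite_of_le hP
  have hAfin : Finite (MulAut P) := finite_mulAut
  have hQT : img P a ≤ T := fun y hy => by
    obtain ⟨x, hx, rfl⟩ := haP.surj hy
    exact ha.mem (hP hx)
  have himb : img (img P a) b = P := by
    rw [img_img' (h := fun x => x) haP.isMap (hb.isMap.mono hQT) (fun x hx => h1 x (hP hx)), img_id]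
  -- inverse of congrAut
  have hinv : ∀ β : MulAut ↥(img P a), ∀ X : ∀ P : Subgroup Ω, Subgroup (MulAut P),
      (∀ (Q : Subgroup Ω) (hQ : Q ≤ T) (β : MulAut Q), β ∈ X Q → IsIso.congrAut (hb.restrict hQ) β ∈ X (img Q b)) →
      β ∈ X (img P a) → ∃ α ∈ X P, IsIso.congrAut haP α = β := by
    intro β X hX hβ
    have h3 := hX _ hQT β hβ
    have hbP : IsIso F (img P a) P b := by
      have := hb.restrict hQT
      rwa [himb] at this
    refine ⟨IsIso.congrAut hbP β, ?_, ?_⟩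
    · have key : ∀ (Q' : Subgroup Ω) (hQ' : IsIso F (img P a) Q' b), Q' = img (img P a) b →
          IsIso.congrAut hQ' β ∈ X Q' := by
        rintro _ hQ' rfl
        exact h3
      exact key P hbP himb.symm
    · refine fn_ext fun y hy => ?_
      obtain ⟨x, hx, rfl⟩ := haP.surj hy
      have h4 := fn_congrAut hbP β (haP.mem hx)
      rw [h1 x (hP hx)] at h4
      rw [fn_congrAut haP _ hx, h4, h2 _ (hQT (fn_mem β (haP.mem hx)))]
  obtain ⟨hfa, hrec⟩ := h
  rw [isFullyAutomized_iff] at hfa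
  rw [isReceptive_iff] at hrec
  refine ⟨isFullyAutomized_iff.2 ⟨hQT, ?_⟩, isReceptive_iff.2 ⟨hQT, ?_⟩⟩
  · have hm := hfa.2.map (IsIso.congrAut haP).toMonoidHom
    have e1 : (autInducedBy T P).map (IsIso.congrAut haP).toMonoidHom = autInducedBy T (img P a) := by
      apply le_antisymm
      · rintro _ ⟨α, hα, rfl⟩
        exact congrAut_autInduced ha hP hα
      · intro β hβ
        obtain ⟨α, hα, e⟩ := hinv β (fun P => autInducedBy T P) (fun Q hQ β hβ => congrAut_autInduced hb hQ hβ) hβ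
        exact ⟨α, hα, e⟩
    have e2 : (E.autGroup P).map (IsIso.congrAut haP).toMonoidHom = E.autGroup (img P a) := by
      apply le_antisymm
      · rintro _ ⟨α, hα, rfl⟩
        exact congrAut_autGroup hA ha hP hα
      · intro β hβ
        obtain ⟨α, hα, e⟩ := hinv β (fun P => E.autGroup P) (fun Q hQ β hβ => congrAut_autGroup hA hb hQ hβ) hβ
        exact ⟨α, hα, e⟩
    rwa [e1, e2] at hm
  · intro Q f hf
    have hQ := hf.le
    obtain ⟨f', hf', ef⟩ := hA Q f b hf.isMap hb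
    have hbQ := hb.restrict hQ
    have hf'i : IsIso E (img Q b) P f' := by
      refine hf'.isIso_of (fun y hy => ?_) fun x hx => ?_
      · obtain ⟨z, hz, rfl⟩ := hbQ.surj hy
        rw [ef z hz]
        obtain ⟨x, hx, e⟩ := haP.surj (hf.mem hz)
        rw [← e, h1 x (hP hx)]; exact hx
      · obtain ⟨z, hz, e⟩ := hf.surj (haP.mem hx)
        exact ⟨b z, hbQ.mem hz, by rw [ef z hz, e, h1 x (hP hx)]⟩
    obtain ⟨g', hg', eg'⟩ := hrec.2 _ _ hf'i
    obtain ⟨g, hg, eg⟩ := hA _ g' a hg' ha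
    have hsub : nphi T Q f ≤ img (nphi T (img Q b) f') a := by
      intro z hz
      obtain ⟨h3, h4, k, hk, h5⟩ := mem_nphi.1 hz
      have hbz : b z ∈ nphi T (img Q b) f' := by
        have hQfin : Finite ↥(img Q b) := finite_of_le hf'.le
        have hN : ∀ y ∈ img Q b, b z * y * (b z)⁻¹ ∈ img Q b := by
          intro y hy
          obtain ⟨x, hx, rfl⟩ := hbQ.surj hy
          rw [← hb.isMap.map_conj h3 (hQ hx)]
          exact hbQ.mem (conj_mem_of_mem_normalizer h4 hx)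
        refine mem_nphi.2 ⟨hb.mem h3, (mem_normalizerIn_iff.2 ⟨hb.mem h3, hN⟩ : b z ∈ normalizerIn T _).2, b k,
          hb.mem hk, fun y hy => ?_⟩
        obtain ⟨x, hx, rfl⟩ := hbQ.surj hy
        rw [← hb.isMap.map_conj h3 (hQ hx), ef _ (conj_mem_of_mem_normalizer h4 hx), h5 x hx, ef x hx,
          hb.isMap.map_conj hk (hQT (hf.mem hx))]
      rw [← h2 z h3]
      exact apply_mem_img hbz
    refine ⟨g, hg.mono hsub, fun x hx => ?_⟩
    have h3 : b x ∈ img Q b := hbQ.mem hx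
    have h4 : b x ∈ nphi T (img Q b) f' := (le_nphi hf') h3
    have h5 := eg (b x) h4
    rw [h2 x (hQ hx), eg' _ h3, ef x hx, h2 _ (hQT (hf.mem hx))] at h5
    exact h5

/-- The main induction. -/
theorem levels [Fact p.Prime] [Finite S] (hS : IsPGroup p S) (hF : F.IsSaturated p) (hT : F.StronglyClosed T)
    (hNM : NorMap F T p Fm A) (hE : IsGen F Fm A E) :
    ∀ P, Fm P → E.autGroup P ≤ A P ∧ ∃ U, E.IsConj P U ∧ IsNice E p U := by
  have hTS := hT.1
  have hTfin : Finite T := finite_of_le hTS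
  have hTp : IsPGroup p T := hS.to_le hTS
  have hA := hNM.ainv hTS hE
  intro P hP
  obtain ⟨n, hn⟩ : ∃ n, Nat.card T - Nat.card P = n := ⟨_, rfl⟩
  induction n using Nat.strong_induction_on generalizing P with
  | _ n ih =>
  have hPT := hNM.le P hP
  by_cases hPT' : P = T
  · subst hPT'
    -- the top
    have hAT := hNM.autT_le hS hF hT hP
    obtain ⟨J, hJ⟩ := exists_cut E (T := P) le_rfl (fun R g => R = P → ∃ α ∈ A P, ∀ x ∈ P, g x = fn α x)
      (fun R f g _ _ _ e h hR => by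
        obtain ⟨α, hα, eα⟩ := h hR
        exact ⟨α, hα, fun x hx => by rw [← e x (hR ▸ hx), eα x hx]⟩)
      (fun R hR t ht _ => ⟨cj P (Subgroup.le_normalizer ht), hAT (cj_mem _ ht), fun x hx => (fn_cj _ hx).symm⟩)
      (by
        intro R Q f g hR hQ hf hg hfQ _ hCf hCg hRP
        subst hRP
        obtain ⟨α, hα, eα⟩ := hCf rfl
        have hQR : Q = R := by
          refine Subgroup.eq_of_le_of_card_ge hQ ?_
          exact H87.Bridge.card_le_of_map (isMap_of_sub hE.sub hf) (hQ.trans hTS) hfQ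
        obtain ⟨β, hβ, eβ⟩ := hCg hQR
        refine ⟨β * α, Subgroup.mul_mem _ hβ hα, fun x hx => ?_⟩
        show g (f x) = _
        rw [fn_mul _ _ hx, eα x hx, eβ _ (fn_mem α hx)])
      (by
        intro R Q f g hR hQ hf hg e1 e2 hCf hQP
        subst hQP
        have hRQ : R = Q := Subgroup.eq_of_le_of_card_ge hR hf.card_eq.ge
        subst hRQ
        obtain ⟨α, hα, eα⟩ := hCf rfl
        refine ⟨α⁻¹, Subgroup.inv_mem _ hα, fun y hy => ?_⟩
        obtain ⟨x, hx, rfl⟩ := hf.surj hy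
        rw [e1 x hx, eα x hx, fn_inv_apply α hx])
    have hsub : E.IsSubsystemOf J := by
      refine hE.least J fun R hR α hα => ?_
      have hRP := hNM.le R hR
      have hi := fn_iso hRP (hE.mem R hR hα)
      refine mem_autGroup_of_isMap (f := fn α) hRP ?_ fun x => (fn_coe α x).symm
      rw [hJ]
      refine ⟨hi.isMap, hRP, fun x hx => hi.isMap.mem hx, ?_⟩
      rintro rfl
      exact ⟨α, hα, fun x _ => rfl⟩
    have hL : E.autGroup P ≤ A P := by
      intro β hβ
      obtain ⟨α, hα, eα⟩ := ((hJ _ _).1 (isMap_of_sub hsub (fn_iso le_rfl hβ).isMap)).2.2.2 rfl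
      have : β = α := fn_ext eα
      rw [this]; exact hα
    refine ⟨hL, P, isConj_refl E le_rfl, isFullyAutomized_iff.2 ⟨le_rfl, ?_⟩, isReceptive_iff.2 ⟨le_rfl, ?_⟩⟩
    · have h1 : E.autGroup P = A P := le_antisymm hL (hE.mem _ hP)
      rw [h1]
      exact hNM.syl P hP (H87.Bridge.nice_of_fn hS hF (fn_of_stronglyClosed hT))
    · intro Q f hf
      have hQ : Q = P := Subgroup.eq_of_le_of_card_ge hf.le hf.card_eq.ge
      subst hQ
      exact ⟨f, hf.isMap.mono nphi_le, fun _ _ => rfl⟩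
  have hPS := hPT.trans hTS
  obtain ⟨P₀, hPP₀, hP₀⟩ := exists_nice hF hPS
  obtain ⟨χ, hχN, hχ⟩ := hP₀.exists_map_normalizer hS hPP₀
  have hFP₀ := hNM.conj _ _ _ hP hχ
  have hP₀T : P₀ ≤ T := hNM.le _ hFP₀
  have hcard := conj_card hPP₀
  have hP₀ne : P₀ ≠ T := by
    intro e
    rw [e] at hcard
    exact hPT' (Subgroup.eq_of_le_of_card_ge hPT hcard.ge)
  have hbound : ∀ R, R ≤ T → Nat.card R ≤ Nat.card T := fun R hR => card_le_of_le hR le_rfl
  have hG : ∀ R, Fm R → Nat.card P₀ < Nat.card R → ∃ U, E.IsConj R U ∧ IsNice E p U := by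
    intro R hR hlt
    have := hbound R (hNM.le R hR)
    exact (ih (Nat.card T - Nat.card R) (by omega) R hR rfl).2
  have hL : ∀ R, Fm R → Nat.card P₀ < Nat.card R → E.autGroup R ≤ A R := by
    intro R hR hlt
    have := hbound R (hNM.le R hR)
    exact (ih (Nat.card T - Nat.card R) (by omega) R hR rfl).1
  have hfn : E.IsFullyNormalized P₀ :=
    H87.Bridge.fn_sub hS hF hE.sub hT hP₀T (H87.Bridge.fn_of_nice hS hP₀)
  have hrr := rr_all hTp hNM hE hG hL hfn hFP₀ hP₀ne
  have hL₀ := lvl_aut hTp hNM hE hL hrr hFP₀ hP₀ne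
  have hnice₀ := lvl_nice hS hF hT hNM hE hrr hFP₀ hP₀ne hP₀ hL₀
  -- transport to `P`
  obtain ⟨α, φ, hα, hφ, e⟩ := hNM.fg hS hF hT hE P χ hPT hχ.isMap
  obtain ⟨β, hβ, hβ1, hβ2⟩ := hα.symm
  have hφi := hφ.isIso
  have hQ₁T := hφi.le'
  have hαQ : img (img P φ) α = P₀ := by
    rw [img_img' (h := χ) (isMap_of_sub hE.sub hφ) (hα.isMap.mono hQ₁T) (fun x hx => (e x hx).symm), hχ.eq_img]
  have hβP₀ : img P₀ β = img P φ := by
    rw [← hαQ, img_img' (h := fun x => x) (hα.isMap.mono hQ₁T) (by rw [hαQ]; exact hβ.isMap.mono hP₀T)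
      (fun x hx => hβ1 x (hQ₁T hx)), img_id]
  constructor
  · intro γ hγ
    have h1 : IsIso.congrAut hφi γ ∈ E.autGroup (img P φ) := by
      have hγi := fn_iso hPT hγ
      obtain ⟨l, hl, l1, l2⟩ := hφi.symm
      refine mem_autGroup_of_isMap (f := fun y => φ (fn γ (l y))) hQ₁T ?_ fun y => ?_
      · exact (hl.isMap.comp' hγi.isMap fun x hx => hl.mem hx).comp' hφ fun x hx => fn_mem _ (hl.mem hx)
      · obtain ⟨x, hx, e'⟩ := hφi.surj y.2
        rw [← fn_coe, ← e', fn_congrAut hφi γ hx, l1 x hx]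
    have h2 := congrAut_autGroup hA hα hQ₁T h1
    have h3 : IsIso.congrAut hχ γ ∈ A P₀ := by
      apply hL₀
      have key : ∀ (Q' : Subgroup Ω) (hQ' : IsIso F (img P φ) Q' α), Q' = img (img P φ) α →
          IsIso.congrAut hQ' (IsIso.congrAut hφi γ) ∈ E.autGroup Q' := by
        rintro _ hQ' rfl
        exact h2
      have hαP₀ : IsIso F (img P φ) P₀ α := isIso_iff.2 ⟨hα.isMap.mono hQ₁T, hαQ⟩
      have h4 := key P₀ hαP₀ hαQ.symm
      have h5 : IsIso.congrAut hαP₀ (IsIso.congrAut hφi γ) = IsIso.congrAut hχ γ := by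
        refine fn_ext fun y hy => ?_
        obtain ⟨x, hx, rfl⟩ := hχ.surj hy
        rw [fn_congrAut hχ γ hx, e x hx, fn_congrAut hαP₀ _ (hφi.mem hx), fn_congrAut hφi γ hx,
          e _ (fn_mem γ hx)]
      rwa [h5] at h4
    obtain ⟨l, hl, l1, l2⟩ := hχ.symm
    have h4 := hNM.inv _ _ _ hl hFP₀ _ h3
    have h5 : IsIso.congrAut hl (IsIso.congrAut hχ γ) = γ := by
      refine fn_ext fun x hx => ?_
      have h6 := fn_congrAut hl (IsIso.congrAut hχ γ) (hχ.mem hx)
      rw [l1 x hx, fn_congrAut hχ γ hx, l1 _ (fn_mem γ hx)] at h6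
      exact h6
    rwa [h5] at h4
  · refine ⟨img P φ, hφi.isConj, ?_⟩
    rw [← hβP₀]
    exact nice_transport hA hβ hα hβ2 hβ1 hP₀T hnice₀

end H87.NM
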