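import Cfsg.Agent.Lib.H87.NM4
set_option autoImplicit false

open Cfsg Cfsg.FusionSystem

namespace H87.NM
open H87.Base H87.Basic H87.Syl H87.Sat H87.Grow H87.Inv H87.Frat H87.Cut H87.PPow H87.Crit H87.PPr H87.CMap H87.NE
open H87.ConstrEq H87.CE

variable {Ω : Type*} [Group Ω] {S T : Subgroup Ω} {F : FusionSystem S} {E D : FusionSystem T}
  {P Q R M N U V X Z W P₀ : Subgroup Ω} {f g h a b κ : Ω → Ω} {p : ℕ}
  {Fm : Subgroup Ω → Prop} {A : ∀ P : Subgroup Ω, Subgroup (MulAut P)}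

theorem norMap_saturated [Fact p.Prime] [Finite S] (hS : IsPGroup p S) (hF : F.IsSaturated p) (hT : F.StronglyClosed T)
    (hNM : NorMap F T p Fm A) (hE : IsGen F Fm A E)
    (hstar : ∀ P : Subgroup Ω, E.IsCentric P → ¬ Fm P → ∃ Q, E.IsConj P Q ∧
      ¬ (autInducedBy T Q ⊓ (pCore p ↥(E.autGroup Q)).map (E.autGroup Q).subtype ≤ Inn Q)) :
    E.IsSaturated p := by
  have hTS := hT.1
  have hTfin : Finite T := finite_of_le hTS
  refine saturated_of_family (hS.to_le hTS) {P | Fm P} ?_ ?_ ?_ hstar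
  · intro P hP Q hc
    obtain ⟨f, hf⟩ := isConj_iff.1 hc
    exact hNM.conj P Q f hP (isIso_of_sub hE.sub hf)
  · intro P hP
    obtain ⟨U, hU, h1, h2⟩ := (levels hS hF hT hNM hE P hP).2
    exact ⟨U, hU, h1, h2⟩
  · intro D hD
    refine hE.least D fun P hP α hα => ?_
    have hPT := hNM.le P hP
    have h1 := fn_iso hPT (hE.mem P hP hα)
    obtain ⟨φ, hφ, e⟩ := h1.isMap
    exact mem_autGroup_of_isMap (f := fn α) hPT ⟨φ, hD P hP hφ, e⟩ fun x => (fn_coe α x).symm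

theorem norMap_weaklyNormal [Fact p.Prime] [Finite S] (hS : IsPGroup p S) (hF : F.IsSaturated p)
    (hT : F.StronglyClosed T) (hNM : NorMap F T p Fm A) (hE : IsGen F Fm A E)
    (hstar : ∀ P : Subgroup Ω, E.IsCentric P → ¬ Fm P → ∃ Q, E.IsConj P Q ∧
      ¬ (autInducedBy T Q ⊓ (pCore p ↥(E.autGroup Q)).map (E.autGroup Q).subtype ≤ Inn Q)) :
    E.IsWeaklyNormalIn F p :=
  ⟨norMap_saturated hS hF hT hNM hE hstar, hF, isInvariantIn_iff.2 ⟨hE.sub, hT, hNM.ainv hT.1 hE,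
    hNM.fg hS hF hT hE⟩⟩

end H87.NM
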