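import Cfsg.Agent.Lib.H88.Focal
import Cfsg.Agent.Lib.H87.Cut
import Cfsg.Agent.Lib.H87.Trans
import Cfsg.Agent.Lib.H87.Frat
import Cfsg.Agent.Lib.H87.Bridge
import Cfsg.Agent.Lib.H87.Stancu
set_option autoImplicit false

open Cfsg Cfsg.FusionSystem

namespace H87.PPow
open H87.Base H87.Basic H87.Syl H87.Sat H87.Grow H87.Inv H87.Frat H87.Trans H87.Cut H87.Bridge

variable {Ω : Type*} [Group Ω] {S T : Subgroup Ω} {F : FusionSystem S} {E E' : FusionSystem T}
  {P Q R : Subgroup Ω} {f g h a b : Ω → Ω} {p : ℕ}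

theorem autGroup_mono (h : E.IsSubsystemOf F) (P : Subgroup Ω) : E.autGroup P ≤ F.autGroup P :=
  Subgroup.closure_mono fun _ hα => h P hα

theorem isMap_of_sub (h : E.IsSubsystemOf F) (hf : IsMap E P f) : IsMap F P f := isSubsystemOf_iff.1 h _ _ hf

theorem isIso_of_sub (h : E.IsSubsystemOf F) (hf : IsIso E P Q f) : IsIso F P Q f := by
  obtain ⟨φ, hφ, e, hr⟩ := hf
  exact ⟨φ, h _ hφ, e, hr⟩

/-- `p`-power index in terms of automorphisms of order prime to `p`. -/
theorem ppow_iff : E.HasPPowerIndexIn F p ↔ E.IsSubsystemOf F ∧ F.hyperfocalSubgroup p ≤ T ∧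
    ∀ P : Subgroup Ω, P ≤ T → ∀ α ∈ F.autGroup P, Nat.Coprime (orderOf α) p → α ∈ E.autGroup P := by
  unfold HasPPowerIndexIn
  refine and_congr_right fun h1 => and_congr_right fun h2 => forall_congr' fun P => forall_congr' fun hP => ?_
  constructor
  · intro h α hα hc
    refine h ⟨⟨α, hα⟩, Subgroup.subset_closure ?_, rfl⟩
    show Nat.Coprime (orderOf (⟨α, hα⟩ : F.autGroup P)) p
    rw [Subgroup.orderOf_mk]
    exact hc
  · intro h
    rw [Subgroup.map_le_iff_le_comap]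
    unfold pResidual
    rw [Subgroup.closure_le]
    rintro ⟨α, hα⟩ hc
    have hc' : Nat.Coprime (orderOf (⟨α, hα⟩ : F.autGroup P)) p := hc
    rw [Subgroup.orderOf_mk] at hc'
    exact h α hα hc'

/-- A saturated subsystem of `F` over `T` is contained in every subsystem of `p`-power index over `T`. -/
theorem le_of_ppow [Fact p.Prime] [Finite T] (hT : IsPGroup p T) (hEs : E.IsSaturated p) (hE : E.IsSubsystemOf F)
    (hE' : E'.HasPPowerIndexIn F p) : E ≤ E' :=
  H88.Focal.le_of_coprime_aut hT hEs E' fun P hP α hα hc => (ppow_iff.1 hE').2.2 P hP α (autGroup_mono hE P hα) hc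

theorem eq_of_ppow [Fact p.Prime] [Finite T] (hT : IsPGroup p T) (hEs : E.IsSaturated p)
    (hE : E.HasPPowerIndexIn F p) (hEs' : E'.IsSaturated p) (hE' : E'.HasPPowerIndexIn F p) : E = E' :=
  fusionSystem_ext fun P => le_antisymm (le_of_ppow hT hEs hE.1 hE' P) (le_of_ppow hT hEs' hE'.1 hE P)

/-! ### Normality over a normal subgroup -/

theorem gIso_of_isIso (ha : IsIso F P Q a) (hb : IsIso F Q P b) (h1 : ∀ x ∈ P, b (a x) = x)
    (h2 : ∀ y ∈ Q, a (b y) = y) : GIso P Q a b :=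
  ⟨fun _ hx => ha.mem hx, fun _ hy => hb.mem hy, h1, h2, fun _ hx _ hy => ha.isMap.map_mul hx hy⟩

/-- transport of a subsystem along a map of the system is a subsystem. -/
theorem trans_sub {T' : Subgroup Ω} {D : FusionSystem T'} (hE : E.IsSubsystemOf F) (ha : IsIso F T T' a)
    (hb : IsIso F T' T b) (hD : FIso E D a b) : D.IsSubsystemOf F := by
  rw [isSubsystemOf_iff]
  intro P' f' hf'
  have h1 := isMap_of_sub hE (hD.map' _ _ hf')
  have h2 : IsMap F P' b := hb.isMap.mono hf'.le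
  have h3 : IsMap F P' (a ∘ ((fun x => b (f' (a x))) ∘ b)) :=
    (h2.comp h1 fun x hx => (hD.symm.mem_im hf'.le).2 ⟨x, hx, rfl⟩).comp ha.isMap fun x hx => by
      show b (f' (a (b x))) ∈ T
      rw [hD.right x (hf'.le hx)]
      exact hD.mem' _ (hf'.mem hx)
  refine h3.congr fun x hx => ?_
  show a (b (f' (a (b x)))) = f' x
  rw [hD.right x (hf'.le hx), hD.right _ (hf'.mem hx)]

theorem ainv_of_ppow [Fact p.Prime] [Finite S] (hS : IsPGroup p S) (hTS : T ≤ S) (hEs : E.IsSaturated p)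
    (hE : E.HasPPowerIndexIn F p) : AInv F E := by
  intro P f a hf ha
  obtain ⟨b, hb, h1, h2⟩ := ha.symm
  have : Finite T := finite_of_le hTS
  have hTp : IsPGroup p T := hS.to_le hTS
  obtain ⟨D, hD⟩ := exists_trans (gIso_of_isIso ha hb h1 h2) E
  have hDs := hD.saturated hTp hEs
  have hle := le_of_ppow hTp hDs (trans_sub hE.1 ha hb hD) hE
  have h3 := hD.map P f hf
  refine ⟨_, isMap_of_sub hle h3, fun x hx => ?_⟩
  show a (f (b (a x))) = _
  rw [h1 x (hf.le hx)]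

theorem orderOf_restrict_dvd (hQP : Q ≤ P) {α : MulAut P} {β : MulAut Q}
    (h : ∀ x (hx : x ∈ Q), ((β ⟨x, hx⟩ : Q) : Ω) = (α ⟨x, hQP hx⟩ : P)) : orderOf β ∣ orderOf α := by
  have hpow : ∀ k : ℕ, ∀ x (hx : x ∈ Q), (((β ^ k) ⟨x, hx⟩ : Q) : Ω) = ((α ^ k) ⟨x, hQP hx⟩ : P) := by
    intro k
    induction k with
    | zero => intro x hx; rfl
    | succ k ih =>
      intro x hx
      rw [pow_succ', pow_succ', MulAut.mul_apply, MulAut.mul_apply]
      have h1 := h _ ((β ^ k) ⟨x, hx⟩).2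
      refine h1.trans ?_
      congr 2
      exact Subtype.ext (ih x hx)
  apply orderOf_dvd_of_pow_eq_one
  ext ⟨x, hx⟩
  rw [hpow, pow_orderOf_eq_one]
  rfl

theorem frattini_of_ppow [Fact p.Prime] [Finite S] (hS : IsPGroup p S) (hF : F.IsSaturated p)
    (hT : F.StronglyClosed T) (hEs : E.IsSaturated p) (hE : E.HasPPowerIndexIn F p) (hP : P ≤ T)
    (hf : IsMap F P f) : FG F E P f := by
  have hTS := hT.1
  have hA : AInv F E := ainv_of_ppow hS hTS hEs hE
  have hres : ∀ P Q f, IsIso F P Q f → IsIso F (P ⊓ T) (Q ⊓ T) f := by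
    intro P Q f hf
    refine (hf.isMap.mono inf_le_left).isIso_of ?_ ?_
    · intro x hx
      exact ⟨hf.mem hx.1, mem_of_stronglyClosed hT hf.isMap hx.1 hx.2⟩
    · intro y hy
      obtain ⟨g, hg, g1, g2⟩ := hf.symm
      exact ⟨g y, ⟨hg.mem hy.1, mem_of_stronglyClosed hT hg.isMap hy.1 hy.2⟩, g2 y hy.1⟩
  obtain ⟨G, hG⟩ := exists_cut F le_rfl (fun P f => FG F E (P ⊓ T) f)
    (fun P f g _ _ _ e h => h.congr fun x hx => e x hx.1)
    (fun P hP g hg => by
      have h1 : IsIso F T T (fun x => g * x * g⁻¹) := StronglyClosed.isMap_iso hT (isMap_conj F le_rfl hg) hTS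
      exact ⟨_, _, h1, isMap_id E inf_le_right, fun x _ => rfl⟩)
    (fun P Q f g _ _ hf hg hfQ _ h1 h2 => by
      have h3 := hres _ _ _ hf.isIso
      refine FG.comp hA hTS h3 h1 (h2.mono ?_)
      refine inf_le_inf_right _ ?_
      intro y hy
      obtain ⟨x, hx, rfl⟩ := (mem_img hf).1 hy
      exact hfQ x hx)
    (fun P Q f g _ _ hf hg h1 h2 h3 => FG.symm hA (hres _ _ _ hf) h3 fun x hx => h1 x hx.1)
  have hle : F ≤ G := by
    apply H88.Focal.le_of_coprime_aut hS hF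
    intro Q hQ α hα hc
    rw [mem_autGroup_iff hQ]
    have hα' := isIso_of_mem_autGroup hQ hα
    rw [hG]
    refine ⟨hα'.isMap, hQ, fun x hx => hα'.isMap.mem hx, ?_⟩
    have h1 := hres _ _ _ hα'
    have h2 : orderOf h1.aut ∣ orderOf α := by
      refine orderOf_restrict_dvd inf_le_left fun x hx => ?_
      rw [IsIso.aut_apply, extFun_apply _ ((inf_le_left : Q ⊓ T ≤ Q) hx)]
      rfl
    have h3 := (ppow_iff.1 hE).2.2 _ inf_le_right h1.aut h1.aut_mem (Nat.Coprime.coprime_dvd_left h2 hc)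
    have h4 := (isIso_of_mem_autGroup inf_le_right h3).isMap
    refine ⟨fun x => x, _, isIso_id F hTS, h4, fun x hx => ?_⟩
    rw [extFun_apply _ hx]
    exact (h1.aut_apply ⟨x, hx⟩).symm
  have h1 : IsMap G P f := by
    obtain ⟨φ, hφ, e⟩ := hf
    exact ⟨φ, hle P hφ, e⟩
  have h2 := ((hG P f).1 h1).2.2.2
  rwa [inf_eq_left.2 hP] at h2

/-! ### The extension condition -/

/-- `a ∈ Aut_F(T)` satisfies the extension condition. -/
def ExtC (F : FusionSystem S) (T : Subgroup Ω) (a : Ω → Ω) : Prop :=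
  ∃ b, IsIso F (T ⊔ centralizerIn S T) (T ⊔ centralizerIn S T) b ∧
      (∀ x ∈ T, b x = a x) ∧ ∀ c ∈ centralizerIn S T, c⁻¹ * b c ∈ T ⊓ Subgroup.centralizer (T : Set Ω)

theorem mem_center_iff {z : Ω} : z ∈ T ⊓ Subgroup.centralizer (T : Set Ω) ↔ z ∈ T ∧ ∀ x ∈ T, x * z = z * x := by
  rw [Subgroup.mem_inf, Subgroup.mem_centralizer_iff]
  rfl

theorem IsIso.center (ha : IsIso F T T a) {z : Ω} (hz : z ∈ T ⊓ Subgroup.centralizer (T : Set Ω)) :
    a z ∈ T ⊓ Subgroup.centralizer (T : Set Ω) := by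
  rw [mem_center_iff] at hz ⊢
  refine ⟨ha.mem hz.1, fun y hy => ?_⟩
  obtain ⟨x, hx, rfl⟩ := ha.surj hy
  rw [← ha.isMap.map_mul hx hz.1, hz.2 x hx, ha.isMap.map_mul hz.1 hx]

theorem ExtC.congr (h : ExtC F T a) (e : ∀ x ∈ T, a x = b x) : ExtC F T b := by
  obtain ⟨c, hc, h1, h2⟩ := h
  exact ⟨c, hc, fun x hx => by rw [h1 x hx, e x hx], h2⟩

theorem ExtC.comp (h : ExtC F T a) (h' : ExtC F T b) (ha : IsIso F T T a) (hb : IsIso F T T b) :
    ExtC F T (b ∘ a) := by
  obtain ⟨a', ha', a1, a2⟩ := h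
  obtain ⟨b', hb', b1, b2⟩ := h'
  refine ⟨_, ha'.comp hb', fun x hx => ?_, fun c hc => ?_⟩
  · show b' (a' x) = b (a x)
    rw [a1 x hx, b1 _ (ha.mem hx)]
  · have h1 := a2 c hc
    have hcm : c ∈ T ⊔ centralizerIn S T := (le_sup_right : centralizerIn S T ≤ _) hc
    have hzm : c⁻¹ * a' c ∈ T ⊔ centralizerIn S T := (le_sup_left : T ≤ _) h1.1
    have h2 : b' (a' c) = b' c * b (c⁻¹ * a' c) := by
      rw [← b1 _ h1.1, ← hb'.isMap.map_mul hcm hzm]
      congr 1
      group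
    show c⁻¹ * b' (a' c) ∈ _
    rw [h2, ← mul_assoc]
    exact Subgroup.mul_mem _ (b2 c hc) (IsIso.center hb h1)

theorem ExtC.symm (h : ExtC F T a) (hb : IsIso F T T b) (hab : ∀ y ∈ T, a (b y) = y) :
    ExtC F T b := by
  obtain ⟨a', ha', a1, a2⟩ := h
  obtain ⟨b', hb', b1, b2⟩ := ha'.symm
  have hbT : ∀ x ∈ T, b' x = b x := by
    intro x hx
    have h1 : a' (b x) = x := by rw [a1 _ (hb.mem hx), hab x hx]
    have h2 := b1 (b x) ((le_sup_left : T ≤ _) (hb.mem hx))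
    rw [h1] at h2
    exact h2
  refine ⟨b', hb', hbT, fun c hc => ?_⟩
  have h1 := a2 c hc
  have hcm : c ∈ T ⊔ centralizerIn S T := (le_sup_right : centralizerIn S T ≤ _) hc
  have hzm : c⁻¹ * a' c ∈ T ⊔ centralizerIn S T := (le_sup_left : T ≤ _) h1.1
  have h2 : c = b' c * b (c⁻¹ * a' c) := by
    rw [← hbT _ h1.1, ← hb'.isMap.map_mul hcm hzm]
    have : c * (c⁻¹ * a' c) = a' c := by group
    rw [this, b1 c hcm]
  have h3 : c⁻¹ * b' c = (b (c⁻¹ * a' c))⁻¹ := by
    have h4 : b' c = c * (b (c⁻¹ * a' c))⁻¹ := by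
      rw [eq_mul_inv_iff_mul_eq]; exact h2.symm
    rw [h4]; group
  rw [h3]
  exact Subgroup.inv_mem _ (IsIso.center hb h1)

theorem extC_inner (hTS : T ≤ S) {t : Ω} (ht : t ∈ T) : ExtC F T (fun x => t * x * t⁻¹) := by
  have hC : T ⊔ centralizerIn S T ≤ S := sup_le hTS centralizerIn_le
  have htm : t ∈ T ⊔ centralizerIn S T := (le_sup_left : T ≤ _) ht
  refine ⟨fun x => t * x * t⁻¹, (isMap_conj F hC (hTS ht)).isIso_of ?_ ?_, fun x _ => rfl, fun c hc => ?_⟩
  · intro x hx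
    exact Subgroup.mul_mem _ (Subgroup.mul_mem _ htm hx) (Subgroup.inv_mem _ htm)
  · intro y hy
    exact ⟨t⁻¹ * y * t, Subgroup.mul_mem _ (Subgroup.mul_mem _ (Subgroup.inv_mem _ htm) hy) htm, by group⟩
  · have h1 := (mem_centralizerIn.1 hc).2 t ht
    have h2 : c⁻¹ * (t * c * t⁻¹) = 1 := by rw [h1]; group
    show c⁻¹ * (t * c * t⁻¹) ∈ _
    rw [h2]
    exact Subgroup.one_mem _

theorem exists_exponent' [Fact p.Prime] (n N : ℕ) (hn : n.Coprime p) (hN : 0 < N) :
    ∃ k : ℕ, k ≡ 1 [MOD n] ∧ ∃ m : ℕ, m.Coprime p ∧ N ∣ k * m := by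
  obtain ⟨b, m, hm, hnm⟩ := Nat.exists_eq_pow_mul_and_not_dvd hN.ne' p (Fact.out : p.Prime).ne_one
  have hcop : Nat.Coprime n (p ^ b) := Nat.Coprime.pow_right _ hn
  obtain ⟨k, hk1, hk2⟩ := Nat.chineseRemainder hcop 1 0
  refine ⟨k, hk1, m, ((Fact.out : p.Prime).coprime_iff_not_dvd.2 hm).symm, ?_⟩
  rw [hnm]
  exact Nat.mul_dvd_mul_right ((Nat.modEq_zero_iff_dvd).1 hk2) _

/-- replacing an extension of a `p'`-automorphism by a power which is a `p'`-automorphism -/
theorem exists_coprime_power [Fact p.Prime] (hQP : Q ≤ P) [Finite P] {α : MulAut P} {β : MulAut Q}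
    (h : ∀ x (hx : x ∈ Q), ((β ⟨x, hx⟩ : Q) : Ω) = (α ⟨x, hQP hx⟩ : P)) (hβ : (orderOf β).Coprime p) :
    ∃ k : ℕ, (orderOf (α ^ k)).Coprime p ∧
      ∀ x (hx : x ∈ Q), ((β ⟨x, hx⟩ : Q) : Ω) = ((α ^ k) ⟨x, hQP hx⟩ : P) := by
  have : Finite (MulAut P) := finite_mulAut
  obtain ⟨k, hk, m, hm, hN⟩ := exists_exponent' (p := p) (orderOf β) (orderOf α) hβ (orderOf_pos α)
  have hpow : ∀ k : ℕ, ∀ x (hx : x ∈ Q), (((β ^ k) ⟨x, hx⟩ : Q) : Ω) = ((α ^ k) ⟨x, hQP hx⟩ : P) := by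
    intro k
    induction k with
    | zero => intro x hx; rfl
    | succ k ih =>
      intro x hx
      rw [pow_succ', pow_succ', MulAut.mul_apply, MulAut.mul_apply]
      have h1 := h _ ((β ^ k) ⟨x, hx⟩).2
      refine h1.trans ?_
      congr 2
      exact Subtype.ext (ih x hx)
  refine ⟨k, ?_, fun x hx => ?_⟩
  · refine Nat.Coprime.coprime_dvd_left (orderOf_dvd_of_pow_eq_one ?_) hm
    rw [← pow_mul]
    exact orderOf_dvd_iff_pow_eq_one.1 hN
  · rw [← hpow]
    have : β ^ k = β := H87.Stancu.pow_eq_of_modEq (pow_orderOf_eq_one β) hk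
    rw [this]

theorem fn_of_stronglyClosed [Finite S] (hT : F.StronglyClosed T) : F.IsFullyNormalized T := by
  refine ⟨hT.1, fun Q hQ => ?_⟩
  obtain ⟨f, hf⟩ := isConj_iff.1 hQ
  have h1 := StronglyClosed.isMap_iso hT hf.isMap le_rfl
  have : Q = T := hf.eq_img.symm.trans h1.eq_img
  rw [this]

/-- extending an automorphism of a strongly closed subgroup to `T C_S(T)`. -/
theorem exists_ext_TC [Fact p.Prime] [Finite S] (hS : IsPGroup p S) (hF : F.IsSaturated p)
    (hT : F.StronglyClosed T) (ha : IsIso F T T a) :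
    ∃ b, IsIso F (T ⊔ centralizerIn S T) (T ⊔ centralizerIn S T) b ∧ (∀ x ∈ T, b x = a x) ∧
      ∀ c ∈ centralizerIn S T, b c ∈ centralizerIn S T := by
  have hn := nice_of_fn hS hF (fn_of_stronglyClosed hT)
  obtain ⟨b, hb, h1⟩ := (isReceptive_iff.1 hn.2).2 T a ha
  have hle : T ⊔ centralizerIn S T ≤ nphi S T a := sup_le (le_nphi ha.isMap) centralizerIn_le_nphi
  have hb' := hb.mono hle
  have hC : ∀ c ∈ centralizerIn S T, b c ∈ centralizerIn S T := by
    intro c hc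
    have hcm : c ∈ T ⊔ centralizerIn S T := (le_sup_right : centralizerIn S T ≤ _) hc
    rw [mem_centralizerIn]
    refine ⟨hb'.mem hcm, fun y hy => ?_⟩
    obtain ⟨x, hx, rfl⟩ := ha.surj hy
    have hxm : x ∈ T ⊔ centralizerIn S T := (le_sup_left : T ≤ _) hx
    rw [← h1 x hx, ← hb'.map_mul hxm hcm, (mem_centralizerIn.1 hc).2 x hx, hb'.map_mul hcm hxm]
  have hm : ∀ x ∈ T ⊔ centralizerIn S T, b x ∈ T ⊔ centralizerIn S T := by
    intro x hx
    refine mem_of_sup hb' (fun x hx => ?_) (fun x hx => ?_) x hx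
    · rw [h1 x hx]; exact (le_sup_left : T ≤ _) (ha.mem hx)
    · exact (le_sup_right : centralizerIn S T ≤ _) (hC x hx)
  refine ⟨b, ?_, h1, hC⟩
  have hfin : Finite ↥(T ⊔ centralizerIn S T) := finite_of_le hb'.le
  refine hb'.isIso_of hm fun y hy => ?_
  have hinj : Function.Injective (fun x : ↥(T ⊔ centralizerIn S T) => (⟨b x, hm x x.2⟩ : ↥(T ⊔ centralizerIn S T))) := by
    intro x z hxz
    exact Subtype.ext (hb'.inj x.2 z.2 (congrArg Subtype.val hxz))
  obtain ⟨x, hx⟩ := (Finite.injective_iff_surjective.1 hinj) ⟨y, hy⟩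
  exact ⟨x, x.2, congrArg Subtype.val hx⟩

theorem extC_coprime [Fact p.Prime] [Finite S] (hS : IsPGroup p S) (hF : F.IsSaturated p)
    (hT : F.StronglyClosed T) (hhyp : F.hyperfocalSubgroup p ≤ T) (ha : IsIso F T T a)
    (hc : (orderOf ha.aut).Coprime p) : ExtC F T a := by
  obtain ⟨b, hb, h1, h2⟩ := exists_ext_TC hS hF hT ha
  have : Finite ↥(T ⊔ centralizerIn S T) := finite_of_le hb.le
  obtain ⟨k, hk, h3⟩ := exists_coprime_power (p := p) (le_sup_left : T ≤ T ⊔ centralizerIn S T) (α := hb.aut)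
    (β := ha.aut) (fun x hx => by rw [IsIso.aut_apply, IsIso.aut_apply]; exact (h1 x hx).symm) hc
  have hβ : hb.aut ^ k ∈ F.autGroup (T ⊔ centralizerIn S T) := Subgroup.pow_mem _ hb.aut_mem k
  have hβi := isIso_of_mem_autGroup hb.le hβ
  refine ⟨_, hβi, fun x hx => ?_, fun c hc' => ?_⟩
  · rw [extFun_apply _ ((le_sup_left : T ≤ T ⊔ centralizerIn S T) hx)]
    have := h3 x hx
    rw [IsIso.aut_apply] at this
    exact this.symm
  · have hcm : c ∈ T ⊔ centralizerIn S T := (le_sup_right : centralizerIn S T ≤ _) hc'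
    rw [extFun_apply _ hcm]
    have h4 := hhyp (H88.Focal.mem_hyp_of_coprime hb.le hβ hk ⟨c, hcm⟩)
    have h5 : ∀ k : ℕ, (((hb.aut ^ k) ⟨c, hcm⟩ : ↥(T ⊔ centralizerIn S T)) : Ω) ∈ centralizerIn S T := by
      intro k
      induction k with
      | zero => exact hc'
      | succ k ih =>
        rw [pow_succ', MulAut.mul_apply, IsIso.aut_apply]
        exact h2 _ ih
    refine ⟨h4, ?_⟩
    have h6 := Subgroup.mul_mem _ (Subgroup.inv_mem _ hc') (h5 k)
    exact h6.2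

/-- the extension condition for all of `Aut_E(T)`, from the elements of order prime to `p` -/
theorem extC_of_coprime [Fact p.Prime] [Finite S] (hS : IsPGroup p S) (hTS : T ≤ S) (hEs : E.IsSaturated p)
    (hE : E.IsSubsystemOf F)
    (h : ∀ a (ha : IsIso E T T a), (orderOf ha.aut).Coprime p → ExtC F T a) (ha : IsIso E T T a) : ExtC F T a := by
  have : Finite T := finite_of_le hTS
  have hTp := hS.to_le hTS
  let A : Subgroup (MulAut T) :=
    { carrier := {α | α ∈ F.autGroup T ∧ ExtC F T (extFun (T.subtype.comp α.toMonoidHom))}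
      mul_mem' := by
        rintro α β ⟨h1, h2⟩ ⟨h3, h4⟩
        refine ⟨Subgroup.mul_mem _ h1 h3, ?_⟩
        refine (h4.comp h2 (isIso_of_mem_autGroup hTS h3) (isIso_of_mem_autGroup hTS h1)).congr fun x hx => ?_
        simp only [Function.comp_apply]
        rw [extFun_apply _ hx, extFun_apply _ hx, extFun_apply _ (by exact (β _).2)]
        rfl
      one_mem' := ⟨Subgroup.one_mem _, (extC_inner hTS T.one_mem).congr fun x hx => by
        rw [extFun_apply _ hx]
        simp⟩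
      inv_mem' := by
        rintro α ⟨h1, h2⟩
        have h1' := Subgroup.inv_mem _ h1
        refine ⟨h1', h2.symm (isIso_of_mem_autGroup hTS h1') fun y hy => ?_⟩
        rw [extFun_apply _ hy, extFun_apply _ (by exact (α⁻¹ _).2)]
        show ((α (α⁻¹ ⟨y, hy⟩) : T) : Ω) = y
        rw [MulAut.apply_inv_self] }
  have hle : E.autGroup T ≤ A := by
    refine H88.Focal.autGroup_eq_of_fullyAutomized
      (H86.FusSat.fullyNormalized_spec hTp hEs (H86.FusSat.fullyNormalized_self E)).2 ?_ ?_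
    · intro α hα
      obtain ⟨t, ht, e⟩ := mem_autInducedBy.1 hα
      refine ⟨autGroup_mono hE T (autInducedBy_le_autGroup E le_rfl hα), ?_⟩
      refine (extC_inner hTS ht).congr fun x hx => ?_
      rw [extFun_apply _ hx]
      exact (e ⟨x, hx⟩).symm
    · intro α hα hc
      have hi := isIso_of_mem_autGroup le_rfl hα
      refine ⟨autGroup_mono hE T hα, h _ hi ?_⟩
      have : hi.aut = α := by
        ext ⟨x, hx⟩
        rw [IsIso.aut_apply, extFun_apply _ hx]
        rfl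
      rw [this]
      exact hc
  have h1 := (hle ha.aut_mem).2
  exact h1.congr fun x hx => by rw [extFun_apply _ hx]; exact ha.aut_apply ⟨x, hx⟩

/-- S5120 -/
theorem normal_of_ppow [Fact p.Prime] [Finite S] (hS : IsPGroup p S) (hF : F.IsSaturated p)
    (hT : F.StronglyClosed T) (hEs : E.IsSaturated p) (hE : E.HasPPowerIndexIn F p) : E.IsNormalIn F p := by
  rw [isNormalIn_iff]
  refine ⟨hEs, hF, ?_, fun a ha => ?_⟩
  · rw [isInvariantIn_iff]
    exact ⟨hE.1, hT, ainv_of_ppow hS hT.1 hEs hE, fun P f hP hf => frattini_of_ppow hS hF hT hEs hE hP hf⟩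
  · refine extC_of_coprime hS hT.1 hEs hE.1 (fun a ha hc => ?_) ha
    have ha' := isIso_of_sub hE.1 ha
    refine extC_coprime hS hF hT hE.2.1 ha' ?_
    have : ha'.aut = ha.aut := by
      ext x
      rw [IsIso.aut_apply, IsIso.aut_apply]
    rw [this]
    exact hc

end H87.PPow
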