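import Cfsg.Agent.Lib.H87.PPow
import Cfsg.Agent.Lib.H87.Crit1
import Cfsg.Agent.Lib.H87.ConstrEq
set_option autoImplicit false

open Cfsg Cfsg.FusionSystem

namespace H87.PPr
open H87.Base H87.Basic H87.Syl H87.Sat H87.Grow H87.Inv H87.Frat H87.Cut H87.PPow

variable {Ω : Type*} [Group Ω] {S T : Subgroup Ω} {F : FusionSystem S}
  {P Q R : Subgroup Ω} {f g h a : Ω → Ω} {p : ℕ}

theorem card_lt' [Finite S] {A B : Subgroup Ω} (hB : B ≤ S) (hAB : A < B) : Nat.card A < Nat.card B := by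
  have : Finite B := finite_of_le hB
  have h1 : Nat.card A ≤ Nat.card B := Nat.card_le_card_of_injective _ (Subgroup.inclusion_injective hAB.le)
  exact lt_of_le_of_ne h1 fun e => hAB.ne (Subgroup.eq_of_le_of_card_ge hAB.le e.ge)

theorem conj_le_of_stronglyClosed (hT : F.StronglyClosed T) {A B : Subgroup Ω} (hAB : F.IsConj A B) (hA : A ≤ T) :
    B ≤ T := by
  obtain ⟨k, hk⟩ := isConj_iff.1 hAB
  intro y hy
  obtain ⟨x, hx, rfl⟩ := hk.surj hy
  exact mem_of_stronglyClosed hT hk.isMap hx (hA hx)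

/-- Alperin-type induction for the maps of `F` with source in a strongly closed `T`. -/
theorem alp [Fact p.Prime] [Finite S] (hS : IsPGroup p S) (hF : F.IsSaturated p) (hT : F.StronglyClosed T)
    (W : Subgroup Ω → (Ω → Ω) → Prop)
    (hcongr : ∀ P f g, P ≤ T → IsMap F P f → (∀ x ∈ P, f x = g x) → W P f → W P g)
    (hmono : ∀ P Q f, P ≤ T → IsMap F P f → Q ≤ P → W P f → W Q f)
    (hcomp : ∀ P Q f g, P ≤ T → IsIso F P Q f → IsMap F Q g → W P f → W Q g → W P (g ∘ f))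
    (hsymm : ∀ P Q f g, P ≤ T → IsIso F P Q f → IsIso F Q P g → (∀ x ∈ P, g (f x) = x) →
      (∀ y ∈ Q, f (g y) = y) → W P f → W Q g)
    (htop : ∀ f, IsIso F T T f → W T f)
    (haut : ∀ Q, Q ≤ T → Q ≠ T → IsNice F p Q → (∀ R k, R ≤ T → Nat.card Q < Nat.card R → IsMap F R k → W R k) →
      ∀ f, IsIso F Q Q f → W Q f) :
    ∀ P f, P ≤ T → IsMap F P f → W P f := by
  intro P f hP hf
  have hTS := hT.1
  obtain ⟨n, hn⟩ : ∃ n, Nat.card S - Nat.card P = n := ⟨_, rfl⟩
  induction n using Nat.strong_induction_on generalizing P f with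
  | _ n ih =>
  have hcardle : ∀ {R : Subgroup Ω}, R ≤ S → Nat.card R ≤ Nat.card S := fun hR =>
    Nat.card_le_card_of_injective _ (Subgroup.inclusion_injective hR)
  have hbig : ∀ {R : Subgroup Ω} {k : Ω → Ω}, R ≤ T → IsMap F R k → Nat.card P < Nat.card R → W R k := by
    intro R k hR hk hlt
    have h1 := hcardle hk.le
    exact ih (Nat.card S - Nat.card R) (by omega) R k hR hk rfl
  by_cases hPT : P = T
  · subst hPT
    exact htop f (StronglyClosed.isMap_iso hT hf le_rfl)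
  have hPlt : P < T := lt_of_le_of_ne hP hPT
  have hTfin : Finite T := finite_of_le hTS
  have hTp : IsPGroup p T := hS.to_le hTS
  have hcardlt : Nat.card P < Nat.card T := card_lt' hTS hPlt
  obtain ⟨Q, hPQ, hQ⟩ := exists_nice hF hf.le
  have hQT : Q ≤ T := conj_le_of_stronglyClosed hT hPQ hP
  have hgrow : ∀ {R : Subgroup Ω}, R ≤ T → Nat.card R = Nat.card P → Nat.card P < Nat.card (normalizerIn T R) := by
    intro R hR hc
    have : R < T := lt_of_le_of_ne hR fun e => by rw [e] at hc; omega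
    have h1 := lt_normalizerIn hTp this
    have h2 : Nat.card R < Nat.card (normalizerIn T R) :=
      card_lt' ((inf_le_left : normalizerIn T R ≤ T).trans hTS) h1
    omega
  have hkey : ∀ {R : Subgroup Ω}, R ≤ T → F.IsConj R Q → ∃ χ, IsIso F R Q χ ∧ W R χ := by
    intro R hR hRQ
    obtain ⟨χ, hχ, hχi⟩ := hQ.exists_map_normalizer hS hRQ
    refine ⟨χ, hχi, ?_⟩
    have h3 : Nat.card R = Nat.card P := by rw [conj_card hPQ, conj_card hRQ]
    have hle : normalizerIn T R ≤ normalizerIn S R := inf_le_inf_right _ hTS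
    exact hmono _ _ _ inf_le_left (hχ.mono hle) (le_normalizerIn hR) (hbig inf_le_left (hχ.mono hle) (hgrow hR h3))
  obtain ⟨χ, hχ, hχg⟩ := hkey hP hPQ
  have hf' := hf.isIso
  have himT : img P f ≤ T := conj_le_of_stronglyClosed hT hf'.isConj hP
  obtain ⟨χ', hχ', hχg'⟩ := hkey himT (isConj_trans (isConj_symm hf'.isConj) hPQ)
  obtain ⟨χi, hχi, hi1, hi2⟩ := hχ.symm
  obtain ⟨χi', hχi', hi1', hi2'⟩ := hχ'.symm
  have hβ : IsIso F Q Q (χ' ∘ f ∘ χi) := (hχi.comp hf').comp hχ'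
  have hcQ := conj_card hPQ
  have hβg : W Q (χ' ∘ f ∘ χi) := haut Q hQT (fun e => by rw [e] at hcQ; omega) hQ
    (fun R k hR hlt hk => hbig hR hk (by omega)) _ hβ
  have hfinal : W P (χi' ∘ ((χ' ∘ f ∘ χi) ∘ χ)) := by
    have h1 : W P ((χ' ∘ f ∘ χi) ∘ χ) := hcomp _ _ _ _ hP hχ hβ.isMap hχg hβg
    exact hcomp _ _ _ _ hP (hχ.comp hβ) hχi'.isMap h1 (hsymm _ _ _ _ himT hχ' hχi' hi1' hi2' hχg')
  refine hcongr _ _ _ hP ((hχ.comp hβ).comp hχi').isMap (fun x hx => ?_) hfinal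
  simp only [Function.comp_apply]
  rw [hi1 x hx, hi1' _ (hf'.mem hx)]

theorem isCentric_iff : F.IsCentric P ↔ P ≤ S ∧ ∀ Q f, IsIso F P Q f → centralizerIn S Q ≤ Q := by
  unfold IsCentric
  refine and_congr_right fun _ => forall_congr' fun Q => ?_
  constructor
  · intro h f hf
    exact h hf.isConj
  · intro h hc
    obtain ⟨f, hf⟩ := isConj_iff.1 hc
    exact h f hf

theorem IsCentric.conj (h : F.IsCentric P) (hc : F.IsConj P Q) : F.IsCentric Q :=
  ⟨(isConj_le hc).2, fun R hR => h.2 R (isConj_trans hc hR)⟩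

theorem IsCentric.up (h : F.IsCentric P) (hPQ : P ≤ Q) (hQ : Q ≤ S) : F.IsCentric Q := by
  rw [isCentric_iff] at h ⊢
  refine ⟨hQ, fun R f hf => ?_⟩
  have h1 := h.2 _ f (hf.restrict hPQ)
  intro x hx
  have h2 : img P f ≤ R := by
    rw [← hf.eq_img]; exact img_mono hPQ
  refine h2 (h1 ⟨hx.1, ?_⟩)
  exact Subgroup.mem_centralizer_iff.2 fun y hy => Subgroup.mem_centralizer_iff.1 hx.2 y (h2 hy)

/-- A nice subgroup that is not centric has centralizer not inside it. -/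
theorem exists_centralizer [Fact p.Prime] [Finite S] (hS : IsPGroup p S) (hQ : IsNice F p Q)
    (h : ¬ F.IsCentric Q) : ∃ c ∈ centralizerIn S Q, c ∉ Q := by
  by_contra hcon
  push Not at hcon
  refine h ⟨hQ.1.1, fun R hR => ?_⟩
  obtain ⟨g, hg, hgi⟩ := hQ.exists_map_normalizer hS (isConj_symm hR)
  intro c hc
  have hcN : c ∈ normalizerIn S R := centralizerIn_le_normalizerIn hc
  have h1 : g c ∈ centralizerIn S Q := by
    rw [mem_centralizerIn]
    refine ⟨hg.mem hcN, fun y hy => ?_⟩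
    obtain ⟨x, hx, rfl⟩ := hgi.surj hy
    have hxN := le_normalizerIn hgi.le hx
    rw [← hg.map_mul hxN hcN, ← hg.map_mul hcN hxN, (mem_centralizerIn.1 hc).2 x hx]
  obtain ⟨x, hx, e⟩ := hgi.surj (hcon _ h1)
  rw [← hg.inj (le_normalizerIn hgi.le hx) hcN e]
  exact hx

theorem receptive_ext_centralizer (hQ : F.IsReceptive Q) (hf : IsIso F P Q f) :
    ∃ g, IsMap F (P ⊔ centralizerIn S P) g ∧ ∀ x ∈ P, g x = f x := by
  obtain ⟨g, hg, e⟩ := (isReceptive_iff.1 hQ).2 P f hf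
  exact ⟨g, hg.mono (sup_le (le_nphi hf.isMap) centralizerIn_le_nphi), e⟩

/-- `E` contains the elements of `p`-power order of `Aut_F(P)`. -/
def HasP (F : FusionSystem S) {T : Subgroup Ω} (E : FusionSystem T) (p : ℕ) (P : Subgroup Ω) : Prop :=
  ∀ α ∈ F.autGroup P, (∃ k : ℕ, orderOf α = p ^ k) → α ∈ E.autGroup P

theorem hasP_iff {E : FusionSystem T} :
    (Subgroup.closure {α : F.autGroup P | ∃ k : ℕ, orderOf α = p ^ k}).map (F.autGroup P).subtype ≤ E.autGroup P ↔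
      HasP F E p P := by
  rw [Subgroup.map_le_iff_le_comap, Subgroup.closure_le]
  constructor
  · rintro h α hα ⟨k, hk⟩
    have := @h ⟨α, hα⟩ ⟨k, by rw [← hk]; exact Subgroup.orderOf_mk α hα⟩
    exact this
  · rintro h ⟨α, hα⟩ ⟨k, hk⟩
    exact h α hα ⟨k, by rw [← hk]; exact (Subgroup.orderOf_mk α hα).symm⟩

theorem hasPrimeToPIndexIn_iff {E : FusionSystem S} : E.HasPrimeToPIndexIn F p ↔
    E.IsSubsystemOf F ∧ ∀ P, P ≤ S → HasP F E p P := by
  unfold HasPrimeToPIndexIn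
  refine and_congr_right fun _ => forall_congr' fun P => forall_congr' fun _ => hasP_iff

/-- the subgroup generated by the elements of `p`-power order of `Aut_F(P)`. -/
def opp (F : FusionSystem S) (p : ℕ) (P : Subgroup Ω) : Subgroup (MulAut P) :=
  Subgroup.closure {α : MulAut P | α ∈ F.autGroup P ∧ ∃ k : ℕ, orderOf α = p ^ k}

theorem opp_le : opp F p P ≤ F.autGroup P := (Subgroup.closure_le _).2 fun _ h => h.1

theorem orderOf_conj' {X : Type*} [Group X] (a b : X) : orderOf (a * b * a⁻¹) = orderOf b := by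
  have : a * b * a⁻¹ = (MulAut.conj a) b := rfl
  rw [this]
  exact (MulAut.conj a).orderOf_eq b

theorem opp_normal : ∀ a ∈ F.autGroup P, ∀ k ∈ opp F p P, a * k * a⁻¹ ∈ opp F p P := by
  intro a ha k hk
  refine Subgroup.closure_induction (p := fun k _ => a * k * a⁻¹ ∈ opp F p P) ?_ ?_ ?_ ?_ hk
  · rintro x ⟨hx, n, hn⟩
    exact Subgroup.subset_closure ⟨Subgroup.mul_mem _ (Subgroup.mul_mem _ ha hx) (Subgroup.inv_mem _ ha), n,
      by rw [orderOf_conj', hn]⟩
  · simp [Subgroup.one_mem]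
  · intro x y _ _ hx hy
    have : a * (x * y) * a⁻¹ = (a * x * a⁻¹) * (a * y * a⁻¹) := by group
    rw [this]; exact Subgroup.mul_mem _ hx hy
  · intro x _ hx
    have : a * x⁻¹ * a⁻¹ = (a * x * a⁻¹)⁻¹ := by group
    rw [this]; exact Subgroup.inv_mem _ hx

theorem orderOf_pow_of_isPGroup {X : Type*} [Group X] {A : Subgroup X} [Fact p.Prime] (hA : IsPGroup p A) {x : X} (hx : x ∈ A) :
    ∃ k : ℕ, orderOf x = p ^ k := by
  obtain ⟨k, hk⟩ := (IsPGroup.iff_orderOf.1 hA) ⟨x, hx⟩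
  exact ⟨k, by rw [← hk]; exact (Subgroup.orderOf_mk x hx).symm⟩

variable {E : FusionSystem S}

theorem exists_induced {d : Ω} (hd : d ∈ normalizerIn S Q) :
    ∃ c ∈ autInducedBy S Q, ∀ x : Q, ((c x : Q) : Ω) = d * x * d⁻¹ := by
  let cd : MulAut Q := Q.normalizerMonoidHom ⟨d, hd.2⟩
  have hcd : ∀ x : Q, ((cd x : Q) : Ω) = d * x * d⁻¹ := fun x => rfl
  exact ⟨cd, mem_autInducedBy.2 ⟨d, hd.1, hcd⟩, hcd⟩

/-- Frattini condition when `E` contains all `p`-elements of `Aut_F(P)`, `P` centric. -/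
theorem fg_all [Fact p.Prime] [Finite S] (hS : IsPGroup p S) (hF : F.IsSaturated p) (hE : E.IsSubsystemOf F)
    (hA : AInv F E) (h : ∀ P, F.IsCentric P → HasP F E p P) : ∀ P f, IsMap F P f → FG F E P f := by
  have hTT : F.StronglyClosed S := by
    rw [stronglyClosed_iff]
    exact ⟨le_rfl, fun P f _ hf x hx => hf.mem hx⟩
  intro P f hf
  refine alp hS hF hTT (fun P f => FG F E P f) (fun P f g _ _ e h => h.congr e) (fun P Q f _ _ hQ h => h.mono hQ)
    (fun P Q f g _ hf _ h1 h2 => FG.comp hA le_rfl hf h1 h2) (fun P Q f g _ hf _ e _ h1 => FG.symm hA hf h1 e)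
    (fun f hf => ⟨f, fun x => x, hf, isMap_id E le_rfl, fun _ _ => rfl⟩) ?_ P f hf.le hf
  intro Q hQS hQne hQ hbig f hf
  have hQlt : Q < S := lt_of_le_of_ne hQS hQne
  by_cases hc : F.IsCentric Q
  · have hK : opp F p Q ≤ F.autGroup Q := opp_le
    have hKE : opp F p Q ≤ E.autGroup Q := (Subgroup.closure_le _).2 fun α hα => h Q hc α hα.1 hα.2
    obtain ⟨k, hk, hD⟩ := hQ.frattini hK opp_normal hf.aut_mem
    obtain ⟨g, hg, hgx⟩ := hD (normalizerIn S Q) inf_le_left (by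
      intro d hd
      obtain ⟨c, hc, e⟩ := exists_induced hd
      have : Finite Q := finite_of_le hQS
      exact ⟨c, Subgroup.subset_closure ⟨autInducedBy_le_autGroup F hQS hc,
        orderOf_pow_of_isPGroup (isPGroup_autInducedBy hS) hc⟩, e⟩)
    have h4 : FG F E Q g := (hbig _ _ inf_le_left (card_lt' inf_le_left (lt_normalizerIn hS hQlt))
      (hg.mono le_sup_right)).mono (le_normalizerIn hQS)
    have hki := isIso_of_mem_autGroup hQS (Subgroup.inv_mem _ (hKE hk))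
    have hgi : IsIso F Q Q g := by
      refine (isIso_of_mem_autGroup hQS (Subgroup.mul_mem _ (hK hk) hf.aut_mem)).congr fun x hx => ?_
      rw [extFun_apply _ hx, hgx x hx]
      rfl
    have h5 := FG.comp hA le_rfl hgi h4 (fg_of_E (F := F) le_rfl hki.isMap)
    refine h5.congr fun x hx => ?_
    simp only [Function.comp_apply]
    have h6 : g x = ((k (hf.aut ⟨x, hx⟩) : Q) : Ω) := hgx x hx
    rw [h6, extFun_coe]
    show ((k⁻¹ (k (hf.aut ⟨x, hx⟩)) : Q) : Ω) = _
    rw [MulAut.inv_apply_self]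
    rfl
  · obtain ⟨c, hc1, hc2⟩ := exists_centralizer hS hQ hc
    obtain ⟨g, hg, e⟩ := receptive_ext_centralizer hQ.2 hf
    have hlt : Q < Q ⊔ centralizerIn S Q :=
      lt_of_le_of_ne le_sup_left fun e => hc2 (by rw [e]; exact Subgroup.mem_sup_right hc1)
    exact ((hbig _ _ hg.le (card_lt' hg.le hlt) hg).mono le_sup_left).congr e

theorem stronglyClosed_top : F.StronglyClosed S := by
  rw [stronglyClosed_iff]
  exact ⟨le_rfl, fun P f _ hf x hx => hf.mem hx⟩

theorem invariant_of [Fact p.Prime] [Finite S] (hS : IsPGroup p S) (hF : F.IsSaturated p) (hE : E.IsSubsystemOf F)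
    (hA : AInv F E) (h : ∀ P, F.IsCentric P → HasP F E p P) : E.IsInvariantIn F := by
  rw [isInvariantIn_iff]
  exact ⟨hE, stronglyClosed_top, hA, fun P f _ hf => fg_all hS hF hE hA h P f hf⟩

theorem centric_iff [Fact p.Prime] [Finite S] (hE : E.IsSubsystemOf F)
    (hFG : ∀ P f, IsMap F P f → FG F E P f) : E.IsCentric P ↔ F.IsCentric P := by
  constructor
  · intro h
    rw [isCentric_iff] at h ⊢
    refine ⟨h.1, fun Q f hf => ?_⟩
    obtain ⟨a, f₀, ha, hf₀, e⟩ := hFG P f hf.isMap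
    obtain ⟨b, hb, b1, b2⟩ := ha.symm
    have h1 := h.2 _ f₀ hf₀.isIso
    intro y hy
    have hyS := hy.1
    have h2 : b y ∈ centralizerIn S (img P f₀) := by
      rw [mem_centralizerIn]
      refine ⟨hb.isMap.mem hyS, fun z hz => ?_⟩
      obtain ⟨x, hx, rfl⟩ := (mem_img hf₀).1 hz
      have h3 : f x = a (f₀ x) := e x hx
      have h4 : f₀ x = b (f x) := by rw [h3, b1 _ (hf₀.mem hx)]
      have h5 := (mem_centralizerIn.1 hy).2 (f x) (hf.mem hx)
      rw [h4, ← hb.isMap.map_mul (hf.isMap.mem hx) hyS, ← hb.isMap.map_mul hyS (hf.isMap.mem hx), h5]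
    obtain ⟨x, hx, e1⟩ := (mem_img hf₀).1 (h1 h2)
    have h6 : y = f x := by rw [e x hx, e1, b2 y hyS]
    rw [h6]; exact hf.mem hx
  · intro h
    rw [isCentric_iff] at h ⊢
    exact ⟨h.1, fun Q f hf => h.2 Q f (isIso_of_sub hE hf)⟩

/-- The same for every subgroup. -/
theorem hasP_all [Fact p.Prime] [Finite S] (hS : IsPGroup p S) (hF : F.IsSaturated p) (hE : E.IsSubsystemOf F)
    (hI : SInv F E) (h : ∀ P, F.IsCentric P → HasP F E p P) : ∀ P, P ≤ S → HasP F E p P := by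
  intro P hP
  obtain ⟨n, hn⟩ : ∃ n, Nat.card S - Nat.card P = n := ⟨_, rfl⟩
  induction n using Nat.strong_induction_on generalizing P with
  | _ n ih =>
  by_cases hcP : F.IsCentric P
  · exact h P hcP
  rintro α hα ⟨k, hk⟩
  have hαi := isIso_of_mem_autGroup hP hα
  obtain ⟨Q, hPQ, hQ⟩ := exists_nice hF hP
  have hQS : Q ≤ S := (isConj_le hPQ).2
  have hcQ : ¬ F.IsCentric Q := fun h' => hcP (IsCentric.conj h' (isConj_symm hPQ))
  obtain ⟨χ, hχ⟩ := isConj_iff.1 hPQ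
  obtain ⟨χi, hχi, i1, i2⟩ := hχ.symm
  have hfinQ : Finite Q := finite_of_le hQS
  have : Finite (MulAut Q) := finite_mulAut
  -- the transported automorphism
  have hα' : IsIso.congrAut hχ α ∈ F.autGroup Q := IsIso.congrAut_mem hχ hα
  have hord : orderOf (IsIso.congrAut hχ α) = p ^ k := by
    rw [← hk]; exact (IsIso.congrAut hχ).orderOf_eq α
  have hkey : IsIso.congrAut hχ α ∈ E.autGroup Q := by
    have hsyl := (isFullyAutomized_iff.1 hQ.1).2
    have hpg : IsPGroup p (Subgroup.zpowers (IsIso.congrAut hχ α)) := by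
      rw [IsPGroup.iff_card]
      exact ⟨k, by rw [Nat.card_zpowers, hord]⟩
    obtain ⟨β, hβ, hc⟩ := hsyl.conj (Subgroup.zpowers_le.2 hα') hpg
    obtain ⟨s, hs, hsx⟩ := mem_autInducedBy.1 (hc _ (Subgroup.mem_zpowers _))
    -- extend β
    have hβi := isIso_of_mem_autGroup hQS hβ
    obtain ⟨b, hb, be⟩ := receptive_ext_centralizer hQ.2 hβi
    obtain ⟨c, hc1, hc2⟩ := exists_centralizer hS hQ hcQ
    have hlt : Q < Q ⊔ centralizerIn S Q :=
      lt_of_le_of_ne le_sup_left fun e => hc2 (by rw [e]; exact Subgroup.mem_sup_right hc1)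
    have hRS : Q ⊔ centralizerIn S Q ≤ S := sup_le hQS inf_le_left
    have hbR : ∀ x ∈ Q ⊔ centralizerIn S Q, b x ∈ Q ⊔ centralizerIn S Q := by
      refine mem_of_sup hb (fun x hx => ?_) fun x hx => ?_
      · rw [be x hx]; exact Subgroup.mem_sup_left (hβi.mem hx)
      · refine Subgroup.mem_sup_right (mem_centralizerIn.2 ⟨hb.mem (Subgroup.mem_sup_right hx), fun y hy => ?_⟩)
        obtain ⟨z, hz, rfl⟩ := hβi.surj hy
        rw [← be z hz, ← hb.map_mul (Subgroup.mem_sup_left hz) (Subgroup.mem_sup_right hx),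
          ← hb.map_mul (Subgroup.mem_sup_right hx) (Subgroup.mem_sup_left hz), (mem_centralizerIn.1 hx).2 z hz]
    have hbi : IsIso F (Q ⊔ centralizerIn S Q) (Q ⊔ centralizerIn S Q) b := H87.ConstrEq.isIso_of_self hb hbR
    -- s normalizes Q and hence R
    have hsQ : ∀ x ∈ Q, s * x * s⁻¹ ∈ Q := fun x hx => by
      have := hsx ⟨x, hx⟩
      rw [← this]; exact (_ : Q).2
    have hsN : s ∈ Subgroup.normalizer (Q : Set Ω) := mem_normalizer_iff_of_finite.2 hsQ
    have hsQ' : ∀ x ∈ Q, s⁻¹ * x * s ∈ Q := fun x hx => by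
      have := (Subgroup.mem_normalizer_iff.1 (Subgroup.inv_mem _ hsN) x).1 hx
      rwa [inv_inv] at this
    have hsR : ∀ x ∈ Q ⊔ centralizerIn S Q, s * x * s⁻¹ ∈ Q ⊔ centralizerIn S Q := by
      have hm : IsMap F (Q ⊔ centralizerIn S Q) (fun x => s * x * s⁻¹) := isMap_conj F hRS hs
      refine mem_of_sup hm (fun x hx => Subgroup.mem_sup_left (hsQ x hx)) fun x hx => ?_
      refine Subgroup.mem_sup_right (mem_centralizerIn.2 ⟨hm.mem (Subgroup.mem_sup_right hx), fun y hy => ?_⟩)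
      have h1 := (mem_centralizerIn.1 hx).2 _ (hsQ' y hy)
      show y * (s * x * s⁻¹) = s * x * s⁻¹ * y
      calc y * (s * x * s⁻¹) = s * ((s⁻¹ * y * s) * x) * s⁻¹ := by group
        _ = s * (x * (s⁻¹ * y * s)) * s⁻¹ := by rw [h1]
        _ = _ := by group
    have hsRi : IsIso F (Q ⊔ centralizerIn S Q) (Q ⊔ centralizerIn S Q) (fun x => s * x * s⁻¹) :=
      H87.ConstrEq.isIso_of_self (isMap_conj F hRS hs) hsR
    -- the automorphism b⁻¹ c_s b of R
    have hsaut : hsRi.aut ∈ autInducedBy S (Q ⊔ centralizerIn S Q) :=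
      mem_autInducedBy.2 ⟨s, hs, fun x => hsRi.aut_apply x⟩
    have hfinR : Finite (Q ⊔ centralizerIn S Q : Subgroup Ω) := finite_of_le hRS
    obtain ⟨m, hm⟩ := orderOf_pow_of_isPGroup (isPGroup_autInducedBy hS) hsaut
    have hδ : hbi.aut⁻¹ * hsRi.aut * hbi.aut ∈ F.autGroup (Q ⊔ centralizerIn S Q) :=
      Subgroup.mul_mem _ (Subgroup.mul_mem _ (Subgroup.inv_mem _ hbi.aut_mem) hsRi.aut_mem) hbi.aut_mem
    have hδo : orderOf (hbi.aut⁻¹ * hsRi.aut * hbi.aut) = p ^ m := by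
      rw [← hm]
      have := orderOf_conj' hbi.aut⁻¹ hsRi.aut
      rwa [inv_inv] at this
    have hcR : Nat.card Q < Nat.card (Q ⊔ centralizerIn S Q : Subgroup Ω) := card_lt' hRS hlt
    have hcRS : Nat.card (Q ⊔ centralizerIn S Q : Subgroup Ω) ≤ Nat.card S :=
      Nat.card_le_card_of_injective _ (Subgroup.inclusion_injective hRS)
    have hcPQ := conj_card hPQ
    have hδE := ih (Nat.card S - Nat.card (Q ⊔ centralizerIn S Q : Subgroup Ω)) (by omega) _ hRS rfl _ hδ ⟨m, hδo⟩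
    have hδi := isIso_of_mem_autGroup hRS hδE
    refine mem_autGroup_of_isMap hQS (hδi.isMap.mono le_sup_left) fun x => ?_
    rw [extFun_apply _ (Subgroup.mem_sup_left x.2)]
    show _ = (((hbi.aut⁻¹ * hsRi.aut * hbi.aut) ⟨x, _⟩ : (Q ⊔ centralizerIn S Q : Subgroup Ω)) : Ω)
    -- apply b to both sides
    have hb1 : ((hbi.aut (((hbi.aut⁻¹ * hsRi.aut * hbi.aut) ⟨x, Subgroup.mem_sup_left x.2⟩)) :
        (Q ⊔ centralizerIn S Q : Subgroup Ω)) : Ω) = s * b x * s⁻¹ := by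
      rw [MulAut.mul_apply, MulAut.mul_apply, MulAut.apply_inv_self, hsRi.aut_apply, hbi.aut_apply]
    rw [hbi.aut_apply] at hb1
    refine hb.inj (Subgroup.mem_sup_left (Subtype.mem _)) (Subtype.mem _) ?_
    rw [hb1, be _ (Subtype.mem _), be _ x.2, extFun_coe, extFun_coe]
    show ((β _ : Q) : Ω) = s * ((β x : Q) : Ω) * s⁻¹
    rw [← hsx (β x)]
    congr 1
    rw [MulAut.mul_apply, MulAut.mul_apply, MulAut.inv_apply_self]
  -- transport back
  have hki := isIso_of_mem_autGroup hQS hkey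
  obtain ⟨g, hg, hg'⟩ := hI Q Q _ χi le_rfl hQS hki.isMap (fun _ hx => hki.mem hx) hχi.isMap
  rw [hχi.eq_img] at hg
  refine mem_autGroup_of_isMap hP hg fun x => ?_
  have h1 := hg' (χ x) (hχ.mem x.2)
  rw [i1 x x.2] at h1
  rw [h1, extFun_apply _ (hχ.mem x.2)]
  show _ = χi ((IsIso.congrAut hχ α ⟨χ x, _⟩ : Q) : Ω)
  rw [IsIso.congrAut_apply hχ α x.2, i1 _ (α _).2]

end H87.PPr
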