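import Cfsg.Agent.Lib.H87.ConstrEq
import Cfsg.Agent.Lib.H87.Grp
import Cfsg.Agent.Lib.H88.FocalGroup
import Cfsg.Agent.Lib.H86.FusCentric
import Cfsg.Agent.Lib.H89.Normal3
import Cfsg.Agent.Lib.H1.Cores
import Cfsg.Agent.Lib.H2.Residual
set_option autoImplicit false

open Cfsg Cfsg.FusionSystem

namespace H87.Strict
open H87.Base H87.Basic H87.Syl H87.Sat H87.Grow H87.Inv H87.Frat H87.PPow H87.CMap H87.Bridge H87.ConstrEq H87.Grp

section general
variable {Ω : Type*} [Group Ω] {S T : Subgroup Ω} {F : FusionSystem S} {E E' : FusionSystem T}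
  {P Q R : Subgroup Ω} {f g h a b : Ω → Ω} {p : ℕ}

theorem isCentric_of_stronglyClosed (hR : F.StronglyClosed R) [Finite S] (hc : centralizerIn S R ≤ R) : F.IsCentric R := by
  refine ⟨hR.1, fun Q hQ => ?_⟩
  obtain ⟨f, hf⟩ := isConj_iff.1 hQ
  have h1 := StronglyClosed.isMap_iso hR hf.isMap le_rfl
  have : Q = R := hf.eq_img.symm.trans h1.eq_img
  rw [this]; exact hc

/-- function form of `exists_conj_of_eq_on`. -/
theorem exists_conj_of_eq_on' [Fact p.Prime] [Finite S] (hS : IsPGroup p S) (hF : F.IsSaturated p)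
    (hR : F.IsCentric R) (hRP : R ≤ P) (hf : IsMap F P f) (h : ∀ x ∈ R, f x = x) :
    ∃ z ∈ R, (∀ x ∈ R, x * z = z * x) ∧ ∀ y ∈ P, f y = z * y * z⁻¹ := by
  obtain ⟨φ, hφ, e⟩ := hf
  obtain ⟨z, hz, hzc, hz'⟩ := H86.FusCentric.exists_conj_of_eq_on hS hF hRP hR hφ (fun x hx => by rw [e x]; exact h x hx)
  refine ⟨z, hz, fun x hx => Subgroup.mem_centralizer_iff.1 hzc x hx, fun y hy => ?_⟩
  rw [← hz' ⟨y, hy⟩, e ⟨y, hy⟩]

theorem coprime_comm {H : Type*} [Group H] [Fact p.Prime] {g d e : H} (hge : g * e = e * g)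
    (hd : g * d * g⁻¹ = d * e) (hg : (orderOf g).Coprime p) {k : ℕ} (he : e ^ p ^ k = 1) : e = 1 := by
  have h1 : ∀ n : ℕ, g ^ n * d * (g ^ n)⁻¹ = d * e ^ n := by
    intro n
    induction n with
    | zero => simp
    | succ n ih =>
      have h2 : g * e ^ n * g⁻¹ = e ^ n := by
        have : Commute g e := hge
        have h3 := (this.pow_right n).eq
        rw [h3]; group
      calc g ^ (n + 1) * d * (g ^ (n + 1))⁻¹ = g * (g ^ n * d * (g ^ n)⁻¹) * g⁻¹ := by rw [pow_succ']; group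
        _ = g * (d * e ^ n) * g⁻¹ := by rw [ih]
        _ = (g * d * g⁻¹) * (g * e ^ n * g⁻¹) := by group
        _ = d * e ^ (n + 1) := by rw [hd, h2, pow_succ']; group
  have h2 := h1 (orderOf g)
  rw [pow_orderOf_eq_one] at h2
  have h3 : e ^ orderOf g = 1 := by
    have : d = d * e ^ orderOf g := by simpa using h2
    exact (mul_eq_left.1 this.symm)
  have h4 : orderOf e = 1 := Nat.eq_one_of_dvd_coprimes (Nat.Coprime.pow_right k hg)
    (orderOf_dvd_of_pow_eq_one h3) (orderOf_dvd_of_pow_eq_one he)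
  exact orderOf_eq_one_iff.1 h4

end general

variable {G : Type*} [Group G] {Q R D T H : Subgroup G} {p : ℕ}

/-- the elements acting trivially on `D` modulo the normal subgroup `R`. -/
def actMod (D R : Subgroup G) (hR : R.Normal) : Subgroup G where
  carrier := {g | ∀ d ∈ D, d⁻¹ * (g * d * g⁻¹) ∈ R}
  mul_mem' := by
    intro g h hg hh d hd
    have h1 := Subgroup.mul_mem _ (hg d hd) (hR.conj_mem _ (hh d hd) g)
    have h2 : d⁻¹ * (g * d * g⁻¹) * (g * (d⁻¹ * (h * d * h⁻¹)) * g⁻¹) = d⁻¹ * (g * h * d * (g * h)⁻¹) := by group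
    rwa [h2] at h1
  one_mem' := by
    intro d _
    have : d⁻¹ * (1 * d * 1⁻¹) = 1 := by group
    rw [this]; exact R.one_mem
  inv_mem' := by
    intro g hg d hd
    have h1 := hR.conj_mem _ (Subgroup.inv_mem _ (hg d hd)) g⁻¹
    have h2 : g⁻¹ * (d⁻¹ * (g * d * g⁻¹))⁻¹ * g⁻¹⁻¹ = d⁻¹ * (g⁻¹ * d * g⁻¹⁻¹) := by group
    rwa [h2] at h1

theorem mem_actMod {hR : R.Normal} {g : G} : g ∈ actMod D R hR ↔ ∀ d ∈ D, d⁻¹ * (g * d * g⁻¹) ∈ R := Iff.rfl

theorem actMod_normal (hD : D.Normal) (hR : R.Normal) : (actMod D R hR).Normal := by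
  refine ⟨fun g hg a => ?_⟩
  rw [mem_actMod] at hg ⊢
  intro d hd
  have h1 := hR.conj_mem _ (hg _ (hD.conj_mem _ hd a⁻¹)) a
  have h2 : a * ((a⁻¹ * d * a⁻¹⁻¹)⁻¹ * (g * (a⁻¹ * d * a⁻¹⁻¹) * g⁻¹)) * a⁻¹ = d⁻¹ * (a * g * a⁻¹ * d * (a * g * a⁻¹)⁻¹) := by
    group
  rwa [h2] at h1

variable [Finite G] [Fact p.Prime]

/-- Thompson's `A × B` argument. -/
theorem eq_one_of (hG : Subgroup.centralizer ((pCore p G : Subgroup G) : Set G) ≤ pCore p G) (hR : R.Normal)
    (hRQ : R ≤ pCore p G) {g : G} (hg : (orderOf g).Coprime p) (h1 : ∀ x ∈ R, g * x = x * g)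
    (h2 : ∀ d ∈ pCore p G, (∀ x ∈ R, x * d = d * x) → d⁻¹ * (g * d * g⁻¹) ∈ R) : g = 1 := by
  have hQn : (pCore p G).Normal := H1.Cores.pCore_normal p
  obtain ⟨k, hk⟩ := IsPGroup.iff_card.1 (H1.Cores.isPGroup_pCore (G := G) p)
  have hpow : ∀ e ∈ pCore p G, e ^ p ^ k = 1 := by
    intro e he
    rw [← hk]
    exact congrArg Subtype.val (pow_card_eq_one' (G := pCore p G) (x := ⟨e, he⟩))
  have h3 : ∀ d ∈ pCore p G, (∀ x ∈ R, x * d = d * x) → g * d * g⁻¹ = d := by
    intro d hd hdR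
    have h4 := h2 d hd hdR
    have h5 : d⁻¹ * (g * d * g⁻¹) = 1 :=
      coprime_comm (d := d) (h1 _ h4) (by group) hg (hpow _ (hRQ h4))
    rw [inv_mul_eq_one] at h5
    exact h5.symm
  have h4 : ∀ q ∈ pCore p G, g * q * g⁻¹ = q := by
    intro q hq
    have h5 : q⁻¹ * (g * q * g⁻¹) ∈ pCore p G := Subgroup.mul_mem _ (Subgroup.inv_mem _ hq) (hQn.conj_mem _ hq g)
    have h6 : ∀ x ∈ R, x * (q⁻¹ * (g * q * g⁻¹)) = (q⁻¹ * (g * q * g⁻¹)) * x := by
      intro x hx
      have h7 := h1 _ (hR.conj_mem _ hx q)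
      have h8 := h1 _ hx
      -- g (q x q⁻¹) = (q x q⁻¹) g
      have h9 : g * q * g⁻¹ * x = q * x * q⁻¹ * (g * q * g⁻¹) := by
        have : g * q * g⁻¹ * x = g * q * x * g⁻¹ := by
          have h10 : g⁻¹ * x = x * g⁻¹ := by
            rw [inv_mul_eq_iff_eq_mul, ← mul_assoc, h8]; group
          rw [mul_assoc, h10]; group
        rw [this]
        calc g * q * x * g⁻¹ = (g * (q * x * q⁻¹)) * q * g⁻¹ := by group
          _ = ((q * x * q⁻¹) * g) * q * g⁻¹ := by rw [h7]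
          _ = _ := by group
      calc x * (q⁻¹ * (g * q * g⁻¹)) = q⁻¹ * (q * x * q⁻¹ * (g * q * g⁻¹)) := by group
        _ = q⁻¹ * (g * q * g⁻¹ * x) := by rw [h9]
        _ = _ := by group
    have h7 := h3 _ h5 h6
    have h8 : q⁻¹ * (g * q * g⁻¹) = 1 :=
      coprime_comm (d := q) (g := g) (by nth_rw 2 [← h7]; group) (by group) hg (hpow _ h5)
    rw [inv_mul_eq_one] at h8
    exact h8.symm
  have h5 : g ∈ pCore p G := by
    apply hG
    rw [Subgroup.mem_centralizer_iff]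
    intro q hq
    have := h4 q hq
    rw [mul_inv_eq_iff_eq_mul] at this
    exact this.symm
  have h6 : orderOf g = 1 := by
    refine Nat.eq_one_of_dvd_coprimes (Nat.Coprime.pow_right k hg) dvd_rfl
      (orderOf_dvd_of_pow_eq_one (hpow g h5))
  exact orderOf_eq_one_iff.1 h6

/-- the kernel of the action on `R` and `C_Q(R)/Z(R)` is a `p`-group. -/
theorem zt_le (hG : Subgroup.centralizer ((pCore p G : Subgroup G) : Set G) ≤ pCore p G) (hR : R.Normal)
    (hRQ : R ≤ pCore p G) :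
    Subgroup.centralizer (R : Set G) ⊓ actMod (pCore p G ⊓ Subgroup.centralizer (R : Set G)) R hR ≤ pCore p G := by
  have hQn : (pCore p G).Normal := H1.Cores.pCore_normal p
  have hCn : (Subgroup.centralizer (R : Set G)).Normal := Subgroup.normal_centralizer
  have hDn : (pCore p G ⊓ Subgroup.centralizer (R : Set G)).Normal := Subgroup.normal_inf_normal _ _
  have hAn := actMod_normal hDn hR
  refine H1.Cores.le_pCore (Subgroup.normal_inf_normal _ _) ?_
  refine H89.Normal2.isPGroup_of_coprime fun g hg => ?_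
  have hg' : (orderOf (g : G)).Coprime p := by rwa [Subgroup.orderOf_coe]
  have h1 := Subgroup.mem_centralizer_iff.1 g.2.1
  have := eq_one_of hG hR hRQ hg' (fun x hx => (h1 x hx).symm) fun d hd hdx => by
    exact g.2.2 d ⟨hd, Subgroup.mem_centralizer_iff.2 hdx⟩
  exact Subtype.ext this

section main
variable (S : Sylow p G) {E : FusionSystem T}

theorem sc_mem (hT : (groupFusionSystem (S : Subgroup G)).StronglyClosed T) {g t : G} (ht : t ∈ T)
    (h : g * t * g⁻¹ ∈ (S : Subgroup G)) : g * t * g⁻¹ ∈ T := by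
  have htS : t ∈ (S : Subgroup G) := hT.1 ht
  have hm : IsMap (groupFusionSystem (S : Subgroup G)) (Subgroup.zpowers t) (fun x => g * x * g⁻¹) := by
    refine isMap_group (by rwa [Subgroup.zpowers_le]) fun x hx => ?_
    obtain ⟨n, rfl⟩ := Subgroup.mem_zpowers_iff.1 hx
    rw [← conj_zpow]
    exact Subgroup.zpow_mem _ h n
  exact mem_of_stronglyClosed hT hm (Subgroup.mem_zpowers t) ht

theorem inf_core_normal (hT : (groupFusionSystem (S : Subgroup G)).StronglyClosed T) : (T ⊓ pCore p G).Normal := by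
  refine ⟨fun x hx g => ?_⟩
  have h1 := (H1.Cores.pCore_normal (G := G) p).conj_mem _ hx.2 g
  exact ⟨sc_mem S hT hx.1 (H1.Cores.pCore_le_sylow S h1), h1⟩

/-- `R = T ∩ O_p(G)` is normal in `E`. -/
theorem inf_core_isNormal (hE : E.IsWeaklyNormalIn (groupFusionSystem (S : Subgroup G)) p) :
    E.IsNormal (T ⊓ pCore p G) := by
  have hS : IsPGroup p (S : Subgroup G) := S.2
  have hT := hE.2.2.2.1
  have hTS : T ≤ (S : Subgroup G) := hT.1
  have hTfin : Finite T := inferInstance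
  have hTp : IsPGroup p T := hS.to_le hTS
  have hQn := H86.FusGroup.group_isNormal S (pCore p G) (H1.Cores.isPGroup_pCore p)
  obtain ⟨n, d, hd0, hdl, hmono, hd⟩ := (H89.Normal3.isNormal_iff_chain hS hE.2.1).1 hQn
  rw [H89.Normal3.isNormal_iff_chain hTp hE.1]
  refine ⟨n, fun i => T ⊓ d i, ?_, ?_, ?_, fun i => ⟨?_, ?_⟩⟩
  · show T ⊓ d 0 = ⊥
    rw [hd0]; exact inf_bot_eq _
  · show T ⊓ d (Fin.last n) = _
    rw [hdl]
  · intro i j hij
    exact inf_le_inf_left _ (hmono hij)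
  · rw [stronglyClosed_iff]
    refine ⟨inf_le_left, fun P f hP hf x hx => ⟨hf.mem hx, ?_⟩⟩
    have hf' := isMap_of_sub hE.2.2.1 hf
    exact mem_of_stronglyClosed (hd i).1 hf' hx (hP hx).2
  · refine le_inf ?_ ((Subgroup.commutator_mono inf_le_right inf_le_right).trans (hd i).2)
    rw [Subgroup.commutator_le]
    intro x hx y hy
    exact Subgroup.mul_mem _ (Subgroup.mul_mem _ (Subgroup.mul_mem _ hx.1 hy.1) (Subgroup.inv_mem _ hx.1)) (Subgroup.inv_mem _ hy.1)

/-- `C_T(R) ≤ R`. -/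
theorem centralizer_le (hG : Subgroup.centralizer ((pCore p G : Subgroup G) : Set G) ≤ pCore p G)
    (hT : (groupFusionSystem (S : Subgroup G)).StronglyClosed T) :
    centralizerIn T (T ⊓ pCore p G) ≤ T ⊓ pCore p G := by
  intro t ht
  rw [mem_centralizerIn] at ht
  refine ⟨ht.1, ?_⟩
  refine zt_le hG (inf_core_normal S hT) inf_le_right ⟨?_, ?_⟩
  · exact Subgroup.mem_centralizer_iff.2 ht.2
  · intro d hd
    have hdS := H1.Cores.pCore_le_sylow S hd.1
    refine ⟨?_, Subgroup.mul_mem _ (Subgroup.inv_mem _ hd.1) ((H1.Cores.pCore_normal (G := G) p).conj_mem _ hd.1 t)⟩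
    have h1 : d⁻¹ * (t * d * t⁻¹) = (d⁻¹ * t * d) * t⁻¹ := by group
    rw [h1]
    exact Subgroup.mul_mem _ (StronglyClosed.conj_mem' hT hdS ht.1) (Subgroup.inv_mem _ ht.1)

/-- the subgroup `X` of elements inducing `E`-automorphisms on the normal subgroup `R`. -/
def xg (E : FusionSystem T) (R : Subgroup G) (hRT : R ≤ T) (hR : R.Normal) : Subgroup G where
  carrier := {g | IsMap E R (fun x => g * x * g⁻¹)}
  mul_mem' := by
    intro g h (hg : IsMap E R (fun x => g * x * g⁻¹)) (hh : IsMap E R (fun x => h * x * h⁻¹))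
    show IsMap E R (fun x => (g * h) * x * (g * h)⁻¹)
    refine (IsMap.comp' hh hg fun x hx => hR.conj_mem _ hx h).congr fun x _ => ?_
    simp only [mul_assoc, mul_inv_rev]
  one_mem' := by
    show IsMap E R (fun x => 1 * x * 1⁻¹)
    exact (isMap_id E hRT).congr fun x _ => by group
  inv_mem' := by
    intro g (hg : IsMap E R (fun x => g * x * g⁻¹))
    show IsMap E R (fun x => g⁻¹ * x * g⁻¹⁻¹)
    have h1 : IsIso E R R (fun x => g * x * g⁻¹) := by
      refine hg.isIso_of (fun x hx => hR.conj_mem _ hx g) fun y hy => ?_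
      exact ⟨g⁻¹ * y * g⁻¹⁻¹, hR.conj_mem _ hy g⁻¹, by group⟩
    obtain ⟨k, hk, k1, k2⟩ := h1.symm
    refine hk.isMap.congr fun y hy => ?_
    have h2 := k1 _ (hR.conj_mem _ hy g⁻¹)
    rw [← h2]
    congr 1
    group

theorem mem_xg {hRT : R ≤ T} {hR : R.Normal} {g : G} :
    g ∈ xg E R hRT hR ↔ IsMap E R (fun x => g * x * g⁻¹) := Iff.rfl

theorem xg_normal (hI : SInv (groupFusionSystem (S : Subgroup G)) E) (hTS : T ≤ (S : Subgroup G)) (hRT : R ≤ T) (hR : R.Normal) :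
    (xg E R hRT hR).Normal := by
  refine ⟨fun g hg a => ?_⟩
  rw [mem_xg] at hg ⊢
  have ha : IsMap (groupFusionSystem (S : Subgroup G)) R (fun x => a * x * a⁻¹) :=
    isMap_group (hRT.trans hTS) fun x hx => hTS (hRT (hR.conj_mem _ hx a))
  have hai : IsIso (groupFusionSystem (S : Subgroup G)) R R (fun x => a * x * a⁻¹) := by
    refine ha.isIso_of (fun x hx => hR.conj_mem _ hx a) fun y hy => ?_
    exact ⟨a⁻¹ * y * a⁻¹⁻¹, hR.conj_mem _ hy a⁻¹, by group⟩
  obtain ⟨k, hk, hk'⟩ := hI R R _ _ le_rfl hRT hg (fun x hx => hR.conj_mem _ hx g) ha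
  rw [hai.eq_img] at hk
  refine hk.congr fun y hy => ?_
  have h1 := hk' _ (hR.conj_mem _ hy a⁻¹)
  have h2 : a * (a⁻¹ * y * a⁻¹⁻¹) * a⁻¹ = y := by group
  rw [h2] at h1
  rw [h1]; group

end main

end H87.Strict
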