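import Cfsg.Agent.Lib.H87.PPr2
import Cfsg.Agent.Lib.H87.Crit5
import Cfsg.Agent.Lib.H87.Strict
import Cfsg.Agent.Lib.H86.FusSat
set_option autoImplicit false

open Cfsg Cfsg.FusionSystem

namespace H87.PPr
open H87.Base H87.Basic H87.Syl H87.Sat H87.Grow H87.Inv H87.Frat H87.Cut H87.PPow H87.Crit

variable {Ω : Type*} [Group Ω] {S T : Subgroup Ω} {F D E E₀ : FusionSystem S}
  {P Q R : Subgroup Ω} {f g h a b : Ω → Ω} {p : ℕ}

theorem IsCentric.sub (hE : E.IsSubsystemOf F) (h : F.IsCentric P) : E.IsCentric P := by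
  rw [isCentric_iff] at h ⊢
  exact ⟨h.1, fun Q f hf => h.2 Q f (isIso_of_sub hE hf)⟩

theorem receptive_of_centric [Fact p.Prime] [Finite S] (hS : IsPGroup p S) (hF : F.IsSaturated p)
    (hQ : F.IsCentric Q) : F.IsReceptive Q := by
  refine H86.FusSat.receptive_of_fullyCentralized hS hF ⟨hQ.1, fun Q' hQ' => ?_⟩
  obtain ⟨f, hf⟩ := isConj_iff.1 (isConj_symm hQ')
  have h1 := hQ.2 Q' hQ'
  refine H87.Bridge.card_le_of_map (hf.isMap.mono h1) inf_le_left fun x hx => ?_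
  rw [mem_centralizerIn]
  refine ⟨hf.isMap.mem (h1 hx), fun y hy => ?_⟩
  obtain ⟨z, hz, rfl⟩ := hf.surj hy
  rw [← hf.isMap.map_mul hz (h1 hx), ← hf.isMap.map_mul (h1 hx) hz, (mem_centralizerIn.1 hx).2 z hz]

/-- An automorphism of `S` whose restriction to a centric subgroup lies in a saturated `D ≤ F` is in `D`. -/
theorem ext_up [Fact p.Prime] [Finite S] (hS : IsPGroup p S) (hF : F.IsSaturated p) (hD : D.IsSaturated p)
    (hDF : D.IsSubsystemOf F) {α : MulAut S} (hα : α ∈ F.autGroup S) (hP : F.IsCentric P)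
    (hm : IsMap D P (fn α)) : α ∈ D.autGroup S := by
  obtain ⟨n, hn⟩ : ∃ n, Nat.card S - Nat.card P = n := ⟨_, rfl⟩
  induction n using Nat.strong_induction_on generalizing P with
  | _ n ih =>
  by_cases hPS : P = S
  · subst hPS
    exact mem_autGroup_of_isMap le_rfl hm fun x => (fn_coe α x).symm
  have hlt : P < S := lt_of_le_of_ne hP.1 hPS
  have hN := lt_normalizerIn hS hlt
  have hc : Nat.card P < Nat.card (normalizerIn S P) := card_lt' inf_le_left hN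
  have hc' : Nat.card (normalizerIn S P) ≤ Nat.card S :=
    Nat.card_le_card_of_injective _ (Subgroup.inclusion_injective inf_le_left)
  refine ih (Nat.card S - Nat.card (normalizerIn S P)) (by omega) (IsCentric.up hP hN.le inf_le_left) ?_ rfl
  have hQ : D.IsCentric (img P (fn α)) :=
    IsCentric.conj (IsCentric.sub hDF hP) hm.isIso.isConj
  obtain ⟨d, hd, hde⟩ := (isReceptive_iff.1 (receptive_of_centric hS hD hQ)).2 P _ hm.isIso
  have hαi := fn_iso (F := F) le_rfl hα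
  have hle : normalizerIn S P ≤ nphi S P (fn α) := by
    intro s hs
    rw [mem_nphi]
    exact ⟨hs.1, hs.2, fn α s, fn_mem α hs.1, fun x hx => hαi.isMap.map_conj hs.1 (hP.1 hx)⟩
  have hd' := hd.mono hle
  have hαinv := fn_iso (F := F) le_rfl (Subgroup.inv_mem _ hα)
  have hcomp : IsMap F (normalizerIn S P) (fn α⁻¹ ∘ d) :=
    (isMap_of_sub hDF hd').comp hαinv.isMap fun x hx => hd'.mem hx
  obtain ⟨z, hz, -, hzy⟩ := H87.Strict.exists_conj_of_eq_on' hS hF hP hN.le hcomp fun x hx => by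
    simp only [Function.comp_apply]
    rw [hde x hx, fn_inv_apply α (hP.1 hx)]
  have hzN : z ∈ normalizerIn S P := hN.le hz
  have h1 : IsMap D (normalizerIn S P) (d ∘ fun y => z⁻¹ * y * (z⁻¹)⁻¹) :=
    (isMap_conj D inf_le_left (Subgroup.inv_mem _ (hP.1 hz))).comp hd' fun y hy =>
      Subgroup.mul_mem _ (Subgroup.mul_mem _ (Subgroup.inv_mem _ hzN) hy) (Subgroup.inv_mem _ (Subgroup.inv_mem _ hzN))
  refine h1.congr fun y hy => ?_
  simp only [Function.comp_apply]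
  have hy' : z⁻¹ * y * (z⁻¹)⁻¹ ∈ normalizerIn S P :=
    Subgroup.mul_mem _ (Subgroup.mul_mem _ (Subgroup.inv_mem _ hzN) hy) (Subgroup.inv_mem _ (Subgroup.inv_mem _ hzN))
  have h2 := hzy _ hy'
  simp only [Function.comp_apply] at h2
  have h3 : z * (z⁻¹ * y * (z⁻¹)⁻¹) * z⁻¹ = y := by group
  rw [h3] at h2
  rw [← fn_apply_inv α (hd'.mem hy'), h2]

/-- The maps `β ∘ f₀`, `β ∈ A`, `f₀` a map of `E₀`. -/
def AMap (E₀ : FusionSystem S) (A : Subgroup (MulAut S)) (P : Subgroup Ω) (f : Ω → Ω) : Prop :=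
  ∃ β ∈ A, ∃ f₀, IsMap E₀ P f₀ ∧ ∀ x ∈ P, f x = fn β (f₀ x)

theorem exists_EA (hE₀ : E₀.IsSubsystemOf F) (hA₀ : AInv F E₀) {A : Subgroup (MulAut S)} (hA : A ≤ F.autGroup S) :
    ∃ E : FusionSystem S, ∀ P f, IsMap E P f ↔ AMap E₀ A P f := by
  have hAi : ∀ {β : MulAut S}, β ∈ A → IsIso F S S (fn β) := fun hβ => fn_iso le_rfl (hA hβ)
  obtain ⟨E, hE⟩ := exists_cut F le_rfl (AMap E₀ A)
    (fun P f g hP hf hfT e ⟨β, hβ, f₀, h0, e0⟩ => ⟨β, hβ, f₀, h0, fun x hx => by rw [← e x hx]; exact e0 x hx⟩)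
    (fun P hP t ht => ⟨1, A.one_mem, _, isMap_conj E₀ hP ht, fun x hx => by
      rw [fn_one (S.mul_mem (S.mul_mem ht (hP hx)) (S.inv_mem ht))]⟩)
    (by
      rintro P Q f g hP hQ hf hg hfQ hgT ⟨β, hβ, f₀, hf₀, e⟩ ⟨γ, hγ, g₀, hg₀, e'⟩
      obtain ⟨k, hk, hk'⟩ := hA₀ Q g₀ _ hg₀ (hAi (A.inv_mem hβ))
      have hf0 : ∀ x ∈ P, f₀ x = fn β⁻¹ (f x) := fun x hx => by
        rw [e x hx, fn_inv_apply β (hf₀.mem hx)]
      refine ⟨γ * β, A.mul_mem hγ hβ, k ∘ f₀, hf₀.comp hk fun x hx => ?_, fun x hx => ?_⟩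
      · rw [hf0 x hx]; exact apply_mem_img (hfQ x hx)
      · simp only [Function.comp_apply]
        have h1 : k (f₀ x) = fn β⁻¹ (g₀ (f x)) := by
          rw [hf0 x hx]; exact hk' _ (hfQ x hx)
        rw [h1, e' _ (hfQ x hx), fn_mul _ _ (fn_mem _ (hg₀.mem (hfQ x hx))), fn_apply_inv β (hg₀.mem (hfQ x hx))])
    (by
      rintro P Q f g hP hQ hf hg e1 e2 ⟨β, hβ, f₀, hf₀, e⟩
      obtain ⟨l, hl, l1, l2⟩ := hf₀.isIso.symm
      obtain ⟨k, hk, hk'⟩ := hA₀ _ l _ hl.isMap (hAi hβ)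
      refine ⟨β⁻¹, A.inv_mem hβ, k, hk.mono fun y hy => ?_, fun y hy => ?_⟩
      · obtain ⟨x, hx, rfl⟩ := hf.surj hy
        rw [e x hx]; exact apply_mem_img (apply_mem_img hx)
      · obtain ⟨x, hx, rfl⟩ := hf.surj hy
        rw [e1 x hx, e x hx, hk' _ (apply_mem_img hx), l1 x hx, fn_inv_apply β (hP hx)])
  refine ⟨E, fun P f => ?_⟩
  rw [hE]
  constructor
  · exact fun h => h.2.2.2
  · rintro ⟨β, hβ, f₀, hf₀, e⟩
    have h1 : IsMap F P f := ((isMap_of_sub hE₀ hf₀).comp (hAi hβ).isMap fun x hx => hf₀.mem hx).congr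
      fun x hx => (e x hx).symm
    exact ⟨h1, hf₀.le, fun x hx => h1.mem hx, β, hβ, f₀, hf₀, e⟩

theorem AMap.isMap (hE₀ : E₀.IsSubsystemOf F) {A : Subgroup (MulAut S)} (hA : A ≤ F.autGroup S)
    (h : AMap E₀ A P f) : IsMap F P f := by
  obtain ⟨β, hβ, f₀, hf₀, e⟩ := h
  exact ((isMap_of_sub hE₀ hf₀).comp (fn_iso (F := F) le_rfl (hA hβ)).isMap fun x hx => hf₀.mem hx).congr
    fun x hx => (e x hx).symm

/-- `E_A` is saturated of index prime to `p`. -/
theorem saturated_EA [Fact p.Prime] [Finite S] (hS : IsPGroup p S) (hF : F.IsSaturated p)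
    (hE₀ : E₀.IsSubsystemOf F) (hA₀ : AInv F E₀) (h0 : ∀ P, F.IsCentric P → HasP F E₀ p P)
    (hleast : ∀ E : FusionSystem S, E.IsSubsystemOf F → (∀ P, F.IsCentric P → HasP F E p P) → E₀.IsSubsystemOf E)
    {A : Subgroup (MulAut S)} (hA : A ≤ F.autGroup S)
    (hAc : ∀ α ∈ F.autGroup S, ∀ P, F.IsCentric P → IsMap E₀ P (fn α) → α ∈ A)
    (hE : ∀ P f, IsMap E P f ↔ AMap E₀ A P f) :
    E.IsSaturated p ∧ E.HasPrimeToPIndexIn F p ∧ E.autGroup S = A := by
  have hEF : E.IsSubsystemOf F := isSubsystemOf_iff.2 fun P f hf => AMap.isMap hE₀ hA ((hE P f).1 hf)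
  have hE₀E : E₀.IsSubsystemOf E := isSubsystemOf_iff.2 fun P f hf =>
    (hE P f).2 ⟨1, A.one_mem, f, hf, fun x hx => (fn_one (hf.mem hx)).symm⟩
  have hEP : ∀ P, F.IsCentric P → HasP F E p P := fun P hP α hα ho => autGroup_mono hE₀E P (h0 P hP α hα ho)
  obtain ⟨i1, i2, i3⟩ := index_prime hS hF hEF hEP
  have hAi : ∀ {β : MulAut S}, β ∈ A → IsIso F S S (fn β) := fun hβ => fn_iso le_rfl (hA hβ)
  have hScen : F.IsCentric S := by
    rw [isCentric_iff]
    refine ⟨le_rfl, fun Q f hf => ?_⟩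
    have h1 : Q = S := by
      refine le_antisymm hf.le' ?_
      have : Finite Q := finite_of_le hf.le'
      exact (Subgroup.eq_of_le_of_card_ge hf.le' hf.card_eq.le).ge
    rw [h1]; exact inf_le_left
  have hAaut : E.autGroup S = A := by
    ext α
    rw [mem_autGroup_iff le_rfl]
    show IsMap E S (fn α) ↔ _
    rw [hE]
    constructor
    · rintro ⟨β, hβ, f₀, hf₀, e⟩
      have hmem : IsMap F S (fn α) := AMap.isMap hE₀ hA ⟨β, hβ, f₀, hf₀, e⟩
      have hαF : α ∈ F.autGroup S := mem_autGroup_of_isMap le_rfl hmem fun x => (fn_coe α x).symm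
      have h2 : β⁻¹ * α ∈ A := by
        refine hAc _ (Subgroup.mul_mem _ (Subgroup.inv_mem _ (hA hβ)) hαF) S hScen (hf₀.congr fun x hx => ?_)
        rw [fn_mul _ _ hx, e x hx, fn_inv_apply β (hf₀.mem hx)]
      have := A.mul_mem hβ h2
      rwa [mul_inv_cancel_left] at this
    · intro hα
      exact ⟨α, hα, fun x => x, isMap_id E₀ le_rfl, fun _ _ => rfl⟩
  refine ⟨?_, hasPrimeToPIndexIn_iff.2 ⟨hEF, i1⟩, hAaut⟩
  refine H87.Crit.saturated_of_family hS {P | F.IsCentric P} ?_ ?_ ?_ ?_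
  · intro P hP Q hQ
    obtain ⟨k, hk⟩ := isConj_iff.1 hQ
    exact IsCentric.conj hP (isIso_of_sub hEF hk).isConj
  · intro P hP
    obtain ⟨Q, hPQ, hQ⟩ := exists_nice hF hP.1
    obtain ⟨χ, hχ⟩ := isConj_iff.1 hPQ
    obtain ⟨c, χ₀, hc, hχ₀, e⟩ := fg_all hS hF hE₀ hA₀ h0 P χ hχ.isMap
    have hQ₀P : F.IsConj P (img P χ₀) := (isIso_of_sub hE₀ hχ₀.isIso).isConj
    have hcQ : IsIso F (img P χ₀) Q c := by
      refine (hc.isMap.mono hχ₀.img_le).isIso_of (fun y hy => ?_) fun y hy => ?_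
      · obtain ⟨x, hx, rfl⟩ := (mem_img hχ₀).1 hy
        rw [← e x hx]; exact hχ.mem hx
      · obtain ⟨x, hx, rfl⟩ := hχ.surj hy
        exact ⟨χ₀ x, apply_mem_img hx, (e x hx).symm⟩
    have hfn : F.IsFullyNormalized (img P χ₀) := by
      refine ⟨hχ₀.img_le, fun R hR => ?_⟩
      have h1 : Nat.card (normalizerIn S R) ≤ Nat.card (normalizerIn S Q) :=
        (H87.Bridge.fn_of_nice hS hQ).2 R (isConj_trans (isConj_symm hcQ.isConj) hR)
      refine h1.trans ?_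
      obtain ⟨ci, hci, c1, c2⟩ := hc.symm
      have hciQ : IsIso F Q (img P χ₀) ci := by
        refine (hci.isMap.mono hcQ.le').isIso_of (fun y hy => ?_) fun y hy => ?_
        · obtain ⟨x, hx, rfl⟩ := hcQ.surj hy
          rw [c1 x (hcQ.le hx)]; exact hx
        · exact ⟨c y, hcQ.mem hy, c1 y (hcQ.le hy)⟩
      exact H87.Bridge.card_le_of_map (hci.isMap.mono inf_le_left) inf_le_left fun x hx =>
        H87.Bridge.map_mem_normalizerIn (hci.isMap.mono inf_le_left) hciQ hx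
    have hnice := H87.Bridge.nice_of_fn hS hF hfn
    refine ⟨img P χ₀, (isIso_of_sub hE₀E hχ₀.isIso).isConj, ?_, ?_⟩
    · obtain ⟨h1, h2⟩ := isFullyAutomized_iff.1 hnice.1
      rw [isFullyAutomized_iff]
      exact ⟨h1, h2.of_le (autInducedBy_le_autGroup E h1) (autGroup_mono hEF _)⟩
    · obtain ⟨h1, h2⟩ := isReceptive_iff.1 hnice.2
      rw [isReceptive_iff]
      refine ⟨h1, fun R f hf => ?_⟩
      have hfF := isIso_of_sub hEF hf
      obtain ⟨g, hg, hge⟩ := h2 R f hfF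
      obtain ⟨d, g₀, hd, hg₀, e2⟩ := fg_all hS hF hE₀ hA₀ h0 _ g hg
      obtain ⟨β, hβ, f₀, hf₀, e1⟩ := (hE R f).1 hf.isMap
      have hRle : R ≤ nphi S R f := le_nphi hfF.isMap
      have hRc : F.IsCentric R := IsCentric.conj hP
        (isConj_trans hQ₀P (isConj_symm hfF.isConj))
      -- β⁻¹ d on g₀(R)
      obtain ⟨γ, hγ, hγe⟩ : ∃ γ ∈ F.autGroup S, ∀ x ∈ S, fn γ x = d x := ⟨hd.aut, hd.aut_mem, fun x hx => fn_aut hd hx⟩
      have hg₀R := hg₀.mono hRle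
      obtain ⟨l, hl, l1, l2⟩ := hg₀R.isIso.symm
      have h3 : β⁻¹ * γ ∈ A := by
        refine hAc _ (Subgroup.mul_mem _ (Subgroup.inv_mem _ (hA hβ)) hγ) (img R g₀)
          (IsCentric.conj hRc (isIso_of_sub hE₀ hg₀R.isIso).isConj)
          ((hl.isMap.comp hf₀ fun y hy => hl.mem hy).congr fun y hy => ?_)
        obtain ⟨x, hx, rfl⟩ := (mem_img hg₀R).1 hy
        simp only [Function.comp_apply]
        rw [l1 x hx, fn_mul _ _ (hg₀R.mem hx), hγe _ (hg₀R.mem hx), ← e2 x (hRle hx), hge x hx, e1 x hx,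
          fn_inv_apply β (hf₀.mem hx)]
      have h4 : γ ∈ A := by
        have := A.mul_mem hβ h3
        rwa [mul_inv_cancel_left] at this
      refine ⟨g, (hE _ _).2 ⟨γ, h4, g₀, hg₀, fun x hx => ?_⟩, hge⟩
      rw [hγe _ (hg₀.mem hx)]; exact e2 x hx
  · intro E' hE'
    obtain ⟨J, hJ⟩ := exists_cut E le_rfl (fun P f => IsMap E' P f)
      (fun P f g hP hf hfT e h => h.congr e)
      (fun P hP t ht => isMap_conj E' hP ht)
      (fun P Q f g hP hQ hf hg hfQ hgT h1 h2 => h1.comp h2 hfQ)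
      (fun P Q f g hP hQ hf hg e1 e2 h => by
        obtain ⟨l, hl, l1, l2⟩ := h.isIso.symm
        rw [hf.eq_img] at hl
        refine hl.isMap.congr fun y hy => ?_
        obtain ⟨x, hx, rfl⟩ := hf.surj hy
        rw [l1 x hx, e1 x hx])
    have hJE : J.IsSubsystemOf E := isSubsystemOf_iff.2 fun P f hf => ((hJ P f).1 hf).1
    have hJF : J.IsSubsystemOf F := fun P => (hJE P).trans (hEF P)
    have hEE' : ∀ {P f}, F.IsCentric P → IsMap E P f → IsMap E' P f := by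
      intro P f hP hf
      obtain ⟨φ, hφ, e⟩ := hf
      exact ⟨φ, hE' P hP hφ, e⟩
    have hJP : ∀ P, F.IsCentric P → HasP F J p P := by
      intro P hP α hα ho
      have h1 := hEP P hP α hα ho
      have h2 := (isIso_of_mem_autGroup hP.1 h1).isMap
      exact mem_autGroup_of_isMap hP.1 ((hJ _ _).2 ⟨h2, h2.le, fun x hx => h2.mem hx, hEE' hP h2⟩)
        fun x => by rw [extFun_coe]; rfl
    have h1 := hleast J hJF hJP
    intro P φ hφ
    have h2 := (hE P _).1 (isMap_of_mem hφ)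
    obtain ⟨β, hβ, f₀, hf₀, e⟩ := h2
    have h3 : IsMap E' P f₀ := ((hJ P f₀).1 (isMap_of_sub h1 hf₀)).2.2.2
    have hβE : IsMap E S (fn β) := (hE _ _).2 ⟨β, hβ, fun x => x, isMap_id E₀ le_rfl, fun _ _ => rfl⟩
    have h4 : IsMap E' S (fn β) := hEE' hScen hβE
    exact mem_of_isMap (h3.comp h4 fun x hx => h3.mem hx) fun x => by
      have := e x x.2
      rw [extFun_coe] at this
      exact this
  · intro P hP hPn
    exact absurd ((i3 P).1 hP) hPn

end H87.PPr
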