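import Cfsg.Agent.Lib.H87.PPr3
set_option autoImplicit false

open Cfsg Cfsg.FusionSystem

namespace H87.PPr
open H87.Base H87.Basic H87.Syl H87.Sat H87.Grow H87.Inv H87.Frat H87.Cut H87.PPow H87.Crit

section
variable {Ω : Type*} [Group Ω] {S : Subgroup Ω} {F D E E₀ : FusionSystem S}
  {P Q R : Subgroup Ω} {f g h a b : Ω → Ω} {p : ℕ}

theorem exists_inter (E : FusionSystem S) (E' : FusionSystem S) :
    ∃ J : FusionSystem S, ∀ P f, IsMap J P f ↔ IsMap E P f ∧ IsMap E' P f := by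
  obtain ⟨J, hJ⟩ := exists_cut E le_rfl (fun P f => IsMap E' P f)
    (fun P f g hP hf hfT e h => h.congr e)
    (fun P hP t ht => isMap_conj E' hP ht)
    (fun P Q f g hP hQ hf hg hfQ hgT h1 h2 => h1.comp h2 hfQ)
    (fun P Q f g hP hQ hf hg e1 e2 h => by
      obtain ⟨l, hl, l1, l2⟩ := h.isIso.symm
      rw [hf.eq_img] at hl
      refine hl.isMap.congr fun y hy => ?_
      obtain ⟨x, hx, rfl⟩ := hf.surj hy
      rw [l1 x hx, e1 x hx])
  refine ⟨J, fun P f => ?_⟩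
  rw [hJ]
  exact ⟨fun h => ⟨h.1, h.2.2.2⟩, fun h => ⟨h.1, h.1.le, fun x hx => h.1.mem hx, h.2⟩⟩

/-- the least subsystem containing all `p`-elements of `Aut_F(P)`, `P` centric. -/
structure IsE0 (F : FusionSystem S) (p : ℕ) (E₀ : FusionSystem S) : Prop where
  sub : E₀.IsSubsystemOf F
  inv : AInv F E₀
  hasP : ∀ P, F.IsCentric P → HasP F E₀ p P
  least : ∀ E : FusionSystem S, E.IsSubsystemOf F → (∀ P, F.IsCentric P → HasP F E p P) → E₀.IsSubsystemOf E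

theorem exists_E0 [Finite S] (F : FusionSystem S) (p : ℕ) : ∃ E₀, IsE0 F p E₀ := by
  let Fam : FusionSystem S → Prop := fun E => E.IsSubsystemOf F ∧ AInv F E ∧ ∀ P, F.IsCentric P → HasP F E p P
  have hFF : Fam F := ⟨fun P => le_rfl, (sinv_self F).ainv, fun P _ α hα _ => hα⟩
  obtain ⟨E₀, hE₀⟩ := exists_cut F le_rfl (fun P f => ∀ E, Fam E → IsMap E P f)
    (fun P f g hP hf hfT e h E hE => (h E hE).congr e)
    (fun P hP t ht E hE => isMap_conj E hP ht)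
    (fun P Q f g hP hQ hf hg hfQ hgT h1 h2 E hE => (h1 E hE).comp (h2 E hE) hfQ)
    (fun P Q f g hP hQ hf hg e1 e2 h E hE => by
      obtain ⟨l, hl, l1, l2⟩ := (h E hE).isIso.symm
      rw [hf.eq_img] at hl
      refine hl.isMap.congr fun y hy => ?_
      obtain ⟨x, hx, rfl⟩ := hf.surj hy
      rw [l1 x hx, e1 x hx])
  have hE₀' : ∀ P f, IsMap E₀ P f ↔ ∀ E, Fam E → IsMap E P f := by
    intro P f
    rw [hE₀]
    exact ⟨fun h => h.2.2.2, fun h => ⟨h F hFF, (h F hFF).le, fun x hx => (h F hFF).mem hx, h⟩⟩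
  refine ⟨E₀, ?_, ?_, ?_, ?_⟩
  · rw [isSubsystemOf_iff]
    exact fun P f hf => (hE₀' P f).1 hf F hFF
  · intro P f a hf ha
    obtain ⟨g, hg, e⟩ := hFF.2.1 P f a ((hE₀' P f).1 hf F hFF) ha
    refine ⟨g, (hE₀' _ _).2 fun E hE => ?_, e⟩
    obtain ⟨k, hk, ek⟩ := hE.2.1 P f a ((hE₀' P f).1 hf E hE) ha
    refine hk.congr fun y hy => ?_
    obtain ⟨x, hx, rfl⟩ := (mem_img (ha.isMap.mono hf.le)).1 hy
    rw [ek x hx, e x hx]
  · intro P hP α hα ho
    refine mem_autGroup_of_isMap (f := extFun (P.subtype.comp α.toMonoidHom)) hP.1 ?_ fun x => by rw [extFun_coe]; rfl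
    rw [hE₀']
    exact fun E hE => (isIso_of_mem_autGroup hP.1 (hE.2.2 P hP α hα ho)).isMap
  · intro E hEF hE
    obtain ⟨E₁, hE₁, hA₁⟩ := exists_inv_core hEF
    have h1 : E₁.IsSubsystemOf E := isSubsystemOf_iff.2 fun P f hf => ((hE₁ P f).1 hf).1
    have h2 : Fam E₁ := ⟨fun P => (h1 P).trans (hEF P), hA₁, fun P hP => HasP.of_core hE₁ hE hP⟩
    rw [isSubsystemOf_iff]
    exact fun P f hf => ((hE₁ P f).1 ((hE₀' P f).1 hf E₁ h2)).1

/-- the group `Aut⁰_F(S)`. -/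
def A0 (F E₀ : FusionSystem S) : Subgroup (MulAut S) :=
  Subgroup.closure {α | α ∈ F.autGroup S ∧ ∃ P, F.IsCentric P ∧ IsMap E₀ P (fn α)}

theorem A0_le : A0 F E₀ ≤ F.autGroup S := (Subgroup.closure_le _).2 fun _ h => h.1

theorem exists_residual [Fact p.Prime] [Finite S] (hS : IsPGroup p S) (hF : F.IsSaturated p) (hE₀ : IsE0 F p E₀) :
    ∃ E, F.IsPPrimeResidual p E ∧ E.autGroup S = A0 F E₀ ∧ (∀ P f, IsMap E P f ↔ AMap E₀ (A0 F E₀) P f) := by
  obtain ⟨E, hE⟩ := exists_EA hE₀.sub hE₀.inv (A0_le (F := F) (E₀ := E₀))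
  obtain ⟨h1, h2, h3⟩ := saturated_EA hS hF hE₀.sub hE₀.inv hE₀.hasP hE₀.least A0_le
    (fun α hα P hP hm => Subgroup.subset_closure ⟨hα, P, hP, hm⟩) hE
  refine ⟨E, ⟨h1, h2, fun D hDs hD => ?_⟩, h3, hE⟩
  obtain ⟨hDF, hDP⟩ := hasPrimeToPIndexIn_iff.1 hD
  have hE₀D := hE₀.least D hDF fun P hP => hDP P hP.1
  have hAD : A0 F E₀ ≤ D.autGroup S := (Subgroup.closure_le _).2 fun α ⟨hα, P, hP, hm⟩ =>
    ext_up hS hF hDs hDF hα hP (isMap_of_sub hE₀D hm)
  rw [isSubsystemOf_iff]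
  intro P f hf
  obtain ⟨β, hβ, f₀, hf₀, e⟩ := (hE P f).1 hf
  exact ((isMap_of_sub hE₀D hf₀).comp (fn_iso (F := D) le_rfl (hAD hβ)).isMap fun x hx => hf₀.mem hx).congr
    fun x hx => (e x hx).symm

theorem residual_unique (hD : F.IsPPrimeResidual p D) (hE : F.IsPPrimeResidual p E) :
    ∀ P f, IsMap D P f ↔ IsMap E P f := fun P f =>
  ⟨fun h => isMap_of_sub (hD.2.2 E hE.1 hE.2.1) h, fun h => isMap_of_sub (hE.2.2 D hD.1 hD.2.1) h⟩

theorem residual_spec [Fact p.Prime] [Finite S] (hS : IsPGroup p S) (hF : F.IsSaturated p) (hE₀ : IsE0 F p E₀)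
    (hD : F.IsPPrimeResidual p D) : ∀ P f, IsMap D P f ↔ AMap E₀ (A0 F E₀) P f := by
  obtain ⟨E, hE, -, h⟩ := exists_residual hS hF hE₀
  exact fun P f => (residual_unique hD hE P f).trans (h P f)

end

section
variable {Ω : Type*} [Group Ω] {S T : Subgroup Ω} {F : FusionSystem S} {E D : FusionSystem T}
  {P Q R : Subgroup Ω} {f g h a b : Ω → Ω} {p : ℕ}

/-- `p`-elements of `Aut_E(P)` lie in `Aut_D(P)` when `E` and `D` are weakly normal over the same `T`. -/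
theorem hasP_of_weaklyNormal [Fact p.Prime] [Finite S] (hS : IsPGroup p S)
    (hE : E.IsWeaklyNormalIn F p) (hD : D.IsWeaklyNormalIn F p) (hP : P ≤ T) : HasP E D p P := by
  rintro α hα ⟨k, hk⟩
  have hTS : T ≤ S := le_of_isSubsystemOf hE.2.2.1
  have hTfin : Finite T := finite_of_le hTS
  have hTp : IsPGroup p T := hS.to_le hTS
  obtain ⟨Q, hPQ, hQ⟩ := exists_nice hE.2.1 (hP.trans hTS)
  have hQT : Q ≤ T := conj_le_of_stronglyClosed hE.2.2.2.1 hPQ hP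
  have hQfin : Finite Q := finite_of_le hQT
  have hfin : Finite (MulAut Q) := finite_mulAut
  have hQE := H87.Bridge.nice_of_fn hTp hE.1 (H87.Bridge.fn_sub hS hE.2.1 hE.2.2.1 hE.2.2.2.1 hQT
    (H87.Bridge.fn_of_nice hS hQ))
  obtain ⟨χ, hχ⟩ := isConj_iff.1 hPQ
  obtain ⟨χi, hχi, i1, i2⟩ := hχ.symm
  have hIE := sinv_of_invariant hE.2.2
  have hID := sinv_of_invariant hD.2.2
  have hαi := isIso_of_mem_autGroup hP hα
  obtain ⟨g, hg, hg'⟩ := hIE P P _ χ le_rfl hP hαi.isMap (fun _ hx => hαi.mem hx) hχ.isMap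
  rw [hχ.eq_img] at hg
  have h1 : IsIso.congrAut hχ α ∈ E.autGroup Q := by
    refine mem_autGroup_of_isMap hQT hg fun y => ?_
    obtain ⟨x, hx, e⟩ := hχ.surj y.2
    have h3 := hg' x hx
    have h5 : y = ⟨χ x, hχ.mem hx⟩ := Subtype.ext e.symm
    rw [h5, IsIso.congrAut_apply hχ α hx]
    show _ = g (χ x)
    rw [h3, extFun_apply _ hx]
    rfl
  have ho : orderOf (IsIso.congrAut hχ α) = p ^ k := by rw [← hk]; exact (IsIso.congrAut hχ).orderOf_eq α
  have h2 : IsIso.congrAut hχ α ∈ D.autGroup Q := by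
    have hsyl := (isFullyAutomized_iff.1 hQE.1).2
    have hpg : IsPGroup p (Subgroup.zpowers (IsIso.congrAut hχ α)) := by
      rw [IsPGroup.iff_card]
      exact ⟨k, by rw [Nat.card_zpowers, ho]⟩
    obtain ⟨β, hβ, hc⟩ := hsyl.conj (Subgroup.zpowers_le.2 h1) hpg
    have h3 := autInducedBy_le_autGroup D hQT (hc _ (Subgroup.mem_zpowers _))
    have h4 := hID.aut_normal hTS hD.2.2.1 hQT β⁻¹ (Subgroup.inv_mem _ (autGroup_mono hE.2.2.1 Q hβ)) _ h3
    have h5 : β⁻¹ * (β * (IsIso.congrAut hχ) α * β⁻¹) * β⁻¹⁻¹ = (IsIso.congrAut hχ) α := by group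
    rwa [h5] at h4
  have hki := isIso_of_mem_autGroup hQT h2
  obtain ⟨l, hl, hl'⟩ := hID Q Q _ χi le_rfl hQT hki.isMap (fun _ hx => hki.mem hx) hχi.isMap
  rw [hχi.eq_img] at hl
  refine mem_autGroup_of_isMap hP hl fun x => ?_
  have h1 := hl' (χ x) (hχ.mem x.2)
  rw [i1 x x.2] at h1
  rw [h1, extFun_apply _ (hχ.mem x.2)]
  show _ = χi ((IsIso.congrAut hχ α ⟨χ x, _⟩ : Q) : Ω)
  rw [IsIso.congrAut_apply hχ α x.2, i1 _ (α _).2]

/-- conjugating a map of `D` by an element `α` of `Aut_F(T)`. -/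
theorem AInv.conj_map (hA : AInv F D) (hTS : T ≤ S) {α : MulAut T} (hα : α ∈ F.autGroup T) (hf : IsMap D P f) :
    ∃ g, IsMap D (img P (fn α)) g ∧ ∀ x ∈ P, g (fn α x) = fn α (f x) := hA P f _ hf (fn_iso hTS hα)

theorem fn_pow_succ {U : Subgroup Ω} (α : MulAut U) (m : ℕ) {x : Ω} (hx : x ∈ U) :
    fn (α ^ (m + 1)) x = fn α (fn (α ^ m) x) := by
  rw [pow_succ', fn_mul _ _ hx]

/-- Lemma Γ. -/
theorem gam [Fact p.Prime] [Finite S] (hS : IsPGroup p S) (hD : D.IsWeaklyNormalIn F p)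
    {A : Subgroup (MulAut T)} (hA : A ≤ F.autGroup T) (hroot : ∀ α ∈ A, ∀ k : ℕ, α ^ p ^ k ∈ D.autGroup T →
      α ∈ D.autGroup T) :
    ∀ P, D.IsCentric P → ∀ α ∈ A, IsMap D P (fn α) → α ∈ D.autGroup T := by
  have hTS : T ≤ S := le_of_isSubsystemOf hD.2.2.1
  have hTfin : Finite T := finite_of_le hTS
  have hTp : IsPGroup p T := hS.to_le hTS
  have hID := (sinv_of_invariant hD.2.2).ainv
  intro P hP
  obtain ⟨n, hn⟩ : ∃ n, Nat.card T - Nat.card P = n := ⟨_, rfl⟩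
  induction n using Nat.strong_induction_on generalizing P with
  | _ n ih =>
  intro α hα hm
  by_cases hPT : P = T
  · subst hPT
    exact mem_autGroup_of_isMap le_rfl hm fun x => (fn_coe α x).symm
  have hlt : P < T := lt_of_le_of_ne hP.1 hPT
  -- pass to a nice conjugate P₀
  obtain ⟨P₀, hPP₀, hP₀⟩ := exists_nice hD.1 hP.1
  have hP₀T : P₀ ≤ T := hP₀.1.1
  have hcard := conj_card hPP₀
  have hP₀c : D.IsCentric P₀ := IsCentric.conj hP hPP₀
  have hm₀ : IsMap D P₀ (fn α) := by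
    obtain ⟨ξ, hξ⟩ := isConj_iff.1 hPP₀
    obtain ⟨ξi, hξi, i1, i2⟩ := hξ.symm
    obtain ⟨g, hg, hg'⟩ := AInv.conj_map hID hTS (hA hα) hξ.isMap
    have h1 : IsMap D P₀ (fun y => g (fn α (ξi y))) :=
      (hξi.isMap.comp hm fun y hy => hξi.mem hy).comp hg fun y hy => apply_mem_img (hξi.mem hy)
    refine h1.congr fun y hy => ?_
    show g (fn α (ξi y)) = fn α y
    rw [hg' _ (hξi.mem hy), i2 y hy]
  have hlt₀ : P₀ < T := lt_of_le_of_ne hP₀T fun e => by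
    have h1 := card_lt' hTS hlt
    rw [hcard, e] at h1
    exact lt_irrefl _ h1
  have hNlt := lt_normalizerIn hTp hlt₀
  have hNT : normalizerIn T P₀ ≤ T := inf_le_left
  have hNc : D.IsCentric (normalizerIn T P₀) := IsCentric.up hP₀c hNlt.le hNT
  -- Q = α(P₀)
  have hαiso : IsIso F T T (fn α) := fn_iso hTS (hA hα)
  obtain ⟨ξ, hξ, hξi⟩ := hP₀.exists_map_normalizer hTp (isConj_symm hm₀.isIso.isConj)
  have hαN : ∀ x ∈ normalizerIn T P₀, fn α x ∈ normalizerIn T (img P₀ (fn α)) := by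
    intro x hx
    refine ⟨fn_mem α hx.1, ?_⟩
    have : Finite (img P₀ (fn α)) := finite_of_le (hm₀.img_le.trans hTS)
    refine mem_normalizer_iff_of_finite.2 fun y hy => ?_
    obtain ⟨z, hz, rfl⟩ := (mem_img hm₀).1 hy
    rw [← hαiso.isMap.map_conj hx.1 (hP₀T hz)]
    exact apply_mem_img (conj_mem_of_mem_normalizer hx.2 hz)
  -- κ₁ = ξ α
  have hξF := isMap_of_sub hD.2.2.1 hξ
  have hαNmap : IsMap F (normalizerIn T P₀) (fn α) := hαiso.isMap.mono hNT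
  have hκ₁ : IsMap F (normalizerIn T P₀) (ξ ∘ fn α) := hαNmap.comp hξF hαN
  have hκ₁N : ∀ x ∈ normalizerIn T P₀, (ξ ∘ fn α) x ∈ normalizerIn T P₀ := fun x hx =>
    H87.Bridge.map_mem_normalizerIn hξ hξi (hαN x hx)
  have hκ₁i : IsIso F (normalizerIn T P₀) (normalizerIn T P₀) (ξ ∘ fn α) := H87.ConstrEq.isIso_of_self hκ₁ hκ₁N
  have hκ₁P : IsIso D P₀ P₀ (ξ ∘ fn α) := hm₀.isIso.comp hξi
  obtain ⟨δ, hδ, hδe⟩ := (isReceptive_iff.1 hP₀.2).2 _ _ hκ₁P
  have hNle : normalizerIn T P₀ ≤ nphi T P₀ (ξ ∘ fn α) := by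
    intro s hs
    rw [mem_nphi]
    refine ⟨hs.1, hs.2, (ξ ∘ fn α) s, (hκ₁N s hs).1, fun x hx => ?_⟩
    exact hκ₁.map_conj hs (hNlt.le hx)
  have hδN := hδ.mono hNle
  have hδNN : ∀ x ∈ normalizerIn T P₀, δ x ∈ normalizerIn T P₀ := by
    have h1 : IsIso D P₀ P₀ δ := hκ₁P.congr fun x hx => (hδe x hx).symm
    exact fun x hx => H87.Bridge.map_mem_normalizerIn hδN h1 hx
  have hδi : IsIso D (normalizerIn T P₀) (normalizerIn T P₀) δ := H87.ConstrEq.isIso_of_self hδN hδNN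
  obtain ⟨δi, hδi', d1, d2⟩ := hδi.symm
  -- κ₀ = δ⁻¹ ξ α
  set κ : Ω → Ω := fun x => δi (ξ (fn α x)) with hκdef
  have hκF : IsMap F (normalizerIn T P₀) κ := hκ₁.comp (isMap_of_sub hD.2.2.1 hδi'.isMap) hκ₁N
  have hκN : ∀ x ∈ normalizerIn T P₀, κ x ∈ normalizerIn T P₀ := fun x hx => hδi'.mem (hκ₁N x hx)
  have hκP : ∀ x ∈ P₀, κ x = x := by
    intro x hx
    have h1 : δ x = ξ (fn α x) := hδe x hx
    rw [hκdef]
    show δi (ξ (fn α x)) = x
    rw [← h1, d1 x (hNlt.le hx)]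
  have hκz : ∀ x ∈ normalizerIn T P₀, x⁻¹ * κ x ∈ P₀ := by
    intro x hx
    apply hP₀c.2 P₀ (isConj_refl D hP₀T)
    rw [mem_centralizerIn]
    refine ⟨T.mul_mem (T.inv_mem hx.1) (hκN x hx).1, fun y hy => ?_⟩
    have h1 : κ (x * y * x⁻¹) = x * y * x⁻¹ := hκP _ (conj_mem_of_mem_normalizer hx.2 hy)
    rw [hκF.map_conj hx (hNlt.le hy), hκP y hy] at h1
    -- κ x y κ x⁻¹ = x y x⁻¹
    calc y * (x⁻¹ * κ x) = x⁻¹ * (x * y * x⁻¹) * κ x := by group
      _ = x⁻¹ * (κ x * y * (κ x)⁻¹) * κ x := by rw [h1]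
      _ = x⁻¹ * κ x * y := by group
  have hκpow : ∀ m : ℕ, ∀ x ∈ normalizerIn T P₀, κ^[m] x = x * (x⁻¹ * κ x) ^ m := by
    intro m
    induction m with
    | zero => intro x _; simp
    | succ m ihm =>
      intro x hx
      rw [Function.iterate_succ_apply', ihm x hx]
      have hz := hκz x hx
      have hz' := pow_mem hz m
      rw [hκF.map_mul hx (hNlt.le hz'), hκP _ hz', pow_succ', ← mul_assoc, ← mul_assoc, mul_inv_cancel, one_mul]
  have hP₀fin : Finite P₀ := finite_of_le hP₀T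
  obtain ⟨k, hk⟩ : ∃ k, Nat.card P₀ = p ^ k := (IsPGroup.iff_card.1 (hTp.to_le hP₀T))
  have hκ1 : ∀ x ∈ normalizerIn T P₀, κ^[p ^ k] x = x := by
    intro x hx
    rw [hκpow _ x hx, ← hk]
    have : (⟨x⁻¹ * κ x, hκz x hx⟩ : P₀) ^ Nat.card P₀ = 1 := pow_card_eq_one'
    have h2 := congrArg (fun z : P₀ => (z : Ω)) this
    simp only [Subgroup.coe_pow, Subgroup.coe_one] at h2
    rw [h2, mul_one]
  -- κ^m = d_m α^m
  have hpow : ∀ m : ℕ, ∃ d, IsMap D (img (normalizerIn T P₀) (fn (α ^ m))) d ∧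
      ∀ x ∈ normalizerIn T P₀, d (fn (α ^ m) x) = κ^[m] x := by
    intro m
    induction m with
    | zero =>
      refine ⟨fun x => x, isMap_id D ?_, fun x hx => ?_⟩
      · intro y hy
        obtain ⟨x, hx, rfl⟩ := (mem_img ((fn_iso (F := F) hTS (hA (A.pow_mem hα 0))).isMap.mono hNT)).1 hy
        exact fn_mem _ (hNT hx)
      · rw [pow_zero, fn_one (hNT hx)]; rfl
    | succ m ihm =>
      obtain ⟨d, hd, hde⟩ := ihm
      obtain ⟨g, hg, hge⟩ := AInv.conj_map hID hTS (hA hα) hd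
      have hαm : IsMap F (normalizerIn T P₀) (fn (α ^ m)) :=
        (fn_iso (F := F) hTS (hA (A.pow_mem hα m))).isMap.mono hNT
      have hαm1 : IsMap F (normalizerIn T P₀) (fn (α ^ (m + 1))) :=
        (fn_iso (F := F) hTS (hA (A.pow_mem hα (m + 1)))).isMap.mono hNT
      have himg : img (normalizerIn T P₀) (fn (α ^ (m + 1))) ≤ img (img (normalizerIn T P₀) (fn (α ^ m))) (fn α) := by
        intro y hy
        obtain ⟨x, hx, rfl⟩ := (mem_img hαm1).1 hy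
        rw [fn_pow_succ α m (hNT hx)]
        exact apply_mem_img (apply_mem_img hx)
      have hgval : ∀ x ∈ normalizerIn T P₀, g (fn (α ^ (m + 1)) x) = fn α (κ^[m] x) := by
        intro x hx
        rw [fn_pow_succ α m (hNT hx), hge _ (apply_mem_img hx), hde x hx]
      have hκmN : ∀ x ∈ normalizerIn T P₀, κ^[m] x ∈ normalizerIn T P₀ := by
        intro x hx
        rw [hκpow m x hx]
        exact Subgroup.mul_mem _ hx (hNlt.le (pow_mem (hκz x hx) m))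
      refine ⟨fun y => δi (ξ (g y)), ?_, fun x hx => ?_⟩
      · refine ((hg.mono himg).comp hξ fun y hy => ?_).comp hδi'.isMap fun y hy => ?_
        · obtain ⟨x, hx, rfl⟩ := (mem_img hαm1).1 hy
          rw [hgval x hx]
          exact hαN _ (hκmN x hx)
        · obtain ⟨x, hx, rfl⟩ := (mem_img hαm1).1 hy
          simp only [Function.comp_apply]
          rw [hgval x hx]
          exact hκ₁N _ (hκmN x hx)
      · show δi (ξ (g (fn (α ^ (m + 1)) x))) = _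
        rw [hgval x hx, Function.iterate_succ_apply']
  obtain ⟨d, hd, hde⟩ := hpow (p ^ k)
  have hαm : IsMap F (normalizerIn T P₀) (fn (α ^ p ^ k)) :=
    (fn_iso (F := F) hTS (hA (A.pow_mem hα _))).isMap.mono hNT
  have hres : IsMap D (normalizerIn T P₀) (fn (α ^ p ^ k)) := by
    obtain ⟨di, hdi, e1, e2⟩ := hd.isIso.symm
    refine (hdi.isMap.mono fun x hx => ?_).congr fun x hx => ?_
    · rw [← hκ1 x hx, ← hde x hx]
      exact apply_mem_img (apply_mem_img hx)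
    · have h1 := hde x hx
      rw [hκ1 x hx] at h1
      have h2 := e1 _ (apply_mem_img (f := fn (α ^ p ^ k)) hx)
      rw [h1] at h2
      exact h2
  have hc1 : Nat.card P₀ < Nat.card (normalizerIn T P₀) := card_lt' (hNT.trans hTS) hNlt
  have hc2 : Nat.card (normalizerIn T P₀) ≤ Nat.card T :=
    Nat.card_le_card_of_injective _ (Subgroup.inclusion_injective hNT)
  exact hroot α hα k (ih (Nat.card T - Nat.card (normalizerIn T P₀)) (by omega) _ hNc rfl _ (A.pow_mem hα _) hres)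

/-- S5142 -/
theorem residual_le [Fact p.Prime] [Finite S] (hS : IsPGroup p S) (hE : E.IsWeaklyNormalIn F p)
    {D' : FusionSystem T} (hD' : D'.IsWeaklyNormalIn F p) (hD : E.IsPPrimeResidual p D) : D.IsSubsystemOf D' := by
  have hTS : T ≤ S := le_of_isSubsystemOf hE.2.2.1
  have hTfin : Finite T := finite_of_le hTS
  have hTp : IsPGroup p T := hS.to_le hTS
  obtain ⟨E₀, hE₀⟩ := exists_E0 E p
  have hspec := residual_spec hTp hE.1 hE₀ hD
  have hP' : ∀ P, P ≤ T → HasP E D' p P := fun P hP => hasP_of_weaklyNormal hS hE hD' hP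
  obtain ⟨J, hJ⟩ := exists_inter E D'
  have hJE : J.IsSubsystemOf E := isSubsystemOf_iff.2 fun P f hf => ((hJ P f).1 hf).1
  have hE₀J := hE₀.least J hJE fun P hP α hα ho => by
    have h1 := (isIso_of_mem_autGroup hP.1 hα).isMap
    have h2 := (isIso_of_mem_autGroup hP.1 (hP' P hP.1 α hα ho)).isMap
    exact mem_autGroup_of_isMap hP.1 ((hJ _ _).2 ⟨h1, h2⟩) fun x => by rw [extFun_coe]; rfl
  have hE₀D' : ∀ {P f}, IsMap E₀ P f → IsMap D' P f := fun hf => ((hJ _ _).1 (isMap_of_sub hE₀J hf)).2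
  -- centric subgroups of E and of D' agree
  have hcen : ∀ P, E.IsCentric P → D'.IsCentric P := by
    intro P hP
    refine ⟨hP.1, fun Q hQ => ?_⟩
    obtain ⟨f, hf⟩ := isConj_iff.1 hQ
    -- f = a ∘ e
    obtain ⟨-, -, -, hFr⟩ := isInvariantIn_iff.1 hE.2.2
    obtain ⟨a, e, ha, he, h1⟩ := hFr P f hP.1 (isMap_of_sub hD'.2.2.1 hf.isMap)
    obtain ⟨ai, hai, a1, a2⟩ := ha.symm
    have h2 := hP.2 _ he.isIso.isConj
    intro y hy
    have hy' := mem_centralizerIn.1 hy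
    have h3 : ai y ∈ centralizerIn T (img P e) := by
      rw [mem_centralizerIn]
      refine ⟨hai.mem hy'.1, fun z hz => ?_⟩
      obtain ⟨x, hx, rfl⟩ := (mem_img he).1 hz
      have h4 : e x = ai (f x) := by rw [h1 x hx, a1 _ (he.mem hx)]
      rw [h4, ← hai.isMap.map_mul (hf.isMap.mem hx) hy'.1, ← hai.isMap.map_mul hy'.1 (hf.isMap.mem hx),
        hy'.2 _ (hf.mem hx)]
    obtain ⟨x, hx, e1⟩ := (mem_img he).1 (h2 h3)
    have h6 : y = f x := by rw [h1 x hx, e1, a2 y hy'.1]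
    rw [h6]; exact hf.mem hx
  have hroot : ∀ α ∈ E.autGroup T, ∀ k : ℕ, α ^ p ^ k ∈ D'.autGroup T → α ∈ D'.autGroup T := by
    intro α hα k hk
    have hfin : Finite (MulAut T) := finite_mulAut
    obtain ⟨j, r, hr, hjr⟩ := Nat.exists_eq_pow_mul_and_not_dvd (orderOf_pos α).ne' p (Fact.out : p.Prime).ne_one
    have hcop : IsCoprime (r : ℤ) ((p ^ k : ℕ) : ℤ) := Nat.isCoprime_iff_coprime.2
      (Nat.Coprime.pow_right _ ((Nat.Prime.coprime_iff_not_dvd Fact.out).2 hr).symm)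
    obtain ⟨u, v, huv⟩ := hcop
    have h1 : α ^ r ∈ D'.autGroup T := by
      refine hP' T le_rfl _ (Subgroup.pow_mem _ hα r) ?_
      have h2 : orderOf (α ^ r) ∣ p ^ j := by
        rw [orderOf_dvd_iff_pow_eq_one, ← pow_mul, mul_comm, ← hjr, pow_orderOf_eq_one]
      obtain ⟨i, -, hi⟩ := (Nat.dvd_prime_pow Fact.out).1 h2
      exact ⟨i, hi⟩
    have h2 : α = (α ^ r) ^ u * (α ^ p ^ k) ^ v := by
      rw [← zpow_natCast α r, ← zpow_natCast α (p ^ k), ← zpow_mul, ← zpow_mul, ← zpow_add, mul_comm (r : ℤ) u,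
        mul_comm ((p ^ k : ℕ) : ℤ) v, huv, zpow_one]
    rw [h2]
    exact Subgroup.mul_mem _ (Subgroup.zpow_mem _ h1 u) (Subgroup.zpow_mem _ hk v)
  have hAle : A0 E E₀ ≤ D'.autGroup T := (Subgroup.closure_le _).2 fun α ⟨hα, P, hP, hm⟩ =>
    gam hS hD' (autGroup_mono hE.2.2.1 T) hroot P (hcen P hP) α hα (hE₀D' hm)
  rw [isSubsystemOf_iff]
  intro P f hf
  obtain ⟨β, hβ, f₀, hf₀, e⟩ := (hspec P f).1 hf
  exact ((hE₀D' hf₀).comp (fn_iso (F := D') le_rfl (hAle hβ)).isMap fun x hx => hf₀.mem hx).congr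
    fun x hx => (e x hx).symm

end

end H87.PPr
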