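import Cfsg.Prelude.Def_FusionComponents
import Cfsg.Agent.Lib.H87.Sat
set_option autoImplicit false

open Cfsg Cfsg.FusionSystem

namespace H87.Prod
open H87.Base H87.Basic H87.Syl H87.Sat

variable {Ω₁ Ω₂ : Type*} [Group Ω₁] [Group Ω₂] {S₁ : Subgroup Ω₁} {S₂ : Subgroup Ω₂} {F₁ : FusionSystem S₁}
  {F₂ : FusionSystem S₂} {E : FusionSystem (S₁.prod S₂)} {P Q R : Subgroup (Ω₁ × Ω₂)} {p : ℕ}
  {f g : Ω₁ × Ω₂ → Ω₁ × Ω₂} {f₁ g₁ : Ω₁ → Ω₁} {f₂ g₂ : Ω₂ → Ω₂}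

/-- first projection of a subgroup -/
def pr₁ (P : Subgroup (Ω₁ × Ω₂)) : Subgroup Ω₁ := P.map (MonoidHom.fst Ω₁ Ω₂)
/-- second projection of a subgroup -/
def pr₂ (P : Subgroup (Ω₁ × Ω₂)) : Subgroup Ω₂ := P.map (MonoidHom.snd Ω₁ Ω₂)

theorem mem_pr₁ {x : Ω₁} : x ∈ pr₁ P ↔ ∃ z ∈ P, z.1 = x := Iff.rfl
theorem mem_pr₂ {x : Ω₂} : x ∈ pr₂ P ↔ ∃ z ∈ P, z.2 = x := Iff.rfl
theorem fst_mem {z : Ω₁ × Ω₂} (h : z ∈ P) : z.1 ∈ pr₁ P := ⟨z, h, rfl⟩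
theorem snd_mem {z : Ω₁ × Ω₂} (h : z ∈ P) : z.2 ∈ pr₂ P := ⟨z, h, rfl⟩

/-- the maps of the product system -/
def IsPMap (F₁ : FusionSystem S₁) (F₂ : FusionSystem S₂) (P : Subgroup (Ω₁ × Ω₂)) (f : Ω₁ × Ω₂ → Ω₁ × Ω₂) : Prop :=
  ∃ f₁ f₂, IsMap F₁ (pr₁ P) f₁ ∧ IsMap F₂ (pr₂ P) f₂ ∧ ∀ x ∈ P, f x = (f₁ x.1, f₂ x.2)

/-- A function which is a homomorphism on `P` gives a homomorphism on `P`. -/
def homOf {Ω : Type*} [Group Ω] {P : Subgroup Ω} (f : Ω → Ω) (h : ∀ x ∈ P, ∀ y ∈ P, f (x * y) = f x * f y) :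
    P →* Ω :=
  MonoidHom.mk' (fun x => f x) (fun x y => h x x.2 y y.2)

theorem le_prod_of (h1 : pr₁ P ≤ S₁) (h2 : pr₂ P ≤ S₂) : P ≤ S₁.prod S₂ := fun _ hz =>
  Subgroup.mem_prod.2 ⟨h1 (fst_mem hz), h2 (snd_mem hz)⟩

theorem pr₁_le (h : P ≤ S₁.prod S₂) : pr₁ P ≤ S₁ := by
  rintro _ ⟨z, hz, rfl⟩; exact (Subgroup.mem_prod.1 (h hz)).1

theorem pr₂_le (h : P ≤ S₁.prod S₂) : pr₂ P ≤ S₂ := by
  rintro _ ⟨z, hz, rfl⟩; exact (Subgroup.mem_prod.1 (h hz)).2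

theorem pmap_mul (h : IsPMap F₁ F₂ P f) : ∀ x ∈ P, ∀ y ∈ P, f (x * y) = f x * f y := by
  obtain ⟨f₁, f₂, h1, h2, h3⟩ := h
  intro x hx y hy
  rw [h3 _ (P.mul_mem hx hy), h3 x hx, h3 y hy]
  exact Prod.ext (h1.map_mul (fst_mem hx) (fst_mem hy)) (h2.map_mul (snd_mem hx) (snd_mem hy))

theorem isProductSystem_iff : IsProductSystem F₁ F₂ E ↔ ∀ P f, IsMap E P f ↔ IsPMap F₁ F₂ P f := by
  have key : ∀ (P : Subgroup (Ω₁ × Ω₂)) (φ : P →* Ω₁ × Ω₂) (f : Ω₁ × Ω₂ → Ω₁ × Ω₂), (∀ x : P, φ x = f x) →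
      ((P ≤ S₁.prod S₂ ∧
        ∃ φ₁ ∈ F₁.Hom (P.map (MonoidHom.fst Ω₁ Ω₂)), ∃ φ₂ ∈ F₂.Hom (P.map (MonoidHom.snd Ω₁ Ω₂)),
        ∀ (x : P) (h₁ : (x : Ω₁ × Ω₂).1 ∈ P.map (MonoidHom.fst Ω₁ Ω₂))
          (h₂ : (x : Ω₁ × Ω₂).2 ∈ P.map (MonoidHom.snd Ω₁ Ω₂)),
          φ x = (φ₁ ⟨(x : Ω₁ × Ω₂).1, h₁⟩, φ₂ ⟨(x : Ω₁ × Ω₂).2, h₂⟩)) ↔ IsPMap F₁ F₂ P f) := by
    intro P φ f e
    constructor
    · rintro ⟨hP, φ₁, hφ₁, φ₂, hφ₂, h⟩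
      refine ⟨extFun φ₁, extFun φ₂, isMap_of_mem hφ₁, isMap_of_mem hφ₂, fun x hx => ?_⟩
      rw [← e ⟨x, hx⟩, h ⟨x, hx⟩ (fst_mem hx) (snd_mem hx), extFun_apply φ₁ (fst_mem hx),
        extFun_apply φ₂ (snd_mem hx)]
    · rintro ⟨f₁, f₂, h1, h2, h3⟩
      refine ⟨le_prod_of h1.le h2.le, ?_⟩
      obtain ⟨φ₁, hφ₁, e₁⟩ := h1
      obtain ⟨φ₂, hφ₂, e₂⟩ := h2
      refine ⟨φ₁, hφ₁, φ₂, hφ₂, fun x k1 k2 => ?_⟩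
      rw [e, h3 x x.2]
      exact Prod.ext (e₁ ⟨_, k1⟩).symm (e₂ ⟨_, k2⟩).symm
  constructor
  · intro h P f
    constructor
    · rintro ⟨φ, hφ, e⟩
      exact (key P φ f e).1 ((h P φ).1 hφ)
    · intro hp
      exact ⟨homOf f (pmap_mul hp), (h P _).2 ((key P _ f (fun x => rfl)).2 hp), fun x => rfl⟩
  · intro h P φ
    rw [mem_iff, h P]
    exact (key P φ _ (fun x => (extFun_coe φ x).symm)).symm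

theorem IsPMap.inj (h : IsPMap F₁ F₂ P f) {x y : Ω₁ × Ω₂} (hx : x ∈ P) (hy : y ∈ P) (hxy : f x = f y) : x = y := by
  obtain ⟨f₁, f₂, h1, h2, h3⟩ := h
  rw [h3 x hx, h3 y hy, Prod.mk.injEq] at hxy
  exact Prod.ext (h1.inj (fst_mem hx) (fst_mem hy) hxy.1) (h2.inj (snd_mem hx) (snd_mem hy) hxy.2)

theorem exists_productSystem (F₁ : FusionSystem S₁) (F₂ : FusionSystem S₂) :
    ∃ E : FusionSystem (S₁.prod S₂), IsProductSystem F₁ F₂ E := by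
  refine ⟨{ Hom := fun P => {φ | IsPMap F₁ F₂ P (extFun φ)},
            le_of_mem := ?_, injective_of_mem := ?_, conj_mem := ?_, comp_mem := ?_, inv_mem := ?_ }, ?_⟩
  · rintro P φ ⟨f₁, f₂, h1, h2, h3⟩
    refine ⟨le_prod_of h1.le h2.le, fun x => ?_⟩
    rw [← extFun_coe φ, h3 x x.2]
    exact Subgroup.mem_prod.2 ⟨h1.mem (fst_mem x.2), h2.mem (snd_mem x.2)⟩
  · intro P φ h x y hxy
    refine Subtype.ext (IsPMap.inj h x.2 y.2 ?_)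
    rw [extFun_coe, extFun_coe, hxy]
  · intro P g hP hg
    refine ⟨_, _, isMap_conj F₁ (pr₁_le hP) (Subgroup.mem_prod.1 hg).1,
      isMap_conj F₂ (pr₂_le hP) (Subgroup.mem_prod.1 hg).2, fun x hx => ?_⟩
    rw [extFun_apply _ hx]
    rfl
  · rintro P Q φ ψ ⟨f₁, f₂, h1, h2, h3⟩ ⟨g₁, g₂, k1, k2, k3⟩ h
    have hm : ∀ x ∈ P, (f₁ x.1, f₂ x.2) ∈ Q := fun x hx => by
      rw [← h3 x hx, extFun_apply φ hx]; exact h _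
    refine ⟨g₁ ∘ f₁, g₂ ∘ f₂, h1.comp k1 ?_, h2.comp k2 ?_, fun x hx => ?_⟩
    · rintro _ ⟨z, hz, rfl⟩
      exact ⟨_, hm z hz, rfl⟩
    · rintro _ ⟨z, hz, rfl⟩
      exact ⟨_, hm z hz, rfl⟩
    · rw [extFun_apply _ hx]
      show ψ ⟨φ ⟨x, hx⟩, h ⟨x, hx⟩⟩ = _
      rw [← extFun_apply ψ (h ⟨x, hx⟩), ← extFun_apply φ hx, h3 x hx, k3 _ (hm x hx)]
      rfl
  · rintro P φ ⟨f₁, f₂, h1, h2, h3⟩
    obtain ⟨g₁, hg₁, a1, b1⟩ := h1.isIso.symm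
    obtain ⟨g₂, hg₂, a2, b2⟩ := h2.isIso.symm
    have hr : ∀ y ∈ φ.range, ∃ x ∈ P, y = (f₁ x.1, f₂ x.2) := by
      rintro _ ⟨x, rfl⟩
      exact ⟨x, x.2, by rw [← h3 x x.2, extFun_coe]⟩
    have e1 : pr₁ φ.range ≤ img (pr₁ P) f₁ := by
      rintro _ ⟨z, hz, rfl⟩
      obtain ⟨x, hx, rfl⟩ := hr z hz
      exact apply_mem_img (fst_mem hx)
    have e2 : pr₂ φ.range ≤ img (pr₂ P) f₂ := by
      rintro _ ⟨z, hz, rfl⟩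
      obtain ⟨x, hx, rfl⟩ := hr z hz
      exact apply_mem_img (snd_mem hx)
    have hpm : IsPMap F₁ F₂ φ.range (fun y => (g₁ y.1, g₂ y.2)) :=
      ⟨g₁, g₂, hg₁.isMap.mono e1, hg₂.isMap.mono e2, fun y hy => rfl⟩
    refine ⟨homOf (fun y => (g₁ y.1, g₂ y.2)) (pmap_mul hpm), ?_, fun x => ?_⟩
    · obtain ⟨a, b, c, d, e⟩ := hpm
      refine ⟨a, b, c, d, fun y hy => ?_⟩
      rw [extFun_apply _ hy]
      exact e y hy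
    · show (g₁ (φ x).1, g₂ (φ x).2) = _
      have : φ x = (f₁ (x : Ω₁ × Ω₂).1, f₂ (x : Ω₁ × Ω₂).2) := by rw [← h3 x x.2, extFun_coe]
      rw [this]
      exact Prod.ext (a1 _ (fst_mem x.2)) (a2 _ (snd_mem x.2))
  · rw [isProductSystem_iff]
    intro P f
    constructor
    · rintro ⟨φ, ⟨f₁, f₂, h1, h2, h3⟩, e⟩
      exact ⟨f₁, f₂, h1, h2, fun x hx => by rw [← e ⟨x, hx⟩, ← h3 x hx, extFun_apply φ hx]⟩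
    · intro h
      refine ⟨homOf f (pmap_mul h), ?_, fun x => rfl⟩
      obtain ⟨f₁, f₂, h1, h2, h3⟩ := h
      exact ⟨f₁, f₂, h1, h2, fun x hx => by rw [extFun_apply _ hx]; exact h3 x hx⟩

end H87.Prod
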