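import Cfsg.Agent.Lib.H87.Prod
set_option autoImplicit false

open Cfsg Cfsg.FusionSystem

namespace H87.ProdSat
open H87.Base H87.Basic H87.Syl H87.Sat H87.Prod

section
variable {Ω : Type*} [Group Ω] {S : Subgroup Ω} {F : FusionSystem S} {P Q R : Subgroup Ω} {f g : Ω → Ω} {p : ℕ}

theorem IsIso.map_congrAut (h : IsIso F P Q f) :
    (F.autGroup P).map (IsIso.congrAut h).toMonoidHom = F.autGroup Q := by
  apply le_antisymm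
  · rintro _ ⟨a, ha, rfl⟩
    exact IsIso.congrAut_mem h ha
  · intro b hb
    obtain ⟨g, hg, h1, h2⟩ := h.symm
    refine ⟨IsIso.congrAut hg b, IsIso.congrAut_mem hg hb, ?_⟩
    ext ⟨y, hy⟩
    obtain ⟨x, hx, rfl⟩ := h.surj hy
    rw [MulEquiv.toMonoidHom_eq_coe, MonoidHom.coe_coe, IsIso.congrAut_apply h _ hx]
    have h3 : (⟨x, hx⟩ : P) = ⟨g (f x), hg.mem (h.mem hx)⟩ := Subtype.ext (h1 x hx).symm
    rw [h3, IsIso.congrAut_apply hg b (h.mem hx), h2 _ (b _).2]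

end

variable {Ω₁ Ω₂ : Type*} [Group Ω₁] [Group Ω₂] {S₁ : Subgroup Ω₁} {S₂ : Subgroup Ω₂} {F₁ : FusionSystem S₁}
  {F₂ : FusionSystem S₂} {E : FusionSystem (S₁.prod S₂)} {P Q R : Subgroup (Ω₁ × Ω₂)} {p : ℕ}
  {f g : Ω₁ × Ω₂ → Ω₁ × Ω₂} {f₁ g₁ : Ω₁ → Ω₁} {f₂ g₂ : Ω₂ → Ω₂}

theorem pr_img (hE : ∀ P f, IsMap E P f ↔ IsPMap F₁ F₂ P f) (h1 : IsMap F₁ (pr₁ P) f₁) (h2 : IsMap F₂ (pr₂ P) f₂) :
    IsMap E P (fun x => (f₁ x.1, f₂ x.2)) ∧ pr₁ (img P (fun x => (f₁ x.1, f₂ x.2))) = img (pr₁ P) f₁ ∧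
      pr₂ (img P (fun x => (f₁ x.1, f₂ x.2))) = img (pr₂ P) f₂ := by
  have hm : IsMap E P (fun x => (f₁ x.1, f₂ x.2)) := (hE _ _).2 ⟨f₁, f₂, h1, h2, fun _ _ => rfl⟩
  refine ⟨hm, ?_, ?_⟩
  · ext y
    rw [mem_img h1, mem_pr₁]
    constructor
    · rintro ⟨z, hz, rfl⟩
      obtain ⟨x, hx, rfl⟩ := (mem_img hm).1 hz
      exact ⟨x.1, fst_mem hx, rfl⟩
    · rintro ⟨_, ⟨x, hx, rfl⟩, rfl⟩
      exact ⟨_, (mem_img hm).2 ⟨x, hx, rfl⟩, rfl⟩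
  · ext y
    rw [mem_img h2, mem_pr₂]
    constructor
    · rintro ⟨z, hz, rfl⟩
      obtain ⟨x, hx, rfl⟩ := (mem_img hm).1 hz
      exact ⟨x.2, snd_mem hx, rfl⟩
    · rintro ⟨_, ⟨x, hx, rfl⟩, rfl⟩
      exact ⟨_, (mem_img hm).2 ⟨x, hx, rfl⟩, rfl⟩

/-- components of an isomorphism of the product -/
theorem iso_components (hE : ∀ P f, IsMap E P f ↔ IsPMap F₁ F₂ P f) (hf : IsIso E P Q f) :
    ∃ f₁ f₂, IsIso F₁ (pr₁ P) (pr₁ Q) f₁ ∧ IsIso F₂ (pr₂ P) (pr₂ Q) f₂ ∧ ∀ x ∈ P, f x = (f₁ x.1, f₂ x.2) := by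
  obtain ⟨f₁, f₂, h1, h2, h3⟩ := (hE _ _).1 hf.isMap
  refine ⟨f₁, f₂, h1.isIso_of ?_ ?_, h2.isIso_of ?_ ?_, h3⟩
  · rintro _ ⟨x, hx, rfl⟩
    have := fst_mem (hf.mem hx)
    rwa [h3 x hx] at this
  · rintro _ ⟨y, hy, rfl⟩
    obtain ⟨x, hx, rfl⟩ := hf.surj hy
    exact ⟨x.1, fst_mem hx, by rw [h3 x hx]; rfl⟩
  · rintro _ ⟨x, hx, rfl⟩
    have := snd_mem (hf.mem hx)
    rwa [h3 x hx] at this
  · rintro _ ⟨y, hy, rfl⟩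
    obtain ⟨x, hx, rfl⟩ := hf.surj hy
    exact ⟨x.2, snd_mem hx, by rw [h3 x hx]; rfl⟩

theorem receptive_of (hE : ∀ P f, IsMap E P f ↔ IsPMap F₁ F₂ P f) (h1 : F₁.IsReceptive (pr₁ Q))
    (h2 : F₂.IsReceptive (pr₂ Q)) : E.IsReceptive Q := by
  rw [isReceptive_iff] at h1 h2 ⊢
  refine ⟨le_prod_of h1.1 h2.1, fun P f hf => ?_⟩
  obtain ⟨f₁, f₂, hf₁, hf₂, h3⟩ := iso_components hE hf
  obtain ⟨g₁, hg₁, e₁⟩ := h1.2 _ _ hf₁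
  obtain ⟨g₂, hg₂, e₂⟩ := h2.2 _ _ hf₂
  have hN₁ : pr₁ (nphi (S₁.prod S₂) P f) ≤ nphi S₁ (pr₁ P) f₁ := by
    rintro _ ⟨g, hg, rfl⟩
    obtain ⟨k1, k2, h, hh, k3⟩ := mem_nphi.1 hg
    rw [mem_nphi]
    refine ⟨(Subgroup.mem_prod.1 k1).1, ?_, h.1, (Subgroup.mem_prod.1 hh).1, ?_⟩
    · rw [Subgroup.mem_normalizer_iff] at k2 ⊢
      intro x
      constructor
      · rintro ⟨z, hz, rfl⟩
        exact ⟨_, (k2 z).1 hz, rfl⟩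
      · rintro ⟨z, hz, hz'⟩
        refine ⟨g⁻¹ * z * g, (k2 _).2 ?_, ?_⟩
        · have e : g * (g⁻¹ * z * g) * g⁻¹ = z := by group
          rw [e]; exact hz
        · show g.1⁻¹ * z.1 * g.1 = x
          have hz'' : z.1 = g.1 * x * g.1⁻¹ := hz'
          rw [hz'']; group
    · rintro _ ⟨x, hx, rfl⟩
      have := k3 x hx
      rw [h3 x hx, h3 _ (conj_mem_of_mem_normalizer k2 hx)] at this
      exact congrArg Prod.fst this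
  have hN₂ : pr₂ (nphi (S₁.prod S₂) P f) ≤ nphi S₂ (pr₂ P) f₂ := by
    rintro _ ⟨g, hg, rfl⟩
    obtain ⟨k1, k2, h, hh, k3⟩ := mem_nphi.1 hg
    rw [mem_nphi]
    refine ⟨(Subgroup.mem_prod.1 k1).2, ?_, h.2, (Subgroup.mem_prod.1 hh).2, ?_⟩
    · rw [Subgroup.mem_normalizer_iff] at k2 ⊢
      intro x
      constructor
      · rintro ⟨z, hz, rfl⟩
        exact ⟨_, (k2 z).1 hz, rfl⟩
      · rintro ⟨z, hz, hz'⟩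
        refine ⟨g⁻¹ * z * g, (k2 _).2 ?_, ?_⟩
        · have e : g * (g⁻¹ * z * g) * g⁻¹ = z := by group
          rw [e]; exact hz
        · show g.2⁻¹ * z.2 * g.2 = x
          have hz'' : z.2 = g.2 * x * g.2⁻¹ := hz'
          rw [hz'']; group
    · rintro _ ⟨x, hx, rfl⟩
      have := k3 x hx
      rw [h3 x hx, h3 _ (conj_mem_of_mem_normalizer k2 hx)] at this
      exact congrArg Prod.snd this
  refine ⟨fun x => (g₁ x.1, g₂ x.2), (hE _ _).2 ⟨g₁, g₂, hg₁.mono hN₁, hg₂.mono hN₂, fun _ _ => rfl⟩, fun x hx => ?_⟩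
  rw [h3 x hx]
  exact Prod.ext (e₁ _ (fst_mem hx)) (e₂ _ (snd_mem hx))

theorem saturated_prod [Fact p.Prime] [Finite S₁] [Finite S₂] (hS₁ : IsPGroup p S₁) (hS₂ : IsPGroup p S₂)
    (h₁ : F₁.IsSaturated p) (h₂ : F₂.IsSaturated p) (hE' : IsProductSystem F₁ F₂ E) : E.IsSaturated p := by
  have hE := isProductSystem_iff.1 hE'
  have hfin : Finite (S₁.prod S₂) := Finite.of_equiv _ (Subgroup.prodEquiv S₁ S₂).symm.toEquiv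
  have hpS : IsPGroup p (S₁.prod S₂) := by
    rintro ⟨⟨x, y⟩, hxy⟩
    obtain ⟨hx, hy⟩ := Subgroup.mem_prod.1 hxy
    obtain ⟨k, hk⟩ := hS₁ ⟨x, hx⟩
    obtain ⟨l, hl⟩ := hS₂ ⟨y, hy⟩
    have hk' : x ^ p ^ k = 1 := congrArg Subtype.val hk
    have hl' : y ^ p ^ l = 1 := congrArg Subtype.val hl
    refine ⟨k + l, Subtype.ext (Prod.ext ?_ ?_)⟩
    · show x ^ p ^ (k + l) = 1
      rw [pow_add, pow_mul, hk', one_pow]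
    · show y ^ p ^ (k + l) = 1
      rw [pow_add, mul_comm, pow_mul, hl', one_pow]
  intro P₀ hP₀
  -- a conjugate with nice projections
  obtain ⟨Q, hPQ, hQ₁, hQ₂⟩ : ∃ Q, E.IsConj P₀ Q ∧ IsNice F₁ p (pr₁ Q) ∧ IsNice F₂ p (pr₂ Q) := by
    obtain ⟨Q₁, hc₁, hn₁⟩ := exists_nice h₁ (pr₁_le hP₀)
    obtain ⟨Q₂, hc₂, hn₂⟩ := exists_nice h₂ (pr₂_le hP₀)
    obtain ⟨f₁, hf₁⟩ := isConj_iff.1 hc₁
    obtain ⟨f₂, hf₂⟩ := isConj_iff.1 hc₂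
    obtain ⟨hm, e1, e2⟩ := pr_img hE hf₁.isMap hf₂.isMap
    exact ⟨_, hm.isIso.isConj, by rw [e1, hf₁.eq_img]; exact hn₁, by rw [e2, hf₂.eq_img]; exact hn₂⟩
  have hQS : Q ≤ S₁.prod S₂ := (isConj_le hPQ).2
  have hQfin : Finite Q := finite_of_le hQS
  have hAfin : Finite (MulAut Q) := finite_mulAut
  have hQ1S := pr₁_le hQS
  have hQ2S := pr₂_le hQS
  have : Finite (pr₁ Q) := finite_of_le hQ1S
  have : Finite (pr₂ Q) := finite_of_le hQ2S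
  have : Finite (MulAut (pr₁ Q)) := finite_mulAut
  have : Finite (MulAut (pr₂ Q)) := finite_mulAut
  -- the two homomorphisms
  have hρ₁ : ∀ a : E.autGroup Q, ∃ b : MulAut (pr₁ Q), b ∈ F₁.autGroup (pr₁ Q) ∧
      ∀ x : Q, ((b ⟨(x : Ω₁ × Ω₂).1, fst_mem x.2⟩ : pr₁ Q) : Ω₁) = (((a : MulAut Q) x : Q) : Ω₁ × Ω₂).1 := by
    intro a
    obtain ⟨a₁, a₂, k1, k2, k3⟩ := iso_components hE (isIso_of_mem_autGroup hQS a.2)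
    refine ⟨k1.aut, k1.aut_mem, fun x => ?_⟩
    rw [k1.aut_apply]
    have := k3 x x.2
    rw [extFun_coe] at this
    exact (congrArg Prod.fst this).symm
  have hρ₂ : ∀ a : E.autGroup Q, ∃ b : MulAut (pr₂ Q), b ∈ F₂.autGroup (pr₂ Q) ∧
      ∀ x : Q, ((b ⟨(x : Ω₁ × Ω₂).2, snd_mem x.2⟩ : pr₂ Q) : Ω₂) = (((a : MulAut Q) x : Q) : Ω₁ × Ω₂).2 := by
    intro a
    obtain ⟨a₁, a₂, k1, k2, k3⟩ := iso_components hE (isIso_of_mem_autGroup hQS a.2)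
    refine ⟨k2.aut, k2.aut_mem, fun x => ?_⟩
    rw [k2.aut_apply]
    have := k3 x x.2
    rw [extFun_coe] at this
    exact (congrArg Prod.snd this).symm
  have huniq₁ : ∀ b b' : MulAut (pr₁ Q), (∀ x : Q, ((b ⟨(x : Ω₁ × Ω₂).1, fst_mem x.2⟩ : pr₁ Q) : Ω₁) =
      ((b' ⟨(x : Ω₁ × Ω₂).1, fst_mem x.2⟩ : pr₁ Q) : Ω₁)) → b = b' := by
    intro b b' h
    ext ⟨y, hy⟩
    obtain ⟨x, hx, rfl⟩ := hy
    exact h ⟨x, hx⟩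
  have huniq₂ : ∀ b b' : MulAut (pr₂ Q), (∀ x : Q, ((b ⟨(x : Ω₁ × Ω₂).2, snd_mem x.2⟩ : pr₂ Q) : Ω₂) =
      ((b' ⟨(x : Ω₁ × Ω₂).2, snd_mem x.2⟩ : pr₂ Q) : Ω₂)) → b = b' := by
    intro b b' h
    ext ⟨y, hy⟩
    obtain ⟨x, hx, rfl⟩ := hy
    exact h ⟨x, hx⟩
  let ρ₁ : E.autGroup Q →* MulAut (pr₁ Q) := MonoidHom.mk' (fun a => (hρ₁ a).choose) (by
    intro a b
    apply huniq₁
    intro x
    rw [(hρ₁ (a * b)).choose_spec.2 x, MulAut.mul_apply]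
    have h5 : (hρ₁ b).choose ⟨(x : Ω₁ × Ω₂).1, fst_mem x.2⟩ =
        ⟨(((b : MulAut Q) x : Q) : Ω₁ × Ω₂).1, fst_mem ((b : MulAut Q) x).2⟩ :=
      Subtype.ext ((hρ₁ b).choose_spec.2 x)
    rw [h5, (hρ₁ a).choose_spec.2]
    rfl)
  let ρ₂ : E.autGroup Q →* MulAut (pr₂ Q) := MonoidHom.mk' (fun a => (hρ₂ a).choose) (by
    intro a b
    apply huniq₂
    intro x
    rw [(hρ₂ (a * b)).choose_spec.2 x, MulAut.mul_apply]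
    have h5 : (hρ₂ b).choose ⟨(x : Ω₁ × Ω₂).2, snd_mem x.2⟩ =
        ⟨(((b : MulAut Q) x : Q) : Ω₁ × Ω₂).2, snd_mem ((b : MulAut Q) x).2⟩ :=
      Subtype.ext ((hρ₂ b).choose_spec.2 x)
    rw [h5, (hρ₂ a).choose_spec.2]
    rfl)
  have hρ₁m : ∀ a, ρ₁ a ∈ F₁.autGroup (pr₁ Q) := fun a => (hρ₁ a).choose_spec.1
  have hρ₂m : ∀ a, ρ₂ a ∈ F₂.autGroup (pr₂ Q) := fun a => (hρ₂ a).choose_spec.1
  have hρ₁s : ∀ (a : E.autGroup Q) (x : Q), ((ρ₁ a ⟨(x : Ω₁ × Ω₂).1, fst_mem x.2⟩ : pr₁ Q) : Ω₁) =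
      (((a : MulAut Q) x : Q) : Ω₁ × Ω₂).1 := fun a => (hρ₁ a).choose_spec.2
  have hρ₂s : ∀ (a : E.autGroup Q) (x : Q), ((ρ₂ a ⟨(x : Ω₁ × Ω₂).2, snd_mem x.2⟩ : pr₂ Q) : Ω₂) =
      (((a : MulAut Q) x : Q) : Ω₁ × Ω₂).2 := fun a => (hρ₂ a).choose_spec.2
  obtain ⟨T, -, hT⟩ := exists_sylIn (p := p) (bot_le : (⊥ : Subgroup (MulAut Q)) ≤ E.autGroup Q) (IsPGroup.of_bot)
  have hTs : IsPGroup p (T.subgroupOf (E.autGroup Q)) := isPGroup_subgroupOf hT.isP _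
  obtain ⟨a₁, ha₁, hc₁⟩ := (isFullyAutomized_iff.1 hQ₁.1).2.conj
    (B := (T.subgroupOf (E.autGroup Q)).map ρ₁) (by rintro _ ⟨a, -, rfl⟩; exact hρ₁m a) (hTs.map _)
  obtain ⟨a₂, ha₂, hc₂⟩ := (isFullyAutomized_iff.1 hQ₂.1).2.conj
    (B := (T.subgroupOf (E.autGroup Q)).map ρ₂) (by rintro _ ⟨a, -, rfl⟩; exact hρ₂m a) (hTs.map _)
  have hi₁ := isIso_of_mem_autGroup hQ1S ha₁
  have hi₂ := isIso_of_mem_autGroup hQ2S ha₂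
  obtain ⟨hm, e1, e2⟩ := pr_img hE hi₁.isMap hi₂.isMap
  rw [hi₁.eq_img] at e1
  rw [hi₂.eq_img] at e2
  set h : Ω₁ × Ω₂ → Ω₁ × Ω₂ := fun x => (extFun ((pr₁ Q).subtype.comp a₁.toMonoidHom) x.1,
    extFun ((pr₂ Q).subtype.comp a₂.toMonoidHom) x.2) with hh
  have hiso := hm.isIso
  set Q' := img Q h with hQ'
  have hQ'S : Q' ≤ S₁.prod S₂ := hiso.le'
  have hQ'fin : Finite Q' := finite_of_le hQ'S
  have hA'fin : Finite (MulAut Q') := finite_mulAut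
  refine ⟨Q', isConj_trans hPQ hiso.isConj, ?_, receptive_of hE (e1 ▸ hQ₁.2) (e2 ▸ hQ₂.2)⟩
  rw [isFullyAutomized_iff]
  refine ⟨hQ'S, ?_⟩
  have hT' := hT.map (IsIso.congrAut hiso).toMonoidHom
  rw [IsIso.map_congrAut hiso] at hT'
  have hle : T.map (IsIso.congrAut hiso).toMonoidHom ≤ autInducedBy (S₁.prod S₂) Q' := by
    rintro _ ⟨t, ht, rfl⟩
    have htA := hT.le ht
    obtain ⟨s₁, hs₁, k1⟩ := mem_autInducedBy.1 (hc₁ _ ⟨⟨t, htA⟩, ht, rfl⟩)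
    obtain ⟨s₂, hs₂, k2⟩ := mem_autInducedBy.1 (hc₂ _ ⟨⟨t, htA⟩, ht, rfl⟩)
    rw [mem_autInducedBy]
    refine ⟨(s₁, s₂), Subgroup.mem_prod.2 ⟨hs₁, hs₂⟩, ?_⟩
    rintro ⟨y, hy⟩
    obtain ⟨x, hx, rfl⟩ := hiso.surj hy
    rw [MulEquiv.toMonoidHom_eq_coe, MonoidHom.coe_coe, IsIso.congrAut_apply hiso t hx]
    have hx1 := fst_mem hx
    have hx2 := snd_mem hx
    refine Prod.ext ?_ ?_
    · have k3 := k1 (a₁ ⟨x.1, hx1⟩)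
      simp only [MulAut.mul_apply, MulAut.inv_apply_self] at k3
      show extFun ((pr₁ Q).subtype.comp a₁.toMonoidHom) ((t ⟨x, hx⟩ : Q) : Ω₁ × Ω₂).1 =
        s₁ * extFun ((pr₁ Q).subtype.comp a₁.toMonoidHom) x.1 * s₁⁻¹
      rw [extFun_apply _ hx1, extFun_apply _ (fst_mem (t ⟨x, hx⟩).2)]
      refine Eq.trans ?_ k3
      show ((a₁ _ : pr₁ Q) : Ω₁) = _
      congr 2
      exact Subtype.ext (hρ₁s ⟨t, htA⟩ ⟨x, hx⟩).symm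
    · have k3 := k2 (a₂ ⟨x.2, hx2⟩)
      simp only [MulAut.mul_apply, MulAut.inv_apply_self] at k3
      show extFun ((pr₂ Q).subtype.comp a₂.toMonoidHom) ((t ⟨x, hx⟩ : Q) : Ω₁ × Ω₂).2 =
        s₂ * extFun ((pr₂ Q).subtype.comp a₂.toMonoidHom) x.2 * s₂⁻¹
      rw [extFun_apply _ hx2, extFun_apply _ (snd_mem (t ⟨x, hx⟩).2)]
      refine Eq.trans ?_ k3
      show ((a₂ _ : pr₂ Q) : Ω₂) = _
      congr 2
      exact Subtype.ext (hρ₂s ⟨t, htA⟩ ⟨x, hx⟩).symm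
  have heq := hT'.max _ (autInducedBy_le_autGroup E hQ'S) (isPGroup_autInducedBy hpS) hle
  rw [heq]; exact hT'

end H87.ProdSat
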