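import Cfsg.Agent.Lib.H90.Transfer
import Cfsg.Agent.Lib.H87.PPow
set_option autoImplicit false

open Cfsg Cfsg.FusionSystem

/-! Subsystems of `p`-power index: traces of lifts of maps of the system to a transfer datum. -/

namespace H87.TrIdx

open H88.TransferDatum H90.Transfer

/-! ### Generalities on actions -/

/-- A cocycle restricting to the homomorphism `θ` on all point stabilizers is cohomologous to `θ`. -/
theorem gauge {X I Γ : Type*} [Group X] [MulAction X I] [CommGroup Γ] (θ : X →* Γ) (f : X → I → Γ)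
    (hf : ∀ a b i, f (a * b) i = f a (b • i) * f b i) (hs : ∀ i a, a • i = i → f a i = θ a) :
    ∃ u : I → Γ, ∀ a i, f a i = θ a * u (a • i) * (u i)⁻¹ := by
  classical
  let r : I → I := fun i => (Quotient.mk (MulAction.orbitRel X I) i).out
  have hr : ∀ i, ∃ s : X, s • r i = i := by
    intro i
    have h1 : (MulAction.orbitRel X I).r (r i) i := Quotient.mk_out (s := MulAction.orbitRel X I) i
    have h2 : ∃ s : X, s • i = r i := h1
    obtain ⟨s, hs⟩ := h2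
    exact ⟨s⁻¹, by rw [← hs, inv_smul_smul]⟩
  choose s hs' using hr
  have hra : ∀ (a : X) i, r (a • i) = r i := by
    intro a i
    have : Quotient.mk (MulAction.orbitRel X I) (a • i) = Quotient.mk (MulAction.orbitRel X I) i :=
      Quotient.sound ⟨a, rfl⟩
    show (Quotient.mk _ (a • i)).out = _
    rw [this]
  refine ⟨fun i => f (s i) (r i) * (θ (s i))⁻¹, fun a i => ?_⟩
  set j := r i with hj
  have h1 : r (a • i) = j := hra a i
  have h2 : s (a • i) • j = a • i := by rw [← h1]; exact hs' _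
  have h3 : s i • j = i := hs' i
  set t := (a * s i)⁻¹ * s (a • i) with ht
  have h4 : t • j = j := by
    rw [ht, mul_smul, h2, mul_inv_rev, mul_smul, inv_smul_smul, inv_smul_eq_iff, h3]
  have h5 : s (a • i) = (a * s i) * t := by rw [ht]; group
  have h6 : f (s (a • i)) j = f a i * f (s i) j * θ t := by
    rw [h5, hf, h4, hf, h3, hs j t h4]
  have h7 : θ (s (a • i)) = θ a * θ (s i) * θ t := by rw [h5, map_mul, map_mul]
  show f a i = θ a * (f (s (a • i)) (r (a • i)) * (θ (s (a • i)))⁻¹) * (f (s i) j * (θ (s i))⁻¹)⁻¹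
  rw [h1, h6, h7]
  have : θ a * (f a i * f (s i) j * θ t * (θ a * θ (s i) * θ t)⁻¹) * (f (s i) j * (θ (s i))⁻¹)⁻¹ =
      f a i * (θ a * (θ a)⁻¹) * (f (s i) j * (f (s i) j)⁻¹) * (θ t * (θ t)⁻¹) * (θ (s i) * (θ (s i))⁻¹) := by
    simp only [mul_inv_rev, inv_inv]
    ac_rfl
  rw [this]
  simp

/-- An invariant function on a set acted on by a `p`-group, with values in an abelian group of exponent `p`, has the same
product as its restriction to the fixed points. -/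
theorem prod_fixed {X I Γ : Type*} [Group X] [MulAction X I] [CommGroup Γ] [Fintype I] {p : ℕ} [Fact p.Prime]
    (hX : IsPGroup p X) (hΓ : ∀ γ : Γ, γ ^ p = 1) (F : I → Γ) (hF : ∀ (a : X) i, F (a • i) = F i)
    [DecidablePred fun i : I => ∀ a : X, a • i = i] :
    ∏ i, F i = ∏ i : {i : I // ∀ a : X, a • i = i}, F i := by
  classical
  have key : ∀ γ : Γ, γ ^ (Fintype.card {i : I // F i = γ}) =
      γ ^ (Fintype.card {i : {i : I // ∀ a : X, a • i = i} // F i = γ}) := by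
    intro γ
    let act : MulAction X {i : I // F i = γ} :=
      { smul := fun a i => ⟨a • i.1, by rw [hF, i.2]⟩
        one_smul := fun i => Subtype.ext (one_smul X i.1)
        mul_smul := fun a b i => Subtype.ext (mul_smul a b i.1) }
    have h1 := hX.card_modEq_card_fixedPoints {i : I // F i = γ}
    have h2 : Nat.card (MulAction.fixedPoints X {i : I // F i = γ}) =
        Nat.card {i : {i : I // ∀ a : X, a • i = i} // F i = γ} := by
      refine Nat.card_congr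
        { toFun := fun i => ⟨⟨i.1.1, fun a => congrArg Subtype.val (i.2 a)⟩, i.1.2⟩
          invFun := fun i => ⟨⟨i.1.1, i.2⟩, fun a => Subtype.ext (i.1.2 a)⟩
          left_inv := fun i => rfl
          right_inv := fun i => rfl }
    rw [h2, Nat.card_eq_fintype_card, Nat.card_eq_fintype_card] at h1
    rw [pow_eq_pow_iff_modEq]
    exact h1.of_dvd (orderOf_dvd_of_pow_eq_one (hΓ γ))
  have h1 : ∏ i, F i = ∏ γ ∈ Finset.univ.image F, γ ^ (Fintype.card {i : I // F i = γ}) := by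
    rw [Finset.prod_comp (fun γ => γ) F]
    refine Finset.prod_congr rfl fun γ _ => ?_
    rw [Fintype.card_subtype]
  have h2 : ∏ i : {i : I // ∀ a : X, a • i = i}, F i =
      ∏ γ ∈ Finset.univ.image F, γ ^ (Fintype.card {i : {i : I // ∀ a : X, a • i = i} // F i = γ}) := by
    rw [Finset.prod_comp (fun γ => γ) (fun i : {i : I // ∀ a : X, a • i = i} => F i)]
    refine (Finset.prod_subset ?_ ?_).trans (Finset.prod_congr rfl fun γ _ => by rw [Fintype.card_subtype])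
    · intro γ hγ
      obtain ⟨i, -, rfl⟩ := Finset.mem_image.1 hγ
      exact Finset.mem_image.2 ⟨i, Finset.mem_univ _, rfl⟩
    · intro γ _ hγ
      have : (Finset.univ.filter fun i : {i : I // ∀ a : X, a • i = i} => F i = γ) = ∅ := by
        rw [Finset.filter_eq_empty_iff]
        intro i _ hi
        exact hγ (Finset.mem_image.2 ⟨i, Finset.mem_univ _, hi⟩)
      rw [this, Finset.card_empty, pow_zero]
  rw [h1, h2]
  exact Finset.prod_congr rfl fun γ _ => key γ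

/-! ### Lifts and traces -/

open H87.Base H87.Basic H87.Syl H87.Sat H87.Grow H87.Inv H87.Frat H87.Trans H87.Cut H87.Bridge H87.PPow

universe u
variable {Ω : Type u} [Group Ω] {S T : Subgroup Ω} {F : FusionSystem S} {P Q R : Subgroup Ω} {f g h : Ω → Ω} {p : ℕ}
  {I : Type u} [MulAction S I] (D : Datum F p I)

/-- `(σ, d)` lifts the map `f` on `P`. -/
def Lifts (P : Subgroup Ω) (f : Ω → Ω) (σ : Equiv.Perm I) (d : I → S) : Prop :=
  ∀ (a : Ω) (_ : a ∈ P) (ha : a ∈ S) (hfa : f a ∈ S) (i : I),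
    σ ((⟨a, ha⟩ : S) • i) = (⟨f a, hfa⟩ : S) • σ i ∧
      D.c ⟨f a, hfa⟩ (σ i) * d i = d ((⟨a, ha⟩ : S) • i) * D.c ⟨a, ha⟩ i

theorem exists_lifts (hf : IsMap F P f) : ∃ (σ : Equiv.Perm I) (d : I → S), Lifts D P f σ d := by
  obtain ⟨φ, hφ, e⟩ := hf
  obtain ⟨σ, d, hd⟩ := D.stable P φ hφ
  refine ⟨σ, d, fun a ha haS hfa i => ?_⟩
  have h1 := hd ⟨a, haS⟩ ha i
  have h2 : (⟨φ ⟨a, ha⟩, H86.FusBasic.apply_mem F hφ _⟩ : S) = ⟨f a, hfa⟩ := Subtype.ext (e ⟨a, ha⟩)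
  have h3 : (⟨φ ⟨((⟨a, haS⟩ : S) : Ω), ha⟩, H86.FusBasic.apply_mem F hφ _⟩ : S) = ⟨f a, hfa⟩ := h2
  rw [h3] at h1
  exact h1

variable {D}


theorem Lifts.mono {σ : Equiv.Perm I} {d : I → S} (h : Lifts D P f σ d) (hQ : Q ≤ P) : Lifts D Q f σ d :=
  fun a ha haS hfa i => h a (hQ ha) haS hfa i

theorem Lifts.congr {σ : Equiv.Perm I} {d : I → S} (h : Lifts D P f σ d) (e : ∀ x ∈ P, f x = g x) :
    Lifts D P g σ d := by
  intro a ha haS hga i
  have hfa : f a ∈ S := by rw [e a ha]; exact hga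
  have h1 : (⟨f a, hfa⟩ : S) = ⟨g a, hga⟩ := Subtype.ext (e a ha)
  rw [← h1]
  exact h a ha haS hfa i

theorem Lifts.comp {σ σ' : Equiv.Perm I} {d d' : I → S} (h1 : Lifts D P f σ d) (h2 : Lifts D Q g σ' d')
    (hP : P ≤ S) (hf : ∀ x ∈ P, f x ∈ Q) (hQ : Q ≤ S) :
    Lifts D P (g ∘ f) (σ.trans σ') (fun i => d' (σ i) * d i) := by
  intro a ha haS hga i
  have hfa : f a ∈ S := hQ (hf a ha)
  obtain ⟨k1, k2⟩ := h1 a ha haS hfa i
  obtain ⟨k3, k4⟩ := h2 (f a) (hf a ha) hfa hga (σ i)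
  refine ⟨?_, ?_⟩
  · show σ' (σ _) = _ • σ' (σ i)
    rw [k1, k3]; rfl
  · show D.c _ (σ' (σ i)) * (d' (σ i) * d i) = (d' (σ _) * d _) * _
    rw [k1, mul_assoc, ← k2, ← mul_assoc, ← mul_assoc]
    congr 1

theorem Lifts.symm {σ : Equiv.Perm I} {d : I → S} (h1 : Lifts D P f σ d) (hf : IsIso F P Q f)
    (hg : ∀ x ∈ P, g (f x) = x) : Lifts D Q g σ.symm (fun i => (d (σ.symm i))⁻¹) := by
  intro b hb hbS hgb i
  obtain ⟨a, ha, rfl⟩ := hf.surj hb
  have haS : a ∈ S := hf.le ha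
  have e : (⟨g (f a), hgb⟩ : S) = ⟨a, haS⟩ := Subtype.ext (hg a ha)
  rw [e]
  obtain ⟨k1, k2⟩ := h1 a ha haS hbS (σ.symm i)
  rw [Equiv.apply_symm_apply] at k1 k2
  have k3 : σ.symm ((⟨f a, hbS⟩ : S) • i) = (⟨a, haS⟩ : S) • σ.symm i := by
    rw [← k1, Equiv.symm_apply_apply]
  refine ⟨k3, ?_⟩
  show D.c ⟨a, haS⟩ (σ.symm i) * (d (σ.symm i))⁻¹ = (d (σ.symm (_ • i)))⁻¹ * D.c ⟨f a, hbS⟩ i
  rw [k3, mul_inv_eq_iff_eq_mul, mul_assoc, k2, inv_mul_cancel_left]

theorem lifts_conj (D : Datum F p I) (s : S) : Lifts D S (fun x => (s : Ω) * x * (s : Ω)⁻¹) (MulAction.toPerm s)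
    (fun i => D.c s i) := by
  intro a ha haS hga i
  have e : (⟨(s : Ω) * a * (s : Ω)⁻¹, hga⟩ : S) = s * ⟨a, haS⟩ * s⁻¹ := rfl
  rw [e]
  refine ⟨?_, ?_⟩
  · show s • (_ : S) • i = (s * ⟨a, haS⟩ * s⁻¹) • s • i
    rw [smul_smul, smul_smul]
    congr 1
    group
  · show D.c (s * ⟨a, haS⟩ * s⁻¹) (s • i) * D.c s i = D.c s ((⟨a, haS⟩ : S) • i) * D.c ⟨a, haS⟩ i
    rw [← D.cocycle, ← D.cocycle]
    congr 1
    group

theorem c_one (D : Datum F p I) (i : I) : D.c 1 i = 1 := by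
  have h := D.cocycle 1 1 i
  rw [one_smul, mul_one] at h
  exact mul_eq_left.1 h.symm

variable {Γ : Type*} [CommGroup Γ]

/-- `θ` is invariant under the system. -/
def ThInv (F : FusionSystem S) (θ : S →* Γ) : Prop := ∀ (P : Subgroup Ω) (f : Ω → Ω), IsMap F P f →
  ∀ x (_ : x ∈ P) (hxS : x ∈ S) (hfx : f x ∈ S), θ ⟨f x, hfx⟩ = θ ⟨x, hxS⟩

theorem th_fix (D : Datum F p I) {θ : S →* Γ} (hθ : ThInv F θ) (i : I) (a : S) (ha : a • i = i) :
    θ (D.c a i) = θ a := by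
  obtain ⟨P, φ, hφ, hP, hx⟩ := D.mem_of_fix i
  have haP := (hP a).1 ha
  have h1 := hx a haP
  have h2 := hθ P _ (isMap_of_mem hφ) a haP a.2 (by rw [extFun_apply _ haP, h1]; exact (D.c a i).2)
  have h3 : (⟨extFun φ a, by rw [extFun_apply _ haP, h1]; exact (D.c a i).2⟩ : S) = D.c a i :=
    Subtype.ext (by show extFun φ a = _; rw [extFun_apply _ haP, h1])
  rw [h3] at h2
  exact h2

variable [Fintype I]

/-- `γ` is the trace of some lift of `f` on `P`. -/
def Tr (D : Datum F p I) (θ : S →* Γ) (P : Subgroup Ω) (f : Ω → Ω) (γ : Γ) : Prop :=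
  ∃ (σ : Equiv.Perm I) (d : I → S), Lifts D P f σ d ∧ ∏ i, θ (d i) = γ

variable {θ : S →* Γ} {γ δ : Γ}

theorem exists_tr (D : Datum F p I) (θ : S →* Γ) (hf : IsMap F P f) : ∃ γ, Tr D θ P f γ := by
  obtain ⟨σ, d, h⟩ := exists_lifts D hf
  exact ⟨_, σ, d, h, rfl⟩

theorem Tr.mono (h : Tr D θ P f γ) (hQ : Q ≤ P) : Tr D θ Q f γ := by
  obtain ⟨σ, d, h, e⟩ := h
  exact ⟨σ, d, h.mono hQ, e⟩

theorem Tr.congr (h : Tr D θ P f γ) (e : ∀ x ∈ P, f x = g x) : Tr D θ P g γ := by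
  obtain ⟨σ, d, h, e'⟩ := h
  exact ⟨σ, d, h.congr e, e'⟩

theorem Tr.comp (h1 : Tr D θ P f γ) (h2 : Tr D θ Q g δ) (hP : P ≤ S) (hf : ∀ x ∈ P, f x ∈ Q) (hQ : Q ≤ S) :
    Tr D θ P (g ∘ f) (δ * γ) := by
  obtain ⟨σ, d, h, rfl⟩ := h1
  obtain ⟨σ', d', h', rfl⟩ := h2
  refine ⟨_, _, h.comp h' hP hf hQ, ?_⟩
  simp only [map_mul]
  rw [Finset.prod_mul_distrib]
  congr 1
  exact Equiv.prod_comp σ (fun i => θ (d' i))

theorem Tr.symm (h1 : Tr D θ P f γ) (hf : IsIso F P Q f) (hg : ∀ x ∈ P, g (f x) = x) : Tr D θ Q g γ⁻¹ := by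
  obtain ⟨σ, d, h, rfl⟩ := h1
  refine ⟨_, _, h.symm hf hg, ?_⟩
  simp only [map_inv]
  rw [Finset.prod_inv_distrib]
  congr 1
  exact Equiv.prod_comp σ.symm (fun i => θ (d i))

theorem tr_conj (D : Datum F p I) (hθ : ThInv F θ) {s : Ω} (hs : s ∈ S) (hP : P ≤ S) :
    Tr D θ P (fun x => s * x * s⁻¹) (θ ⟨s, hs⟩ ^ Fintype.card I) := by
  refine Tr.mono ⟨_, _, lifts_conj D ⟨s, hs⟩, ?_⟩ hP
  apply prod_eq_pow_of_loops (MulAction.toPerm (⟨s, hs⟩ : S))
  set z : S := ⟨s, hs⟩ with hz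
  intro i m hm
  have h1 : ∀ m : ℕ, ∏ k ∈ Finset.range m, θ (D.c z (((MulAction.toPerm z : Equiv.Perm I) ^ k) i)) =
      θ (D.c (z ^ m) i) := by
    intro m
    induction m with
    | zero => rw [Finset.prod_range_zero, pow_zero, c_one, map_one]
    | succ m ih =>
      rw [Finset.prod_range_succ, ih, pow_succ', D.cocycle, map_mul, mul_comm]
      congr 3
      exact (congrFun (congrArg DFunLike.coe (map_pow (MulAction.toPermHom S I) z m)) i).symm
  rw [h1]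
  have hfix : z ^ m • i = i := by
    have h5 := (congrFun (congrArg DFunLike.coe (map_pow (MulAction.toPermHom S I) z m)) i)
    exact h5.trans hm
  rw [th_fix D hθ i _ hfix, map_pow]

/-- Lifts of the identity of `P` have trivial trace if `θ` kills `C_S(ψ(P))` for all `ψ`. -/
theorem tr_id [Fact p.Prime] (hS : IsPGroup p S) (hΓ : ∀ γ : Γ, γ ^ p = 1) (hθ : ThInv F θ) (hP : P ≤ S)
    (hC : ∀ ψ, IsMap F P ψ → ∀ c (hc : c ∈ S), (∀ x ∈ P, c * ψ x = ψ x * c) → θ ⟨c, hc⟩ = 1)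
    (h : Tr D θ P (fun x => x) γ) : γ = 1 := by
  classical
  obtain ⟨σ, d, hl, rfl⟩ := h
  obtain ⟨u, hu⟩ := gauge θ (fun a i => θ (D.c a i)) (fun a b i => by simp only [D.cocycle, map_mul])
    (fun i a ha => th_fix D hθ i a ha)
  -- the action of `P`
  let P' : Subgroup S := P.subgroupOf S
  have hP' : IsPGroup p P' := hS.to_subgroup P'
  have hl' : ∀ (a : P') (i : I), σ (a • i) = a • σ i ∧ D.c a (σ i) * d i = d (a • i) * D.c a i := by
    rintro ⟨⟨a, haS⟩, ha⟩ i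
    exact hl a ha haS haS i
  let K : I → Γ := fun i => θ (d i) * u i * (u (σ i))⁻¹
  have hK : ∀ (a : P') i, K (a • i) = K i := by
    intro a i
    obtain ⟨h1, h2⟩ := hl' a i
    have h3 := congrArg θ h2
    rw [map_mul, map_mul, hu, hu] at h3
    have h4 : ((a : S) • σ i : I) = σ (a • i) := h1.symm
    rw [h4] at h3
    show θ (d (a • i)) * u (a • i) * (u (σ (a • i)))⁻¹ = θ (d i) * u i * (u (σ i))⁻¹
    have h5 : θ (a : S) * u (σ (a • i)) * (u (σ i))⁻¹ * θ (d i) =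
      θ (d (a • i)) * (θ (a : S) * u (a • i) * (u i)⁻¹) := h3
    have h6 : θ (d (a • i)) * u (a • i) = (θ (a : S))⁻¹ * (θ (d (a • i)) * (θ (a : S) * u (a • i) * (u i)⁻¹)) * u i := by
      have : (θ (a : S))⁻¹ * (θ (d (a • i)) * (θ (a : S) * u (a • i) * (u i)⁻¹)) * u i =
        (θ (d (a • i)) * u (a • i)) * ((θ (a : S))⁻¹ * θ (a : S)) * ((u i)⁻¹ * u i) := by ac_rfl
      rw [this]; simp
    rw [h6, ← h5]
    have : (θ (a : S))⁻¹ * (θ (a : S) * u (σ (a • i)) * (u (σ i))⁻¹ * θ (d i)) * u i * (u (σ (a • i)))⁻¹ =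
      (θ (d i) * u i * (u (σ i))⁻¹) * ((θ (a : S))⁻¹ * θ (a : S)) * (u (σ (a • i)) * (u (σ (a • i)))⁻¹) := by ac_rfl
    rw [this]; simp
  have h1 : ∏ i, θ (d i) = ∏ i, K i := by
    show _ = ∏ i, θ (d i) * u i * (u (σ i))⁻¹
    rw [Finset.prod_mul_distrib, Finset.prod_mul_distrib, Finset.prod_inv_distrib, Equiv.prod_comp σ u,
      mul_inv_cancel_right]
  have h2 := prod_fixed hP' hΓ K hK
  -- restrict `σ` to the fixed points
  have hfix : ∀ i : I, (∀ a : P', a • i = i) ↔ (∀ a : P', a • σ i = σ i) := by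
    intro i
    constructor
    · intro h a
      rw [← (hl' a i).1, h a]
    · intro h a
      apply σ.injective
      rw [(hl' a i).1, h a]
  let σ' : Equiv.Perm {i : I // ∀ a : P', a • i = i} := σ.subtypePerm (fun i => (hfix i).symm)
  have h3 : ∏ i : {i : I // ∀ a : P', a • i = i}, K i = ∏ i : {i : I // ∀ a : P', a • i = i}, θ (d i) := by
    show ∏ i : {i : I // ∀ a : P', a • i = i}, θ (d i) * u i * (u (σ i))⁻¹ = _
    rw [Finset.prod_mul_distrib, Finset.prod_mul_distrib, Finset.prod_inv_distrib]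
    have h4 : ∏ i : {i : I // ∀ a : P', a • i = i}, u (σ i) = ∏ i : {i : I // ∀ a : P', a • i = i}, u i :=
      Equiv.prod_comp σ' (fun i => u i)
    rw [h4, mul_inv_cancel_right]
  rw [h1, h2, h3]
  apply prod_eq_one_of_loops σ'
  intro i m hm
  -- products along the orbit
  have key : ∀ m : ℕ, ∃ e : S, ∏ k ∈ Finset.range m, θ (d ((σ' ^ k) i : {i : I // ∀ a : P', a • i = i})) = θ e ∧
      ∀ a : P', D.c a ((σ' ^ m) i : {i : I // ∀ a : P', a • i = i}) * e = e * D.c a i := by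
    intro m
    induction m with
    | zero => exact ⟨1, by rw [Finset.prod_range_zero, map_one], fun a => by rw [mul_one, one_mul]; rfl⟩
    | succ m ih =>
      obtain ⟨e, he, hc⟩ := ih
      refine ⟨d ((σ' ^ m) i : {i : I // ∀ a : P', a • i = i}) * e, ?_, fun a => ?_⟩
      · rw [Finset.prod_range_succ, he, map_mul, mul_comm]
      · have h5 := (hl' a ((σ' ^ m) i : {i : I // ∀ a : P', a • i = i})).2
        rw [((σ' ^ m) i).2 a] at h5
        have h6 : (((σ' ^ (m + 1)) i : {i : I // ∀ a : P', a • i = i}) : I) =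
            σ ((σ' ^ m) i : {i : I // ∀ a : P', a • i = i}) := by
          rw [pow_succ', Equiv.Perm.mul_apply]
          rfl
        rw [h6, ← mul_assoc, h5, mul_assoc, hc, mul_assoc]
  obtain ⟨e, he, hc⟩ := key m
  rw [he]
  rw [hm] at hc
  -- the map at `i`
  obtain ⟨R, φ, hφ, hR, hx⟩ := D.mem_of_fix (i : I)
  have hPR : P ≤ R := by
    intro x hx'
    have := i.2 ⟨⟨x, hP hx'⟩, hx'⟩
    exact (hR ⟨x, hP hx'⟩).1 this
  have h7 := hC (extFun φ) ((isMap_of_mem hφ).mono hPR) e e.2 fun x hx' => by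
    have h8 := congrArg Subtype.val (hc ⟨⟨x, hP hx'⟩, hx'⟩)
    have h9 := hx ⟨x, hP hx'⟩ (hPR hx')
    rw [extFun_apply _ (hPR hx')]
    have h10 : φ ⟨x, hPR hx'⟩ = (D.c ⟨x, hP hx'⟩ (i : I) : Ω) := h9
    rw [h10]
    exact h8.symm
  exact h7

end H87.TrIdx
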